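import Groth.Agent.BunMod.K670.MapTo
import Groth.Agent.Fdesc.LocGenPullback

/-!
# Iterated pull-backs, on sections
-/

set_option autoImplicit false
universe u

open CategoryTheory CategoryTheory.Limits AlgebraicGeometry TopologicalSpace

namespace K670.PbComp

open Groth.Agent.Sga67.Sec Groth.Agent.Sga67.LocBasis Groth.Agent.Krr.H487.LocBasisPull MapTo

variable {X Y Z : Scheme.{u}}

theorem exists_comp_iso (f : X ⟶ Y) (g : Y ⟶ Z) (h : X ⟶ Z) (e : f ≫ g = h) (M : Z.Modules) :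
    ∃ θ : (Scheme.Modules.pullback f).obj ((Scheme.Modules.pullback g).obj M) ≅ (Scheme.Modules.pullback h).obj M,
      ∀ (V : Z.Opens) (m : Sec M V) (hle : h ⁻¹ᵁ V ≤ f ⁻¹ᵁ (g ⁻¹ᵁ V)),
        res _ hle (appS θ.hom (f ⁻¹ᵁ (g ⁻¹ᵁ V)) (pbS f _ (pbS g M m))) = pbS h M m := by
  subst e
  refine ⟨(Scheme.Modules.pullbackComp f g).app M, fun V m hle => ?_⟩
  refine (congrArg (res _ hle) (Groth.Agent.Fdesc.LocGen.pullSec_comp' f g m)).trans ?_
  exact res_self _ _ _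

theorem pbS_id {M : X.Modules} {V : X.Opens} (m : Sec M V) :
    appS ((Scheme.Modules.pullbackId X).hom.app M) V (pbS (𝟙 X) M m) = m := by
  have h := unit_conjugateEquiv .id (Scheme.Modules.pullbackPushforwardAdjunction (𝟙 X))
    (Scheme.Modules.pullbackId X).hom M
  rw [Scheme.Modules.conjugateEquiv_pullbackId_hom] at h
  exact congr((Scheme.Modules.Hom.app $h V) m).symm

theorem exists_id_iso (h : X ⟶ X) (e : h = 𝟙 X) (M : X.Modules) :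
    ∃ θ : (Scheme.Modules.pullback h).obj M ≅ M,
      ∀ (V : X.Opens) (m : Sec M V) (hle : V ≤ h ⁻¹ᵁ V), res _ hle (appS θ.hom (h ⁻¹ᵁ V) (pbS h M m)) = m := by
  subst e
  refine ⟨(Scheme.Modules.pullbackId X).app M, fun V m hle => ?_⟩
  refine (congrArg (res _ hle) (pbS_id m)).trans ?_
  exact res_self _ _ _

/-- `f^* g^* M ≅ M` if `f ≫ g = 𝟙`. -/
theorem exists_section_iso (f : X ⟶ Y) (g : Y ⟶ X) (e : f ≫ g = 𝟙 X) (M : X.Modules) :
    ∃ θ : (Scheme.Modules.pullback f).obj ((Scheme.Modules.pullback g).obj M) ≅ M,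
      ∀ (V : X.Opens) (m : Sec M V) (hle : V ≤ f ⁻¹ᵁ (g ⁻¹ᵁ V)),
        res _ hle (appS θ.hom (f ⁻¹ᵁ (g ⁻¹ᵁ V)) (pbS f _ (pbS g M m))) = m := by
  obtain ⟨θ₁, h₁⟩ := exists_comp_iso f g (f ≫ g) rfl M
  obtain ⟨θ₂, h₂⟩ := exists_id_iso (f ≫ g) e M
  refine ⟨θ₁ ≪≫ θ₂, fun V m hle => ?_⟩
  have h3 : appS θ₁.hom (f ⁻¹ᵁ (g ⁻¹ᵁ V)) (pbS f _ (pbS g M m)) = pbS (f ≫ g) M m :=
    (res_self _ le_rfl _).symm.trans (h₁ V m le_rfl)
  have h4 := h₂ V m hle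
  rw [← h3] at h4
  exact h4

end K670.PbComp
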