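import Groth.Agent.BunMod.K670.Fam
import Groth.Agent.BunMod.K670.PbComp

/-!
# The fibres of the Hecke families at `k`-points
-/

set_option autoImplicit false
universe u

open CategoryTheory CategoryTheory.Limits AlgebraicGeometry TopologicalSpace

namespace K670.Fam

open K140.BM Groth.Agent.Sga67.Sec Groth.Agent.Sga67.LocBasis Groth.Agent.Krr.H487.LocBasisPull MapTo BC PbComp

variable {k : Type u} [Field k] {X : Scheme.{u}} [X.Over (Spec (CommRingCat.of k))]

section ip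

variable (T : Over (B0 k)) (p : Spec (CommRingCat.of k) ⟶ T.left) (hp : p ≫ T.hom = 𝟙 _)

/-- The inclusion of the fibre at a `k`-point. -/
noncomputable def ip : X ⟶ PicF.XT (st k X) T :=
  pullback.lift (𝟙 X) (st k X ≫ p) (by rw [Category.id_comp, Category.assoc, hp, Category.comp_id])

theorem ip_fst : ip T p hp ≫ pullback.fst (st k X) T.hom = 𝟙 X := pullback.lift_fst _ _ _

theorem ip_snd : ip T p hp ≫ PicF.XTproj (st k X) T = st k X ≫ p := pullback.lift_snd _ _ _

theorem isPullback_ip : IsPullback (ip (X := X) T p hp) (st k X) (PicF.XTproj (st k X) T) p := by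
  have h1 : IsPullback (ip (X := X) T p hp ≫ pullback.fst (st k X) T.hom) (st k X) (st k X) (p ≫ T.hom) := by
    rw [ip_fst, hp]
    exact IsPullback.of_horiz_isIso ⟨by simp⟩
  exact IsPullback.of_right h1 (ip_snd T p hp) (IsPullback.of_hasPullback _ _)

variable (y : T.left ⟶ X) (hy : y ≫ st k X = T.hom)

theorem gam'_ip : gam' T y hy (isPullback_ip T p hp) = p ≫ y := by
  have h1 := gam'_fst T y hy (isPullback_ip T p hp)
  have h2 := congrArg (· ≫ pullback.fst (st k X) T.hom) h1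
  simp only [Category.assoc, gam_fst, ip_fst, Category.comp_id] at h2
  exact h2

end ip

/-- A pulled back kernel. -/
theorem nonempty_kernel_iso {Y Y' : Scheme.{u}} (f : Y' ⟶ Y) {A B : Y.Modules} (φ : A ⟶ B)
    (h : ((ShortComplex.mk (kernel.ι φ) φ (kernel.condition φ)).map (Scheme.Modules.pullback f)).ShortExact) :
    Nonempty ((Scheme.Modules.pullback f).obj (kernel φ) ≅ kernel ((Scheme.Modules.pullback f).map φ)) :=
  ⟨IsLimit.conePointUniqueUpToIso h.fIsKernel (limit.isLimit _)⟩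

section

variable (T : Over (B0 k)) (p : Spec (CommRingCat.of k) ⟶ T.left) (hp : p ≫ T.hom = 𝟙 _)
  (y : T.left ⟶ X) (hy : y ≫ st k X = T.hom)
  {V : X.Modules} {U : X.Opens} {r : ℕ} {b : Fin r → Sec V U} (hb : IsLocBasis b) (hU : ⊤ ≤ y ⁻¹ᵁ U)

theorem nonempty_fibre_iso [IsSeparated (st k X)] (a c : Fin r → Γ(T.left, ⊤)) (hc : ∑ i, c i * a i = 1)
    (hUp : ⊤ ≤ (p ≫ y) ⁻¹ᵁ U) :
    Nonempty ((Scheme.Modules.pullback (ip T p hp)).obj (Fm T y hy hb hU a) ≅
      kernel (mp (p ≫ y) hUp hb fun i => p.appTop (a i))) := by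
  have H := isPullback_ip (X := X) T p hp
  have hS := Groth.Agent.Surf.K460.FlatExt.shortExact_pullback H _ (sq_shortExact T y hy hb hU a c hc)
    (flat_gam T y hy)
  obtain ⟨e₁⟩ := nonempty_kernel_iso _ _ hS
  obtain ⟨e, he⟩ := exists_bc_hk T y hy hb hU H a
  obtain ⟨θ, hθ⟩ := exists_section_iso (ip T p hp) (pullback.fst (st k X) T.hom) (ip_fst T p hp) V
  have hj := gam'_ip (X := X) T p hp y hy
  have hle : U ≤ ip T p hp ⁻¹ᵁ (UT T U) := by
    rw [← Scheme.Hom.comp_preimage, ip_fst]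
    exact le_rfl
  have hUp' : ⊤ ≤ gam' T y hy H ⁻¹ᵁ U := by rw [hj]; exact hUp
  let ψ₀ := (Scheme.Modules.pullback (ip T p hp)).map (hk T y hy hb hU a) ≫ e.hom
  let ψ := θ.inv ≫ ψ₀
  have h1 : ∀ i, appS θ.inv U (b i) = res _ hle (pbS (ip T p hp) (cst k T V) (bT T b i)) := fun i => by
    have h2 := hθ U (b i) hle
    rw [← appS_res] at h2
    have h3 := congrArg (appS θ.inv U) h2
    rw [appS_hom_inv] at h3
    exact h3.symm
  have hψ : ∀ i, toO (val (gam' T y hy H) hUp' b ψ i) = p.appTop (a i) := fun i => by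
    rw [← he i, val, val]
    change toO (res _ _ (ofPush _ (appS ψ₀ U (appS θ.inv U (b i))))) = _
    rw [h1, appS_res, ofPush_res, res_res]
  have e₂ : kernel ψ ≅ kernel (mp (p ≫ y) hUp hb fun i => p.appTop (a i)) := by
    refine kernelIsoOfEq (eq_mp _ hUp' hb hψ) ≪≫ ?_
    have key : ∀ (j j' : Spec (CommRingCat.of k) ⟶ X) (_ : j = j') (h : ⊤ ≤ j ⁻¹ᵁ U) (h' : ⊤ ≤ j' ⁻¹ᵁ U),
        Nonempty (kernel (mp j h hb fun i => p.appTop (a i)) ≅ kernel (mp j' h' hb fun i => p.appTop (a i))) := by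
      rintro j _ rfl h h'
      exact ⟨Iso.refl _⟩
    exact (key _ _ hj _ _).some
  exact ⟨e₁ ≪≫ (kernelCompMono _ e.hom).symm ≪≫ (kernelIsIsoComp θ.inv ψ₀).symm ≪≫ e₂⟩

end

end K670.Fam
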