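import Mathlib.RingTheory.MvPolynomial.Homogeneous
import Mathlib.Algebra.MvPolynomial.Division
import Mathlib.Algebra.MvPolynomial.Funext
import Mathlib.RingTheory.Jacobson.Ring
import Mathlib.RingTheory.Nullstellensatz
import Mathlib.Algebra.Polynomial.Roots
import Mathlib.FieldTheory.IsAlgClosed.Basic

/-!
# Homogeneous functions of degree one on `Spec A × (𝔸^r ∖ 0)` are linear

`A` a finitely generated domain over an algebraically closed field `k`, `h = ∑ s_j X_j` a nonzero linear form with
coefficients in `A`, `ρ(y, ℓ)` a function of `y ∈ Spec A (k)` and of the line spanned by `ℓ ∈ k^r`.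
If for every `i` the function `h ρ` extends to a regular function on `X_i ≠ 0` and `r ≥ 2` then
`h ρ = ∑ c_j X_j` for some `c_j ∈ A`.
-/

set_option autoImplicit false

namespace K670.Poly

open MvPolynomial

variable {k A : Type*} [Field k] [IsAlgClosed k] [CommRing A] [Algebra k A] [Algebra.FiniteType k A]

/-- A function which is not nilpotent is non-zero at some `k`-point. -/
theorem exists_point {c : A} (hc : ¬ IsNilpotent c) : ∃ y : A →ₐ[k] k, y c ≠ 0 := by
  have hJ : IsJacobsonRing A := isJacobsonRing_of_finiteType (A := k)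
  have h1 : c ∉ (⊥ : Ideal A).jacobson := by
    rw [← Ideal.radical_eq_jacobson]
    exact hc
  rw [Ideal.jacobson, Ideal.mem_sInf] at h1
  push Not at h1
  obtain ⟨m, ⟨-, hm⟩, hcm⟩ := h1
  let _ : Field (A ⧸ m) := Ideal.Quotient.field m
  have hfin : Module.Finite k (A ⧸ m) := finite_of_finite_type_of_isJacobsonRing k (A ⧸ m)
  let e : k ≃ₐ[k] (A ⧸ m) := AlgEquiv.ofBijective (Algebra.ofId k (A ⧸ m))
    IsAlgClosed.algebraMap_bijective_of_isIntegral
  refine ⟨e.symm.toAlgHom.comp (Ideal.Quotient.mkₐ k m), fun h => hcm ?_⟩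
  have h2 : e.symm (Ideal.Quotient.mk m c) = 0 := h
  rw [map_eq_zero_iff _ e.symm.injective] at h2
  exact Ideal.Quotient.eq_zero_iff_mem.mp h2

theorem eq_zero_of_points [IsReduced A] {c : A} (hc : ∀ y : A →ₐ[k] k, y c = 0) : c = 0 := by
  by_contra h
  obtain ⟨y, hy⟩ := exists_point (k := k) (c := c) (fun hn => h hn.eq_zero)
  exact hy (hc y)

/-- The value of a polynomial at a point. -/
noncomputable def ev {r : ℕ} (y : A →ₐ[k] k) (l : Fin r → k) : MvPolynomial (Fin r) A →+* k :=
  eval₂Hom (y : A →+* k) l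

omit [IsAlgClosed k] [Algebra.FiniteType k A] in
@[simp] theorem ev_X {r : ℕ} (y : A →ₐ[k] k) (l : Fin r → k) (i : Fin r) : ev y l (X i) = l i := by
  simp [ev]

omit [IsAlgClosed k] [Algebra.FiniteType k A] in
@[simp] theorem ev_C {r : ℕ} (y : A →ₐ[k] k) (l : Fin r → k) (c : A) : ev y l (C c) = y c := by
  simp [ev]

/-- A polynomial vanishing at all points is zero. -/
theorem poly_eq_zero [IsReduced A] {r : ℕ} {P : MvPolynomial (Fin r) A}
    (h : ∀ (y : A →ₐ[k] k) (l : Fin r → k), ev y l P = 0) : P = 0 := by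
  ext m
  rw [coeff_zero]
  refine eq_zero_of_points (k := k) fun y => ?_
  have h1 : map (y : A →+* k) P = 0 := by
    apply MvPolynomial.funext
    intro l
    rw [map_zero, eval_map]
    exact h y l
  have h2 := congrArg (coeff m) h1
  rwa [coeff_map, coeff_zero] at h2

/-- A polynomial vanishing at the points of a nonempty principal open is zero. -/
theorem poly_eq_zero_of_mul [IsDomain A] {r : ℕ} {P Q : MvPolynomial (Fin r) A} (hQ : Q ≠ 0)
    (h : ∀ (y : A →ₐ[k] k) (l : Fin r → k), ev y l Q ≠ 0 → ev y l P = 0) : P = 0 := by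
  have h1 : P * Q = 0 := poly_eq_zero (k := k) fun y l => by
    rw [map_mul]
    by_cases h2 : ev y l Q = 0
    · rw [h2, mul_zero]
    · rw [h y l h2, zero_mul]
  exact (mul_eq_zero.mp h1).resolve_right hQ

/-- The linear form with coefficients `s`. -/
noncomputable def lin {r : ℕ} (s : Fin r → A) : MvPolynomial (Fin r) A := ∑ j, C (s j) * X j

omit [IsAlgClosed k] [Algebra.FiniteType k A] in
theorem ev_lin {r : ℕ} (y : A →ₐ[k] k) (l : Fin r → k) (s : Fin r → A) : ev y l (lin s) = ∑ j, l j * y (s j) := by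
  simp [lin, mul_comm]

omit [Field k] [IsAlgClosed k] [Algebra k A] [Algebra.FiniteType k A] in
theorem coeff_lin {r : ℕ} (s : Fin r → A) (i : Fin r) : coeff (Finsupp.single i 1) (lin s) = s i := by
  classical
  rw [lin, coeff_sum, Finset.sum_eq_single i]
  · rw [coeff_C_mul, coeff_X, if_pos rfl, mul_one]
  · intro j _ hj
    rw [coeff_C_mul, coeff_X, if_neg, mul_zero]
    intro h
    exact hj ((Finsupp.single_left_injective one_ne_zero) h)
  · intro h; exact (h (Finset.mem_univ _)).elim

omit [Field k] [IsAlgClosed k] [Algebra k A] [Algebra.FiniteType k A] in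
theorem lin_ne_zero {r : ℕ} {s : Fin r → A} (h : s ≠ 0) : lin s ≠ 0 := by
  intro h1
  apply h
  funext i
  have := congrArg (coeff (Finsupp.single i 1)) h1
  rwa [coeff_lin, coeff_zero] at this

omit [Field k] [IsAlgClosed k] [Algebra k A] [Algebra.FiniteType k A] in
theorem eq_lin_of_isHomogeneous {r : ℕ} {G : MvPolynomial (Fin r) A} (h : G.IsHomogeneous 1) :
    G = lin (fun i => coeff (Finsupp.single i 1) G) := by
  classical
  ext m
  by_cases hm : m.degree = 1
  · obtain ⟨i, rfl⟩ : m ∈ Set.range (fun a : Fin r => Finsupp.single a 1) := by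
      rw [Finsupp.range_single_one]; exact hm
    rw [coeff_lin]
  · have h1 : coeff m G = 0 := by
      by_contra h0
      exact hm (by rw [Finsupp.degree_eq_weight_one]; exact h h0)
    rw [h1, lin, coeff_sum]
    symm
    refine Finset.sum_eq_zero fun i _ => ?_
    rw [coeff_C_mul, coeff_X, if_neg, mul_zero]
    rintro rfl
    exact hm (by simp)

omit [IsAlgClosed k] [Algebra.FiniteType k A] in
theorem ev_smul {r d : ℕ} {P : MvPolynomial (Fin r) A} (hP : P.IsHomogeneous d) (y : A →ₐ[k] k) (l : Fin r → k)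
    (c : k) : ev y (c • l) P = c ^ d * ev y l P := by
  rw [ev, ev, coe_eval₂Hom, coe_eval₂Hom, eval₂_eq', eval₂_eq', Finset.mul_sum]
  refine Finset.sum_congr rfl fun m hm => ?_
  have h1 : m.degree = d := by
    rw [Finsupp.degree_eq_weight_one]
    exact hP (mem_support_iff.mp hm)
  have h2 : ∏ i, (c • l) i ^ m i = c ^ d * ∏ i, l i ^ m i := by
    simp only [Pi.smul_apply, smul_eq_mul, mul_pow]
    rw [Finset.prod_mul_distrib, Finset.prod_pow_eq_pow_sum, ← h1, Finsupp.degree_eq_sum]
  rw [h2]
  ring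

/-- A function on the domain of definition of `h ρ`, extended on the charts `X_i ≠ 0`. -/
theorem exists_linear [IsDomain A] {r : ℕ} (hr : 2 ≤ r) {s : Fin r → A} (hs : s ≠ 0)
    (ρ : (A →ₐ[k] k) → (Fin r → k) → k)
    (hρ : ∀ (y : A →ₐ[k] k) (l : Fin r → k) (c : k), c ≠ 0 → ∑ j, l j * y (s j) ≠ 0 → ρ y (c • l) = ρ y l)
    (hG : ∀ i : Fin r, ∃ (n : ℕ) (P : MvPolynomial (Fin r) A), ∀ (y : A →ₐ[k] k) (l : Fin r → k), l i ≠ 0 →
      ∑ j, l j * y (s j) ≠ 0 → ev y l P = l i ^ n * ((∑ j, l j * y (s j)) * ρ y l)) :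
    ∃ c : Fin r → A, ∀ (y : A →ₐ[k] k) (l : Fin r → k), ∑ j, l j * y (s j) ≠ 0 →
      ∑ j, l j * y (c j) = (∑ j, l j * y (s j)) * ρ y l := by
  choose n P hP using hG
  let i0 : Fin r := ⟨0, by omega⟩
  let i1 : Fin r := ⟨1, by omega⟩
  have h01 : i0 ≠ i1 := by simp [i0, i1]
  have hX : ∀ i : Fin r, (X i : MvPolynomial (Fin r) A) ≠ 0 := fun i => X_ne_zero i
  have hh := lin_ne_zero hs
  have cross : ∀ i j, P i * X j ^ n j = P j * X i ^ n i := by
    intro i j
    rw [← sub_eq_zero]
    refine poly_eq_zero_of_mul (k := k) (mul_ne_zero (mul_ne_zero (hX i) (hX j)) hh) fun y l h => ?_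
    rw [map_mul, map_mul, ev_X, ev_X, ev_lin] at h
    have h1 : l i ≠ 0 := fun h' => h (by rw [h']; ring)
    have h2 : l j ≠ 0 := fun h' => h (by rw [h']; ring)
    have h3 : ∑ j, l j * y (s j) ≠ 0 := fun h' => h (by rw [h']; ring)
    rw [map_sub, map_mul, map_mul, map_pow, map_pow, ev_X, ev_X, hP i y l h1 h3, hP j y l h2 h3]
    ring
  -- divisibility
  have hdvd : (X i0 : MvPolynomial (Fin r) A) ^ n i0 ∣ P i0 := by
    have hprime : Prime (X i0 : MvPolynomial (Fin r) A) := X_prime
    have h1 : ¬ (X i0 : MvPolynomial (Fin r) A) ∣ X i1 ^ n i1 := by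
      intro h2
      have h3 := hprime.dvd_of_dvd_pow h2
      rw [X_dvd_X] at h3
      exact h01 h3
    refine hprime.pow_dvd_of_dvd_mul_right (n i0) h1 ?_
    rw [cross i0 i1]
    exact dvd_mul_left _ _
  obtain ⟨G, hG⟩ := hdvd
  have hPG : ∀ i, P i = X i ^ n i * G := by
    intro i
    have h1 := cross i0 i
    rw [hG] at h1
    have h2 : X i0 ^ n i0 * (P i - X i ^ n i * G) = 0 := by
      rw [mul_sub, mul_comm _ (P i), ← h1]; ring
    rw [← sub_eq_zero]
    exact (mul_eq_zero.mp h2).resolve_left (pow_ne_zero _ (hX i0))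
  have hev : ∀ (y : A →ₐ[k] k) (l : Fin r → k), ∑ j, l j * y (s j) ≠ 0 →
      ev y l G = (∑ j, l j * y (s j)) * ρ y l := by
    intro y l h
    obtain ⟨i, hi⟩ : ∃ i, l i ≠ 0 := by
      by_contra h'
      push Not at h'
      exact h (Finset.sum_eq_zero fun i _ => by rw [h' i, zero_mul])
    have h1 := hP i y l hi h
    rw [hPG i, map_mul, map_pow, ev_X] at h1
    exact mul_left_cancel₀ (pow_ne_zero _ hi) h1
  -- homogeneous components
  let D := G.totalDegree + 1
  have hsum : ∑ d ∈ Finset.range D, homogeneousComponent d G = G := sum_homogeneousComponent G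
  have hcomp : ∀ d, d ≠ 1 → homogeneousComponent d G = 0 := by
    intro d hd
    by_cases hdD : d ∈ Finset.range D
    swap
    · exact homogeneousComponent_eq_zero d G (by simpa [D] using hdD)
    refine poly_eq_zero_of_mul (k := k) hh fun y l h => ?_
    rw [ev_lin] at h
    let q : Polynomial k := (∑ e ∈ Finset.range D, Polynomial.C (ev y l (homogeneousComponent e G)) *
      Polynomial.X ^ e) - Polynomial.C (ev y l G) * Polynomial.X
    have hq : ∀ c : k, c ≠ 0 → q.IsRoot c := by
      intro c hc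
      have e1 : ∑ j, (c • l) j * y (s j) = c * ∑ j, l j * y (s j) := by
        rw [Finset.mul_sum]
        exact Finset.sum_congr rfl fun j _ => by rw [Pi.smul_apply, smul_eq_mul, mul_assoc]
      have e2 := hev y (c • l) (by rw [e1]; exact mul_ne_zero hc h)
      rw [hρ y l c hc h, e1, mul_assoc, ← hev y l h] at e2
      have e3 : ev y (c • l) G = ∑ e ∈ Finset.range D, c ^ e * ev y l (homogeneousComponent e G) := by
        conv_lhs => rw [← hsum]
        rw [map_sum]
        exact Finset.sum_congr rfl fun e _ => ev_smul (homogeneousComponent_isHomogeneous e G) y l c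
      rw [Polynomial.IsRoot, Polynomial.eval_sub, Polynomial.eval_finsetSum, Polynomial.eval_mul,
        Polynomial.eval_C, Polynomial.eval_X, sub_eq_zero]
      simp only [Polynomial.eval_mul, Polynomial.eval_C, Polynomial.eval_pow, Polynomial.eval_X]
      rw [mul_comm _ c, ← e2, e3]
      exact Finset.sum_congr rfl fun e _ => mul_comm _ _
    have hq0 : q = 0 := by
      apply Polynomial.eq_zero_of_infinite_isRoot
      refine Set.Infinite.mono (s := {c : k | c ≠ 0}) (fun c hc => hq c hc) ?_
      have := (Set.finite_singleton (0 : k)).infinite_compl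
      exact this
    have h3 := congrArg (Polynomial.coeff · d) hq0
    simp only [q, Polynomial.coeff_sub, Polynomial.finsetSum_coeff, Polynomial.coeff_C_mul,
      Polynomial.coeff_X_pow, Polynomial.coeff_X, Polynomial.coeff_zero] at h3
    rw [if_neg (fun h => hd h.symm), mul_zero, sub_zero, Finset.sum_eq_single d] at h3
    · rwa [if_pos rfl, mul_one] at h3
    · intro e _ he
      rw [if_neg (fun h => he h.symm), mul_zero]
    · intro h'; exact (h' hdD).elim
  have hG1 : homogeneousComponent 1 G = G := by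
    conv_rhs => rw [← hsum]
    by_cases h1D : 1 ∈ Finset.range D
    · rw [Finset.sum_eq_single_of_mem 1 h1D fun e _ he => hcomp e he]
    · rw [homogeneousComponent_eq_zero 1 G (by simpa [D] using h1D)]
      exact (Finset.sum_eq_zero fun e he => hcomp e fun h => h1D (h ▸ he)).symm
  have hlin := eq_lin_of_isHomogeneous (hG1 ▸ homogeneousComponent_isHomogeneous 1 G)
  refine ⟨fun i => coeff (Finsupp.single i 1) G, fun y l h => ?_⟩
  rw [← hev y l h, ← ev_lin, ← hlin]

end K670.Poly
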