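import Groth.Agent.BunMod.K670.Pts
import Groth.Agent.BunMod.K670.Poly
import Groth.Agent.BunMod.K670.FamPt
import Groth.Agent.BunMod.K311.FreeLocus

/-!
# Locally free modules on `X × Spec R`: the test on rational points
-/

set_option autoImplicit false
universe u

open CategoryTheory CategoryTheory.Limits AlgebraicGeometry TopologicalSpace

namespace K670.RankPt

open K140.BM Pts Fam

variable {k : Type u} [Field k]

section points

variable [IsAlgClosed k] {R : Type u} [CommRing R] (κ : k →+* R) (hκ : κ.FiniteType)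

include hκ

/-- An open subset containing all rational points is everything. -/
theorem eq_top_of_points (U : (Spec (CommRingCat.of R)).Opens)
    (h : ∀ q : R →+* k, q.comp κ = RingHom.id k → Spec.map (CommRingCat.ofHom q) (IsLocalRing.closedPoint k) ∈ U) :
    U = ⊤ := by
  let _ : Algebra k R := κ.toAlgebra
  have hfin : Algebra.FiniteType k R := hκ
  have hc : IsClosed ((U : Set (Spec (CommRingCat.of R)))ᶜ) := U.isOpen.isClosed_compl
  obtain ⟨I, hI⟩ := (PrimeSpectrum.isClosed_iff_zeroLocus_ideal _).mp hc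
  by_contra hne
  have hI1 : I ≠ ⊤ := by
    rintro rfl
    apply hne
    ext z
    have h1 : z ∉ ((U : Set (Spec (CommRingCat.of R)))ᶜ) := by
      rw [hI]
      intro h2
      exact z.2.ne_top (top_le_iff.mp h2)
    simpa using h1
  have : Nontrivial (R ⧸ I) := Ideal.Quotient.nontrivial_iff.mpr hI1
  obtain ⟨y, hy⟩ := Poly.exists_point (k := k) (A := R ⧸ I) (c := 1) (by
    rintro ⟨n, hn⟩
    rw [one_pow] at hn
    exact one_ne_zero hn)
  let q : R →+* k := (y : (R ⧸ I) →+* k).comp (Ideal.Quotient.mk I)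
  have hq : q.comp κ = RingHom.id k := by
    ext c
    exact y.commutes c
  have h1 := h q hq
  have h2 : Spec.map (CommRingCat.ofHom q) (IsLocalRing.closedPoint k) ∈ ((U : Set (Spec (CommRingCat.of R)))ᶜ) := by
    rw [hI]
    intro a ha
    change q a ∈ IsLocalRing.maximalIdeal k
    have h3 : q a = 0 := by
      change y (Ideal.Quotient.mk I a) = 0
      rw [Ideal.Quotient.eq_zero_iff_mem.mpr ha, map_zero]
    rw [h3]
    exact Ideal.zero_mem _
  exact h2 h1

/-- A closed subset of an integral scheme containing all rational points is everything. -/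
theorem closed_eq_univ_of_points [IsDomain R] {Z : Set (Spec (CommRingCat.of R))} (hZ : IsClosed Z)
    (h : ∀ q : R →+* k, q.comp κ = RingHom.id k → Spec.map (CommRingCat.ofHom q) (IsLocalRing.closedPoint k) ∈ Z) :
    Z = Set.univ := by
  let _ : Algebra k R := κ.toAlgebra
  have hfin : Algebra.FiniteType k R := hκ
  obtain ⟨I, hI⟩ := (PrimeSpectrum.isClosed_iff_zeroLocus_ideal _).mp hZ
  have hI0 : I = ⊥ := by
    rw [eq_bot_iff]
    intro a ha
    rw [Ideal.mem_bot]
    refine Poly.eq_zero_of_points (k := k) fun y => ?_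
    have h1 := h (y : R →+* k) (by
      ext c
      exact y.commutes c)
    rw [hI] at h1
    have h2 : y a ∈ IsLocalRing.maximalIdeal k := h1 ha
    rwa [IsLocalRing.maximalIdeal_eq_bot, Ideal.mem_bot] at h2
  rw [hI, hI0]
  exact PrimeSpectrum.zeroLocus_bot

end points

variable {X : Scheme.{u}} [X.Over (Spec (CommRingCat.of k))]

theorem rank_of_iso {Y : Scheme.{u}} {M N : Y.Modules} {r : ℕ} (e : M ≅ N) (h : FlatMod.IsFinLocFreeOfRank r M) :
    FlatMod.IsFinLocFreeOfRank r N := fun x => by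
  obtain ⟨U, hx, ⟨e'⟩⟩ := h x
  exact ⟨U, hx, ⟨(Scheme.Modules.restrictFunctor U.ι).mapIso e.symm ≪≫ e'⟩⟩

/-- The base `Spec R` over `k`. -/
noncomputable abbrev TT {R : Type u} [CommRing R] (κ : k →+* R) : Over (B0 k) :=
  Over.mk (Spec.map (CommRingCat.ofHom κ))

theorem hpt {R : Type u} [CommRing R] {κ : k →+* R} {q : R →+* k} (hq : q.comp κ = RingHom.id k) :
    Spec.map (CommRingCat.ofHom q) ≫ (TT κ).hom = 𝟙 _ := by
  change Spec.map _ ≫ Spec.map _ = _
  rw [← Spec.map_comp, ← spec_id, ← hq]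
  rfl

theorem isFinLocFreeOfRank [IsAlgClosed k] [IsProper (st k X)] {R : Type u} [CommRing R] [IsDomain R] (κ : k →+* R)
    (hκ : κ.FiniteType) (r : ℕ) (F : (PicF.XT (st k X) (TT κ)).Modules) (hF : Coh.IsQCoh F) (hft : CohB1.IsFT F)
    (h : ∀ (q : R →+* k) (hq : q.comp κ = RingHom.id k), FlatMod.IsFinLocFreeOfRank r
      ((Scheme.Modules.pullback (ip (TT κ) (Spec.map (CommRingCat.ofHom q)) (hpt hq))).obj F)) :
    FlatMod.IsFinLocFreeOfRank r F := by
  have H : IsPullback (pullback.fst (st k X) (TT κ).hom) (PicF.XTproj (st k X) (TT κ)) (st k X) (TT κ).hom :=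
    IsPullback.of_hasPullback _ _
  obtain ⟨T', t, U', ht, hU'⟩ := K311.FreeLocus.exists_locus_field (st k X) _ _ _ H F hF hft r
  have hp : ∀ (q : R →+* k) (hq : q.comp κ = RingHom.id k), ∃ g : Spec (CommRingCat.of k) ⟶ U',
      g ≫ U'.ι ≫ t = Spec.map (CommRingCat.ofHom q) := fun q hq =>
    (hU' _ _ _ (isPullback_ip (TT κ) (Spec.map (CommRingCat.ofHom q)) (hpt hq))).mp (h q hq)
  have hred : IsIntegral (Spec (CommRingCat.of R)) := inferInstance
  have hsurj : Set.range t = Set.univ := by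
    refine closed_eq_univ_of_points κ hκ t.isClosedEmbedding.isClosed_range fun q hq => ?_
    obtain ⟨g, hg⟩ := hp q hq
    rw [← hg]
    exact ⟨_, rfl⟩
  have : Surjective t := ⟨Set.range_eq_univ.mp hsurj⟩
  have hred' : AlgebraicGeometry.IsReduced (TT κ).left :=
    inferInstanceAs (AlgebraicGeometry.IsReduced (Spec (CommRingCat.of R)))
  have : IsIso t := isIso_of_isClosedImmersion_of_surjective t
  have hU1 : t ''ᵁ U' = ⊤ := by
    refine eq_top_of_points κ hκ _ fun q hq => ?_
    obtain ⟨g, hg⟩ := hp q hq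
    rw [← hg]
    exact ⟨(g ≫ U'.ι) (IsLocalRing.closedPoint k), (g (IsLocalRing.closedPoint k)).2, rfl⟩
  have hU2 : U' = ⊤ := by
    rw [← t.preimage_image_eq U', hU1]
    rfl
  have h1 : IsIso U'.ι := by
    rw [hU2]
    exact inferInstanceAs (IsIso (Scheme.topIso T').hom)
  have h2 := (hU' (𝟙 _) (PicF.XTproj (st k X) (TT κ)) (𝟙 _)
    (IsPullback.of_horiz_isIso ⟨by simp⟩)).mpr ⟨inv (U'.ι ≫ t), by simp⟩
  exact rank_of_iso ((Scheme.Modules.pullbackId (PicF.XT (st k X) (TT κ))).app F) h2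

end K670.RankPt
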