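import Groth.Agent.VBCurve.K707.Semi
import Groth.Agent.VBCurve.K708.GenSub
import Groth.Agent.VBCurve.K708.Coho
import Groth.Agent.Dcoh.FinLocFree

/-!
# Hecke modifications of bundles of Euler characteristic one

`X` is a smooth proper curve over a field `k`.  For modules of rank `r`:

* `ss_of_sub`: a colength one submodule (`χ = 0`) of a stable `V` with `χ(V) = 1` is semistable;
* `st_of_over`: a module `V` (`χ = 1`) containing a stable module with `χ = 0` is stable;
* `h0_eq_one`, `subsingleton_h1`: if `V ⊃ E` with `χ(V) = 1`, `χ(E) = 0`, `H⁰(E) = 0` then `h⁰(V) = 1`, `H¹(V) = 0`;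
* `exists_over`: two bundles of the same rank are contained in a third one.
-/

set_option autoImplicit false
universe u

open CategoryTheory CategoryTheory.Limits AlgebraicGeometry

namespace K670.Num

open K707.Base K707.Slope K707.Deg K707.Semi Groth.Agent.VarietyA.DegRank Module
  Groth.Agent.CycB.StalkExact

variable {k : Type u} [Field k] {X : Scheme.{u}} [X.Over (Spec (CommRingCat.of k))]
  [IsIntegral X] [IsProper (X ↘ (Spec (CommRingCat.of k)))]

omit [IsProper (X ↘ (Spec (CommRingCat.of k)))] in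
theorem dg_eq {M : X.Modules} {c : ℤ} (h : Curv2.euler k X M = c) :
    dg k M = c - rk M * Curv2.euler k X (Coh.structureModule X) := by
  rw [dg, h]

omit [IsProper (X ↘ (Spec (CommRingCat.of k)))] in
/-- Stability in terms of Euler characteristics, `χ = 0`. -/
theorem St.euler_neg {E F : X.Modules} (hE : St k E) (h0 : Curv2.euler k X E = 0) (i : F ⟶ E) [Mono i]
    (hF : FlatMod.IsFinLocFree F) (h1 : 0 < rk F) (h2 : rk F < rk E) : Curv2.euler k X F < 0 := by
  have h3 := hE F i inferInstance hF h1 h2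
  rw [dg_eq h0, dg] at h3
  have h4 : (0 : ℤ) < rk E := by exact_mod_cast lt_trans h1 h2
  by_contra h5
  push Not at h5
  nlinarith

omit [IsProper (X ↘ (Spec (CommRingCat.of k)))] in
theorem st_of_euler {E : X.Modules} (h0 : Curv2.euler k X E = 0)
    (h : ∀ (F : X.Modules) (i : F ⟶ E), Mono i → FlatMod.IsFinLocFree F → 0 < rk F → rk F < rk E →
      Curv2.euler k X F < 0) : St k E := by
  intro F i hi hF h1 h2
  have h3 := h F i hi hF h1 h2
  rw [dg_eq h0, dg]
  have h4 : (0 : ℤ) < rk E := by exact_mod_cast lt_trans h1 h2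
  nlinarith

omit [IsProper (X ↘ (Spec (CommRingCat.of k)))] in
/-- Stability in terms of Euler characteristics, `χ = 1`. -/
theorem St.euler_le {V F : X.Modules} (hV : St k V) (h0 : Curv2.euler k X V = 1) (i : F ⟶ V) [Mono i]
    (hF : FlatMod.IsFinLocFree F) (h1 : 0 < rk F) (h2 : rk F < rk V) : Curv2.euler k X F ≤ 0 := by
  have h3 := hV F i inferInstance hF h1 h2
  rw [dg_eq h0, dg] at h3
  have h4 : (rk F : ℤ) < rk V := by exact_mod_cast h2
  have h5 : (0 : ℤ) < rk F := by exact_mod_cast h1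
  by_contra h6
  push Not at h6
  nlinarith

omit [IsProper (X ↘ (Spec (CommRingCat.of k)))] in
theorem st_of_euler_le {V : X.Modules} (h0 : Curv2.euler k X V = 1)
    (h : ∀ (F : X.Modules) (i : F ⟶ V), Mono i → FlatMod.IsFinLocFree F → 0 < rk F → rk F < rk V →
      Curv2.euler k X F ≤ 0) : St k V := by
  intro F i hi hF h1 h2
  have h3 := h F i hi hF h1 h2
  rw [dg_eq h0, dg]
  have h4 : (0 : ℤ) < rk F := by exact_mod_cast h1
  have h5 : (0 : ℤ) < rk V := by exact_mod_cast lt_trans h1 h2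
  nlinarith

theorem ss_of_euler (C : Crv k X) {E : X.Modules} (h0 : Curv2.euler k X E = 0)
    (h : ∀ (F : X.Modules) (i : F ⟶ E), Mono i → FlatMod.IsFinLocFree F → 0 < rk F →
      Curv2.euler k X F ≤ 0) : SS k E := by
  intro F i hi hF
  rcases Nat.eq_zero_or_pos (rk F) with h1 | h1
  · rw [dg_of_vb_of_rk_eq_zero C hF h1, h1]; simp
  · have h3 := h F i hi hF h1
    rw [dg_eq h0, dg]
    have h4 : (0 : ℤ) ≤ rk E := by positivity
    nlinarith

omit [IsProper (X ↘ (Spec (CommRingCat.of k)))] in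
theorem SS.euler_le {E F : X.Modules} (hE : SS k E) (h0 : Curv2.euler k X E = 0) (hr : 0 < rk E) (i : F ⟶ E)
    [Mono i] (hF : FlatMod.IsFinLocFree F) : Curv2.euler k X F ≤ 0 := by
  have h3 := hE F i inferInstance hF
  rw [dg_eq h0, dg] at h3
  have h4 : (0 : ℤ) < rk E := by exact_mod_cast hr
  by_contra h5
  push Not at h5
  nlinarith

/-- Submodules of full rank have smaller Euler characteristic. -/
theorem euler_le_of_mono (C : Crv k X) {G E : X.Modules} (i : G ⟶ E) [Mono i] (hG : Coh.IsCoh G)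
    (hE : Coh.IsCoh E) (h : rk G = rk E) : Curv2.euler k X G ≤ Curv2.euler k X E := by
  have h1 := dg_le_of_mono C i hG hE h.ge
  rw [dg, dg, h] at h1
  omega

/-- Submodules of full rank with the same Euler characteristic are everything. -/
theorem isIso_of_euler (C : Crv k X) {G E : X.Modules} (i : G ⟶ E) [Mono i] (hG : Coh.IsCoh G)
    (hE : Coh.IsCoh E) (h : rk G = rk E) (h' : Curv2.euler k X E ≤ Curv2.euler k X G) : IsIso i := by
  refine isIso_of_mono C i hG hE h.ge ?_
  rw [dg, dg, h]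
  omega

/-- Colength one submodules of a stable module with `χ = 1` are semistable. -/
theorem ss_of_sub (C : Crv k X) {E V : X.Modules} (i : E ⟶ V) [Mono i] (hE : Coh.IsCoh E)
    (hr : rk E = rk V) (hVs : St k V) (h0 : Curv2.euler k X E = 0) (h1 : Curv2.euler k X V = 1) : SS k E := by
  refine ss_of_euler C h0 fun F j hj hF hpos => ?_
  have hm : Mono (j ≫ i) := mono_comp _ _
  have hFc := coh_of_vb hF
  rcases (rk_le_of_mono C j hFc hE).lt_or_eq with h2 | h2
  · exact St.euler_le hVs h1 (j ≫ i) hF hpos (hr ▸ h2)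
  · rw [← h0]
    exact euler_le_of_mono C j hFc hE h2

/-- A module with `χ = 1` containing a stable one with `χ = 0` of the same rank is stable. -/
theorem st_of_over (C : Crv k X) {E V : X.Modules} (i : E ⟶ V) [Mono i] (hE : Coh.IsCoh E) (hV : Coh.IsCoh V)
    (hr : rk E = rk V) (hEs : St k E) (h0 : Curv2.euler k X E = 0) (h1 : Curv2.euler k X V = 1) : St k V := by
  refine st_of_euler_le h1 fun F j hj hF hpos hlt => ?_
  have hFc := coh_of_vb hF
  let q : V ⟶ cokernel i := cokernel.π i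
  have hQ := coh_cokernel i hE hV
  obtain ⟨e1, e2⟩ := mono_numbers C i hE hV
  -- `F' = F ∩ E`
  let F' := kernel (j ≫ q)
  have hF' : FlatMod.IsFinLocFree F' := vb_kernel C (j ≫ q) hF hQ
  obtain ⟨I, p, m, hp, hm, hpm, hI, e3, e4, e5, e6⟩ := exists_factor C (j ≫ q) hFc hQ
  have hrI : rk I = 0 := by omega
  have hrF : rk F' = rk F := by change rk (kernel (j ≫ q)) = _; omega
  have hdI : dg k I ≤ dg k (cokernel i) := dg_le_of_mono C m hI hQ (by omega)
  have hdQ : dg k (cokernel i) = 1 := by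
    rw [dg, dg, h0, h1, hr] at e2
    omega
  -- `F' ⟶ E`
  let a : F' ⟶ E := (ShortComplex.exact_cokernel i).lift (kernel.ι (j ≫ q) ≫ j)
    (by rw [Category.assoc]; exact kernel.condition _)
  have ha : a ≫ i = kernel.ι (j ≫ q) ≫ j := (ShortComplex.exact_cokernel i).lift_f _ _
  have ham : Mono a := by
    have : Mono (a ≫ i) := by rw [ha]; exact mono_comp _ _
    exact mono_of_mono a i
  have h5 := St.euler_neg hEs h0 a hF' (by omega) (by omega)
  have h6 : dg k F ≤ dg k F' + 1 := by change _ ≤ dg k (kernel (j ≫ q)) + 1; omega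
  rw [dg, dg, hrF] at h6
  omega

/-- `h⁰` of an overmodule with `χ = 1` of a module with `χ = 0` without sections. -/
theorem h0_eq_one (C : Crv k X) {E V : X.Modules} (i : E ⟶ V) [Mono i] (hE : Coh.IsCoh E) (hV : Coh.IsCoh V)
    (hr : rk E = rk V) (h0 : Curv2.euler k X E = 0) (h1 : Curv2.euler k X V = 1)
    (hE0 : Subsingleton (Coh.HH X E 0)) :
    finrank k (Coh.HH X V 0) = 1 ∧ Subsingleton (Coh.HH X V 1) := by
  have hQ := coh_cokernel i hE hV
  obtain ⟨e1, e2⟩ := mono_numbers C i hE hV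
  have hQ0 := subsingleton_of_rk_eq_zero hQ (by omega)
  have e3 : Curv2.euler k X (cokernel i) = 1 := by
    rw [dg, dg, dg_eq_euler_of_torsion k hQ0, h0, h1, hr] at e2
    omega
  have e4 := euler_of_torsion k C.dim hQ hQ0
  have e5 := K708.Coho.finrank_HH_le_add k (cokernel_shortExact i) hE hV hQ 0
  have e6 : finrank k (Coh.HH X E 0) = 0 := finrank_zero_of_subsingleton
  have e7 := K708.Coho.euler_eq k C.dim.le V
  have e8 : Module.Finite k (Coh.HH X V 1) := K708.Coho.finite_HH k hV 1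
  change finrank k (Coh.HH X V 0) ≤ _ + finrank k (Coh.HH X (cokernel i) 0) at e5
  change finrank k (Coh.HH X V 0) ≤ finrank k (Coh.HH X E 0) + _ at e5
  refine ⟨by omega, finrank_zero_iff.mp (by omega : finrank k (Coh.HH X V 1) = 0)⟩

/-- Two bundles of the same rank are contained in a third one. -/
theorem exists_over (C : Crv k X) {E₁ E₂ : X.Modules} (h₁ : FlatMod.IsFinLocFree E₁)
    (h₂ : FlatMod.IsFinLocFree E₂) (hr : rk E₁ = rk E₂) :
    ∃ (W : X.Modules) (i₁ : E₁ ⟶ W) (i₂ : E₂ ⟶ W), FlatMod.IsFinLocFree W ∧ rk W = rk E₁ ∧ Mono i₁ ∧ Mono i₂ := by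
  have hLN := isLocNoeth C
  let η := genericPoint X
  let hf : Field (X.presheaf.stalk η) := (isField_gen X).toField
  let S : ShortComplex X.Modules := ShortComplex.mk (biprod.inl : E₁ ⟶ E₁ ⊞ E₂) biprod.snd biprod.inl_snd
  have hS : S.ShortExact := (ShortComplex.Splitting.ofHasBinaryBiproduct E₁ E₂).shortExact
  have hEv : FlatMod.IsFinLocFree (E₁ ⊞ E₂) := Groth.Agent.Dcoh.FinLocFree.isFinLocFree_biprod h₁ h₂
  have hE : rk (E₁ ⊞ E₂) = rk E₁ + rk E₂ := rk_add' k S hS (coh_of_vb hEv)
  have f₁ : Module.Finite (X.presheaf.stalk η) (E₁.presheaf.stalk η) :=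
    Groth.Agent.Divis.StalkMod.finite_stalk (coh_of_vb h₁) η
  have f₂ : Module.Finite (X.presheaf.stalk η) (E₂.presheaf.stalk η) :=
    Groth.Agent.Divis.StalkMod.finite_stalk (coh_of_vb h₂) η
  let θ : E₁.presheaf.stalk η ≃ₗ[X.presheaf.stalk η] E₂.presheaf.stalk η := LinearEquiv.ofFinrankEq _ _ hr
  let g : E₁.presheaf.stalk η →ₗ[X.presheaf.stalk η] (E₁ ⊞ E₂).presheaf.stalk η :=
    stalkLin biprod.inl η - (stalkLin biprod.inr η) ∘ₗ θ.toLinearMap
  have lin0 : ∀ {A B : X.Modules}, stalkLin (0 : A ⟶ B) η = 0 := fun {A B} => by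
    ext m
    have := (stalkFun (X := X) η).map_zero A B
    change ((stalkFun η).map (0 : A ⟶ B)).hom m = 0
    rw [this]
    rfl
  have lin1 : ∀ {A : X.Modules}, stalkLin (𝟙 A) η = LinearMap.id := fun {A} => by
    ext m
    have := (stalkFun (X := X) η).map_id A
    change ((stalkFun η).map (𝟙 A)).hom m = m
    rw [this]
    rfl
  have hfst : ∀ m, stalkLin (biprod.fst : E₁ ⊞ E₂ ⟶ E₁) η (g m) = m := fun m => by
    rw [LinearMap.sub_apply, map_sub, LinearMap.comp_apply, ← LinearMap.comp_apply (stalkLin biprod.fst η),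
      ← LinearMap.comp_apply (stalkLin biprod.fst η), ← stalkLin_comp, ← stalkLin_comp, biprod.inl_fst,
      biprod.inr_fst, lin0, lin1]
    simp
  have hsnd : ∀ m, stalkLin (biprod.snd : E₁ ⊞ E₂ ⟶ E₂) η (g m) = - θ m := fun m => by
    rw [LinearMap.sub_apply, map_sub, LinearMap.comp_apply, ← LinearMap.comp_apply (stalkLin biprod.snd η),
      ← LinearMap.comp_apply (stalkLin biprod.snd η), ← stalkLin_comp, ← stalkLin_comp, biprod.inl_snd,
      biprod.inr_snd, lin0, lin1]
    simp
  have hg : Function.Injective g := fun a b h => by rw [← hfst a, ← hfst b, h]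
  obtain ⟨N, R, j, q, w, hNR, hN, hR, hj⟩ := K708.GenSub.exists_saturated (E₁ ⊞ E₂) (LinearMap.range g) C hEv
  have hjm : Mono j := hNR.mono_f
  have hrN : rk N = rk E₁ := by
    have e1 := LinearMap.finrank_range_of_inj (stalkLin_injective j η)
    have e2 := LinearMap.finrank_range_of_inj hg
    rw [rk, rk, ← e1, hj, e2]
  have hrR := rk_add' k _ hNR (coh_of_vb hEv)
  simp only at hrR
  have key : ∀ {A : X.Modules} (i : A ⟶ E₁ ⊞ E₂), FlatMod.IsFinLocFree A →
      (∀ (a : A.presheaf.stalk η) (m : E₁.presheaf.stalk η), stalkLin i η a = g m → a = 0) → Mono (i ≫ q) := by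
    intro A i hA h
    have hK := vb_kernel C (i ≫ q) hA (coh_of_vb hR)
    let l : kernel (i ≫ q) ⟶ N := hNR.exact.lift (kernel.ι (i ≫ q) ≫ i)
      (by rw [Category.assoc]; exact kernel.condition _)
    have hl : l ≫ j = kernel.ι (i ≫ q) ≫ i := hNR.exact.lift_f _ _
    have hz : Subsingleton ((kernel (i ≫ q)).presheaf.stalk η) := by
      refine ⟨fun a b => ?_⟩
      have h0 : ∀ c, c = (0 : (kernel (i ≫ q)).presheaf.stalk η) := by
        intro c
        apply stalkLin_injective (kernel.ι (i ≫ q)) η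
        rw [map_zero]
        have h1 : stalkLin i η (stalkLin (kernel.ι (i ≫ q)) η c) ∈ LinearMap.range g := by
          rw [← hj, ← LinearMap.comp_apply, ← stalkLin_comp, ← hl, stalkLin_comp]
          exact ⟨_, rfl⟩
        obtain ⟨m, hm⟩ := h1
        exact h _ m hm.symm
      rw [h0 a, h0 b]
    exact Preadditive.mono_of_kernel_zero
      ((isZero_of_rk_eq_zero C hK (rk_eq_zero_of_subsingleton hz)).eq_of_src _ _)
  refine ⟨R, biprod.inl ≫ q, biprod.inr ≫ q, hR, by omega, key _ h₁ ?_, key _ h₂ ?_⟩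
  · intro a m h
    have h1 : stalkLin (biprod.snd : E₁ ⊞ E₂ ⟶ E₂) η (stalkLin biprod.inl η a) = 0 := by
      rw [← LinearMap.comp_apply, ← stalkLin_comp, biprod.inl_snd, lin0]; rfl
    have h2 : stalkLin (biprod.fst : E₁ ⊞ E₂ ⟶ E₁) η (stalkLin biprod.inl η a) = a := by
      rw [← LinearMap.comp_apply, ← stalkLin_comp, biprod.inl_fst, lin1]; rfl
    rw [h, hsnd, neg_eq_zero, LinearEquiv.map_eq_zero_iff] at h1
    rw [h, h1, map_zero, map_zero] at h2
    exact h2.symm
  · intro a m h
    have h1 : stalkLin (biprod.fst : E₁ ⊞ E₂ ⟶ E₁) η (stalkLin biprod.inr η a) = 0 := by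
      rw [← LinearMap.comp_apply, ← stalkLin_comp, biprod.inr_fst, lin0]; rfl
    have h2 : stalkLin (biprod.snd : E₁ ⊞ E₂ ⟶ E₂) η (stalkLin biprod.inr η a) = a := by
      rw [← LinearMap.comp_apply, ← stalkLin_comp, biprod.inr_snd, lin1]; rfl
    rw [h, hfst] at h1
    rw [h, h1, map_zero, map_zero] at h2
    exact h2.symm

end K670.Num
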