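import Groth.Agent.BunMod.K670.MapTo
import Groth.Agent.S12131
import Groth.Agent.Fdesc.StructMod

/-!
# Base change of `f_* O` for an affine morphism, on sections
-/

set_option autoImplicit false
universe u

open CategoryTheory CategoryTheory.Limits AlgebraicGeometry TopologicalSpace

namespace K670.BC

open Groth.Agent.Sga67.Sec Groth.Agent.Sga67.LocBasis Groth.Agent.Krr.H487.LocBasisPull MapTo

theorem isLocBasis_one (X : Scheme.{u}) (U : X.Opens) : IsLocBasis (M := Coh.structureModule X) (U := U)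
    (fun _ : Fin 1 => one X U) := by
  intro V h
  have h1 : ∀ a, comb (M := Coh.structureModule X) (fun _ : Fin 1 => one X U) h a =
      (show Sec (Coh.structureModule X) V from a 0) := fun a => by
    rw [comb_apply, Fin.sum_univ_one, res_one, smul_one]
  constructor
  · intro a b hab
    rw [h1, h1] at hab
    funext i
    rw [Subsingleton.elim i 0]
    exact hab
  · intro s
    exact ⟨fun _ => toO s, h1 _⟩

theorem pbS_one_eq {X X' : Scheme.{u}} (g : X' ⟶ X) (W : X.Opens) (h : (⊤ : X'.Opens) ≤ g ⁻¹ᵁ ⊤) :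
    pbS g (Coh.structureModule X) (one X W) = res _ (le_top : g ⁻¹ᵁ W ≤ ⊤)
      (res _ h (pbS g (Coh.structureModule X) (one X ⊤))) := by
  have h1 := res_pbS g (Coh.structureModule X) (le_top : W ≤ ⊤) (Scheme.Hom.preimage_mono g le_top) (one X ⊤)
  have h2 := res_res ((Scheme.Modules.pullback g).obj (Coh.structureModule X)) h (le_top : g ⁻¹ᵁ W ≤ ⊤)
    (pbS g (Coh.structureModule X) (one X ⊤))
  rw [res_one] at h1
  exact h1.symm.trans h2.symm

/-- `g^* O ≅ O`, on sections. -/
theorem exists_unit_iso {X X' : Scheme.{u}} (g : X' ⟶ X) :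
    ∃ ε : (Scheme.Modules.pullback g).obj (Coh.structureModule X) ≅ Coh.structureModule X',
      ∀ (W : X.Opens) (s : Sec (Coh.structureModule X) W),
        toO (appS ε.hom (g ⁻¹ᵁ W) (pbS g _ s)) = g.app W (toO s) := by
  have hle : (⊤ : X'.Opens) ≤ g ⁻¹ᵁ ⊤ := le_rfl
  have hb := isLocBasis_top g hle (isLocBasis_one X ⊤)
  obtain ⟨ε, hε⟩ := exists_iso_top hb (isLocBasis_one X' ⊤)
  refine ⟨ε, fun W s => ?_⟩
  have h2 : appS ε.hom (g ⁻¹ᵁ W) (pbS g (Coh.structureModule X) (one X W)) = one X' (g ⁻¹ᵁ W) := by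
    rw [pbS_one_eq g W hle, appS_res]
    exact (congrArg _ (hε 0)).trans (res_one X' _)
  conv_lhs => rw [← toO_smul_one s, pbS_smul, map_smul, h2]
  rw [toO_smul, toO_one, mul_one]

theorem map_eqToHom {X : Scheme.{u}} (M : X.Modules) {U V : X.Opens} (h : U = V) (s : Sec M V) :
    M.presheaf.map (eqToHom h).op s = res M h.le s := rfl

section

variable {X S X' S' : Scheme.{u}} (f : X ⟶ S) (g : S' ⟶ S) (g' : X' ⟶ X) (f' : X' ⟶ S')
  (h : IsPullback g' f' f g) 

/-- The map adjoint to `f_* F ⟶ f_* g'_* g'^* F`. -/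
noncomputable def bcMap (F : X.Modules) : (Scheme.Modules.pullback g).obj ((Scheme.Modules.pushforward f).obj F) ⟶
    (Scheme.Modules.pushforward f').obj ((Scheme.Modules.pullback g').obj F) :=
  adj g ((Scheme.Modules.pushforward f).map ((Scheme.Modules.pullbackPushforwardAdjunction g').unit.app F) ≫
        (Scheme.Modules.pushforwardComp g' f).hom.app ((Scheme.Modules.pullback g').obj F) ≫
        (Scheme.Modules.pushforwardCongr h.w).hom.app ((Scheme.Modules.pullback g').obj F) ≫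
        (Scheme.Modules.pushforwardComp f' g).inv.app ((Scheme.Modules.pullback g').obj F))

theorem res_bcMap (F : X.Modules) (W : S.Opens) (s : Sec ((Scheme.Modules.pushforward f).obj F) W)
    (hle : g' ⁻¹ᵁ (f ⁻¹ᵁ W) ≤ f' ⁻¹ᵁ (g ⁻¹ᵁ W)) :
    res _ hle (ofPush f' (appS (bcMap f g g' f' h F) (g ⁻¹ᵁ W) (pbS g _ s))) = pbS g' _ (ofPush f s) := by
  rw [bcMap, adj_pbS]
  have hW : f' ⁻¹ᵁ (g ⁻¹ᵁ W) = g' ⁻¹ᵁ (f ⁻¹ᵁ W) := by
    rw [← Scheme.Hom.comp_preimage, ← Scheme.Hom.comp_preimage, h.w]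
  change res _ hle (((Scheme.Modules.pullback g').obj F).presheaf.map (eqToHom hW).op
    (pbS g' _ (ofPush f s))) = _
  rw [map_eqToHom]
  refine (res_res _ hW.le hle _).trans ?_
  exact res_self _ _ _

theorem isIso_bcMap [IsAffineHom f] (F : X.Modules) [Coh.IsQCoh F] : IsIso (bcMap f g g' f' h F) :=
  Groth.Agent.S12131.result f g g' f' h F

include h in
/-- Base change of `f_* O`. -/
theorem exists_bc [IsAffineHom f] :
    ∃ e : (Scheme.Modules.pullback g).obj ((Scheme.Modules.pushforward f).obj (Coh.structureModule X)) ≅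
        (Scheme.Modules.pushforward f').obj (Coh.structureModule X'),
      ∀ (W : S.Opens) (s : Sec ((Scheme.Modules.pushforward f).obj (Coh.structureModule X)) W)
        (hle : g' ⁻¹ᵁ (f ⁻¹ᵁ W) ≤ f' ⁻¹ᵁ (g ⁻¹ᵁ W)),
        toO (res (Coh.structureModule X') hle (ofPush f' (appS e.hom (g ⁻¹ᵁ W) (pbS g _ s)))) =
          g'.app (f ⁻¹ᵁ W) (toO (ofPush f s)) := by
  obtain ⟨ε, hε⟩ := exists_unit_iso g'
  have hq : Coh.IsQCoh (Coh.structureModule X) := Groth.Agent.Fdesc.StructMod.isQCoh_structureModule _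
  have hi := isIso_bcMap f g g' f' h (Coh.structureModule X)
  refine ⟨asIso (bcMap f g g' f' h (Coh.structureModule X)) ≪≫ (Scheme.Modules.pushforward f').mapIso ε,
    fun W s hle => ?_⟩
  rw [← hε, ← res_bcMap f g g' f' h _ W s hle, appS_res]
  rfl

end

end K670.BC
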