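import Groth.Agent.BunMod.K670.PtKer
import Groth.Agent.CurvesB.HZero
import Groth.Agent.VBPn.K698.Basic

/-!
# Global sections and `H⁰`
-/

set_option autoImplicit false
universe u

open CategoryTheory CategoryTheory.Limits AlgebraicGeometry TopologicalSpace

namespace K670.SecH0

open Groth.Agent.Sga67.Sec Groth.Agent.Sga67.LocBasis Groth.Agent.CurvesB.HZero MapTo Ev

variable {k : Type u} [Field k] {X : Scheme.{u}} [X.Over (Spec (CommRingCat.of k))]

theorem eq_zero {E : X.Modules} (h : Subsingleton (Coh.HH X E 0)) (v : Sec E ⊤) : v = 0 := by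
  have h1 : (equivAdd E).symm v = 0 := Subsingleton.elim _ _
  exact ((equivAdd E).symm.map_eq_zero_iff).mp h1

theorem subsingleton_HH {E : X.Modules} (h : ∀ v : Sec E ⊤, v = 0) : Subsingleton (Coh.HH X E 0) :=
  ⟨fun a b => (equivAdd E).injective ((h _).trans (h _).symm)⟩

theorem exists_gen {V : X.Modules} (h : Module.finrank k (Coh.HH X V 0) = 1) :
    ∃ s : Sec V ⊤, s ≠ 0 ∧ ∀ v : Sec V ⊤, ∃ t : Γ(Spec (CommRingCat.of k), ⊤),
      v = ((X ↘ Spec (CommRingCat.of k)).appTop t) • s := by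
  obtain ⟨e, he, hgen⟩ := finrank_eq_one_iff'.mp h
  refine ⟨equivAdd V e, fun h0 => he ((equivAdd V).map_eq_zero_iff.mp h0), fun v => ?_⟩
  obtain ⟨c, hc⟩ := hgen ((equivAdd V).symm v)
  refine ⟨(Scheme.ΓSpecIso (CommRingCat.of k)).inv c, ?_⟩
  have h1 := equivAdd_smul_over V c e
  rw [hc, AddEquiv.apply_symm_apply] at h1
  exact h1

theorem res_injective [IsIntegral X] {V : X.Modules} {r : ℕ} (hV : FlatMod.IsFinLocFreeOfRank r V) {s : Sec V ⊤}
    (hs : s ≠ 0) (U : X.Opens) (hU : (U : Set X).Nonempty) : res V (le_top : U ≤ ⊤) s ≠ 0 := by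
  intro h0
  apply hs
  refine eq_of_locally V fun x hx => ?_
  obtain ⟨W, hW, hxW, b, hb⟩ := K698.Basic.exists_basis hV hx
  refine ⟨W, hW, hxW, ?_⟩
  obtain ⟨c, hc⟩ := (hb W le_rfl).2 (res V hW s)
  have hne : Nonempty (W ⊓ U : X.Opens) := by
    obtain ⟨y, hy⟩ := nonempty_preirreducible_inter W.isOpen U.isOpen ⟨x, hxW⟩ hU
    exact ⟨⟨y, hy⟩⟩
  have h1 : res V (inf_le_left : W ⊓ U ≤ W) (res V hW s) = 0 := by
    rw [res_res, ← res_res V (le_top : U ≤ ⊤) (inf_le_right : W ⊓ U ≤ U), h0, map_zero]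
  rw [← hc, res_comb] at h1
  have h2 : (fun i => resO X (inf_le_left : W ⊓ U ≤ W) (c i)) = 0 := by
    apply (hb (W ⊓ U) inf_le_left).1
    rw [map_zero]
    exact h1
  have h3 : c = 0 := by
    funext i
    have h4 := congrFun h2 i
    exact (map_eq_zero_iff _ (map_injective_of_isIntegral X (homOfLE (inf_le_left : W ⊓ U ≤ W)))).mp h4
  rw [← hc, h3, map_zero, map_zero]

end K670.SecH0
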