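import Groth.Agent.BunMod.K670.ExFun
import Groth.Agent.BunMod.K670.SecH0
import Groth.Agent.Smoothlim.ModKer

/-!
# Good modules and their overmodules with `χ = 1`
-/

set_option autoImplicit false
universe u

open CategoryTheory CategoryTheory.Limits AlgebraicGeometry TopologicalSpace

namespace K670.Chain

open K140.BM Groth.Agent.Sga67.Sec Groth.Agent.Sga67.LocBasis Groth.Agent.Krr.H487.LocBasisPull MapTo BC Ev Pts Fam PtKer FamAff HkLoc HkGlob
open K707.Base K707.Slope K707.Deg K707.Semi Groth.Agent.VarietyA.DegRank Module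

variable {k : Type u} [Field k] {X : Scheme.{u}} [X.Over (Spec (CommRingCat.of k))]
  [IsIntegral X]

variable (k) in
/-- Stable modules with `χ = 0` without sections. -/
structure Good (r : ℕ) (F : X.Modules) : Prop where
  rank : FlatMod.IsFinLocFreeOfRank r F
  st : St k F
  euler : Curv2.euler k X F = 0
  h0 : Subsingleton (Coh.HH X F 0)

variable (k) in
/-- Stable modules with `χ = 1` and `h⁰ = 1`. -/
structure VData (r : ℕ) (V : X.Modules) (s : Sec V ⊤) : Prop where
  rank : FlatMod.IsFinLocFreeOfRank r V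
  st : St k V
  euler : Curv2.euler k X V = 1
  ne : s ≠ 0
  gen : ∀ v : Sec V ⊤, ∃ t : Γ(B0 k, ⊤), v = ((K140.BM.st k X).appTop t) • s
  van : ∀ p, Subsingleton (Coh.HH X V (p + 1))

variable [IsProper (X ↘ (Spec (CommRingCat.of k)))]

theorem Good.of_iso {r : ℕ} {F F' : X.Modules} (e : F ≅ F') (h : Good k r F) : Good k r F' where
  rank := RankPt.rank_of_iso e h.rank
  st := st_of_iso e h.st
  euler := (euler_iso k e).symm.trans h.euler
  h0 := SecH0.subsingleton_HH fun v => by
    have h1 := SecH0.eq_zero h.h0 (appS e.inv ⊤ v)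
    have h2 := appS_inv_hom e ⊤ v
    rw [h1, map_zero] at h2
    exact h2.symm

variable [IsAlgClosed k]

/-- Intermediate modules. -/
theorem exists_V (C : Crv k X) {r : ℕ} (n : ℕ) : ∀ {E W : X.Modules} (_ : FlatMod.IsFinLocFreeOfRank r E)
    (_ : FlatMod.IsFinLocFreeOfRank r W) (i : E ⟶ W) (_ : Mono i)
    (_ : Curv2.euler k X W = Curv2.euler k X E + (n + 1 : ℕ)),
    ∃ (V : X.Modules) (a : E ⟶ V) (b : V ⟶ W), FlatMod.IsFinLocFreeOfRank r V ∧ Mono a ∧ Mono b ∧
      Curv2.euler k X V = Curv2.euler k X E + 1 := by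
  induction n with
  | zero =>
    intro E W hE hW i hi h
    exact ⟨W, i, 𝟙 W, hW, hi, inferInstance, by simpa using h⟩
  | succ n ih =>
    intro E W hE hW i hi h
    have hni : ¬ IsIso i := fun hiso => by
      have := euler_iso k (asIso i)
      omega
    obtain ⟨y, hy, l, hl, hil⟩ := ExFun.exists_functional (k := k) hE hW i hni
    obtain ⟨h1, h2⟩ := kernel_facts y hy C hW l
    have hm : Mono (kernel.lift l i hil) := by
      have : Mono (kernel.lift l i hil ≫ kernel.ι l) := by rwa [kernel.lift_ι]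
      exact mono_of_mono _ (kernel.ι l)
    obtain ⟨V, a, b, hV, ha, hb, he⟩ := ih hE h1 (kernel.lift l i hil) hm (by
      rw [h2, h]
      push_cast
      ring)
    exact ⟨V, a, b ≫ kernel.ι l, hV, ha, mono_comp _ _, he⟩

/-- Submodules with `χ = 0` of `V` are kernels. -/
theorem exists_kernel_iso (C : Crv k X) {r : ℕ} {E V : X.Modules} (hE : FlatMod.IsFinLocFreeOfRank r E)
    (hV : FlatMod.IsFinLocFreeOfRank r V) (i : E ⟶ V) [Mono i]
    (h : Curv2.euler k X V = Curv2.euler k X E + 1) :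
    ∃ (y : Spec (CommRingCat.of k) ⟶ X) (_ : y ≫ (X ↘ Spec (CommRingCat.of k)) = 𝟙 _) (l : V ⟶ sky y),
      Epi l ∧ Nonempty (E ≅ kernel l) := by
  have hni : ¬ IsIso i := fun hiso => by
    have := euler_iso k (asIso i)
    omega
  obtain ⟨y, hy, l, hl, hil⟩ := ExFun.exists_functional (k := k) hE hV i hni
  obtain ⟨h1, h2⟩ := kernel_facts y hy C hV l
  have hm : Mono (kernel.lift l i hil) := by
    have : Mono (kernel.lift l i hil ≫ kernel.ι l) := by
      rw [kernel.lift_ι]
      infer_instance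
    exact mono_of_mono _ (kernel.ι l)
  have hiso : IsIso (kernel.lift l i hil) := Num.isIso_of_euler C _ (isCoh_of_rank hE) (isCoh_of_rank h1)
    ((rk_of_rank hE).trans (rk_of_rank h1).symm) (by omega)
  exact ⟨y, hy, l, hl, ⟨asIso (kernel.lift l i hil)⟩⟩

/-- The overmodules with `χ = 1` of a good module. -/
theorem exists_vdata (C : Crv k X) {r : ℕ} {E V : X.Modules} (hE : Good k r E)
    (hV : FlatMod.IsFinLocFreeOfRank r V) (i : E ⟶ V) [Mono i] (h : Curv2.euler k X V = 1) :
    ∃ s : Sec V ⊤, VData k r V s ∧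
    ∃ (y : Spec (CommRingCat.of k) ⟶ X) (_ : y ≫ (X ↘ Spec (CommRingCat.of k)) = 𝟙 _) (l : V ⟶ sky y),
      appS l ⊤ s ≠ 0 ∧ Nonempty (E ≅ kernel l) := by
  have hEc := isCoh_of_rank hE.rank
  have hVc := isCoh_of_rank hV
  have hr : rk E = rk V := (rk_of_rank hE.rank).trans (rk_of_rank hV).symm
  obtain ⟨h1, h2⟩ := Num.h0_eq_one C i hEc hVc hr hE.euler h hE.h0
  have hst := Num.st_of_over C i hEc hVc hr hE.st hE.euler h
  obtain ⟨s, hs, hgen⟩ := SecH0.exists_gen h1
  obtain ⟨y, hy, l, hl, ⟨e⟩⟩ := exists_kernel_iso (k := k) C hE.rank hV i (by rw [h, hE.euler]; rfl)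
  have hnoe := isNoetherian k (X := X)
  refine ⟨s, ⟨hV, hst, h, hs, hgen, fun p => ?_⟩, y, hy, l, fun h0 => hs ?_, ⟨e⟩⟩
  · cases p with
    | zero => exact h2
    | succ p =>
      exact Groth.Agent.Krr.H463.SpecField.subsingleton_HH_of_dim X 1 (by rw [C.dim]; rfl) V _ (by omega)
  · obtain ⟨z, hz⟩ := Groth.Agent.Smoothlim.ModKer.exists_of_app_eq_zero l ⊤ s h0
    have h3 := SecH0.eq_zero (Good.of_iso e hE).h0 z
    have h4 : appS (kernel.ι l) ⊤ z = s := hz
    rw [h3, map_zero] at h4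
    exact h4.symm

end K670.Chain
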