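import Groth.Agent.BunMod.K670.Move2

/-!
# `ρ` is constant
-/

set_option autoImplicit false
universe u

open CategoryTheory CategoryTheory.Limits AlgebraicGeometry TopologicalSpace

namespace K670.Conn

open K140.BM Groth.Agent.Sga67.Sec Groth.Agent.Sga67.LocBasis Groth.Agent.Krr.H487.LocBasisPull MapTo BC Ev Pts Fam PtKer FamAff HkLoc HkGlob Chain Move
open K707.Base K707.Slope K707.Deg K707.Semi Groth.Agent.VarietyA.DegRank Module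

variable {k : Type u} [Field k] {X : Scheme.{u}} [X.Over (Spec (CommRingCat.of k))]

variable [IsIntegral X] [IsProper (X ↘ (Spec (CommRingCat.of k)))] [IsAlgClosed k]

omit [IsIntegral X] [IsProper (X ↘ (Spec (CommRingCat.of k)))] [IsAlgClosed k]
  [X.Over (Spec (CommRingCat.of k))] in
/-- Bases pull back along isomorphisms. -/
theorem exists_basis_of_bij {r : ℕ} {V W : X.Modules} (j : V ⟶ W) {O U : X.Opens}
    (hO : ∀ U : X.Opens, U ≤ O → Function.Bijective (appS j U)) (hU : U ≤ O) {w : Fin r → Sec W U}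
    (hw : IsLocBasis w) : ∃ v : Fin r → Sec V U, IsLocBasis v ∧ ∀ a, appS j U (v a) = w a := by
  choose v hv using fun a => (hO U hU).2 (w a)
  refine ⟨v, fun U' hU' => ?_, hv⟩
  have h1 : ∀ c, appS j U' (comb v hU' c) = comb w hU' c := fun c => by
    rw [comb_apply, comb_apply, map_sum]
    refine Finset.sum_congr rfl fun a _ => ?_
    rw [map_smul, appS_res, hv]
  have h2 : Function.Bijective ((appS j U') ∘ (comb v hU')) := by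
    have h3 : (appS j U') ∘ (comb v hU') = comb w hU' := funext h1
    rw [h3]
    exact hw U' hU'
  exact (Function.Bijective.of_comp_iff' (hO U' (hU'.trans hU)) _).mp h2

theorem step (C : Crv k X) {r : ℕ} (hr : 2 ≤ r) {ρ : X.Modules → k} (hρ : RhoP r ρ) (hO : StOpen k X r) (n : ℕ)
    {E₁ E₂ W : X.Modules} (h₁ : Good k r E₁) (h₂ : Good k r E₂) (hW : FlatMod.IsFinLocFreeOfRank r W)
    (i₁ : E₁ ⟶ W) (i₂ : E₂ ⟶ W) (m₁ : Mono i₁) (m₂ : Mono i₂) (hn : Curv2.euler k X W = (n + 1 : ℕ)) :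
    ∃ (E₁' E₂' W' : X.Modules) (i₁' : E₁' ⟶ W') (i₂' : E₂' ⟶ W'), Good k r E₁' ∧ Good k r E₂' ∧
      FlatMod.IsFinLocFreeOfRank r W' ∧ Mono i₁' ∧ Mono i₂' ∧ Curv2.euler k X W' = n ∧
      ρ E₁' = ρ E₁ ∧ ρ E₂' = ρ E₂ := by
  -- the intermediate modules
  have key : ∀ {E : X.Modules} (_ : Good k r E) (i : E ⟶ W) (_ : Mono i), ∃ (V : X.Modules) (j : V ⟶ W) (s : Sec V ⊤)
      (O : X.Opens), Mono j ∧ VData k r V s ∧ (O : Set X).Nonempty ∧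
      (∀ U : X.Opens, U ≤ O → Function.Bijective (appS j U)) ∧
      (∀ (x : Spec (CommRingCat.of k) ⟶ X) (_ : x ≫ (X ↘ Spec (CommRingCat.of k)) = 𝟙 _),
        x (IsLocalRing.closedPoint k) ∈ O → ∃ l' : V ⟶ sky x, appS l' ⊤ s ≠ 0 ∧ St k (kernel l')) ∧
      (∀ (x : Spec (CommRingCat.of k) ⟶ X) (_ : x ≫ (X ↘ Spec (CommRingCat.of k)) = 𝟙 _) (l' : V ⟶ sky x),
        appS l' ⊤ s ≠ 0 → ρ (kernel l') = ρ E) := by
    intro E hE i hi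
    obtain ⟨V, a, j, hV, ha, hj, hVe⟩ := exists_V (k := k) C n hE.rank hW i hi (by rw [hn, hE.euler, zero_add])
    obtain ⟨s, hVs, y, hy, l, hl, ⟨e⟩⟩ := exists_vdata C hE hV a (by rw [hVe, hE.euler, zero_add])
    obtain ⟨O₁, hO₁, hO₁'⟩ := exists_open_good C hVs hO hy l hl (st_of_iso e hE.st)
    obtain ⟨O₂, hO₂, hO₂'⟩ := exists_open_bij hV hW j
    obtain ⟨c, hc⟩ := exists_const hr C hVs.rank hVs.st hVs.euler hρ s hVs.gen hVs.van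
      (SecH0.res_injective hVs.rank hVs.ne)
    refine ⟨V, j, s, O₁ ⊓ O₂, hj, hVs, nonempty_preirreducible_inter O₁.isOpen O₂.isOpen hO₁ hO₂,
      fun U hU => hO₂' U (hU.trans inf_le_right), fun x hx hxO => hO₁' x hx hxO.1, fun x hx l' hl' => ?_⟩
    rw [hc x hx l' hl', hρ.iso ⟨e⟩, hc y hy l hl]
  obtain ⟨V₁, j₁, s₁, O₁, hj₁, hV₁, hne₁, hbij₁, hgood₁, hρ₁⟩ := key h₁ i₁ m₁
  obtain ⟨V₂, j₂, s₂, O₂, hj₂, hV₂, hne₂, hbij₂, hgood₂, hρ₂⟩ := key h₂ i₂ m₂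
  -- a chart
  obtain ⟨z, hz⟩ := nonempty_preirreducible_inter O₁.isOpen O₂.isOpen hne₁ hne₂
  have hz' : z ∈ O₁ ⊓ O₂ := hz
  obtain ⟨U₀, hU₀, hzU₀, w₀, hw₀⟩ := K698.Basic.exists_basis hW hz'
  obtain ⟨U, hU, hzU, hUU₀⟩ := Opens.isBasis_iff_nbhd.mp X.isBasis_affineOpens hzU₀
  have hw := hw₀.restrict hUU₀
  have hUO₁ : U ≤ O₁ := hUU₀.trans (hU₀.trans inf_le_left)
  have hUO₂ : U ≤ O₂ := hUU₀.trans (hU₀.trans inf_le_right)
  obtain ⟨v₁, hv₁, hjv₁⟩ := exists_basis_of_bij j₁ hbij₁ hUO₁ hw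
  obtain ⟨v₂, hv₂, hjv₂⟩ := exists_basis_of_bij j₂ hbij₂ hUO₂ hw
  have hUne : Nonempty U := ⟨⟨z, hzU⟩⟩
  have hdom : IsDomain Γ(X, U) := inferInstance
  -- a point
  obtain ⟨φ₀, hφ₀⟩ : ∃ φ₀ : Γ(X, U) →+* k, φ₀.comp (kap k hU) = RingHom.id k := by
    let _ : Algebra k Γ(X, U) := (kap k hU).toAlgebra
    have hfinA : Algebra.FiniteType k Γ(X, U) := kap_finiteType hU
    obtain ⟨y, -⟩ := Poly.exists_point (k := k) (A := Γ(X, U)) (c := 1) (by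
      rintro ⟨n, hn⟩
      rw [one_pow] at hn
      exact one_ne_zero hn)
    exact ⟨y, by ext c; exact y.commutes c⟩
  have hx₀ := ypt_over hU hφ₀
  have hxU : ypt hU φ₀ (IsLocalRing.closedPoint k) ∈ U :=
    le_ypt hU φ₀ (Opens.mem_top (IsLocalRing.closedPoint k : Spec (CommRingCat.of k)))
  obtain ⟨l₁, hl₁, hst₁⟩ := hgood₁ _ hx₀ (hUO₁ hxU)
  obtain ⟨l₂, hl₂, hst₂⟩ := hgood₂ _ hx₀ (hUO₂ hxU)
  obtain ⟨Q₁, hQ₁, hQ₁'⟩ := exists_poly_good C hV₁ hO hU hv₁ hφ₀ l₁ hl₁ hst₁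
  obtain ⟨Q₂, hQ₂, hQ₂'⟩ := exists_poly_good C hV₂ hO hU hv₂ hφ₀ l₂ hl₂ hst₂
  obtain ⟨L, hL⟩ : ∃ L : Fin r → k, MvPolynomial.eval L (Q₁ * Q₂) ≠ 0 := by
    by_contra hcon
    push Not at hcon
    exact mul_ne_zero hQ₁ hQ₂ (MvPolynomial.funext fun L => by rw [hcon L, map_zero])
  rw [map_mul] at hL
  obtain ⟨hs₁, ht₁⟩ := hQ₁' L (left_ne_zero_of_mul hL)
  obtain ⟨hs₂, ht₂⟩ := hQ₂' L (right_ne_zero_of_mul hL)
  -- the functional on `W`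
  let μ := mp (ypt hU φ₀) (le_ypt hU φ₀) hw fun i => gm k (L i)
  have hcomp : ∀ {V : X.Modules} (j : V ⟶ W) {v : Fin r → Sec V U} (hv : IsLocBasis v)
      (_ : ∀ a, appS j U (v a) = res W hUU₀ (w₀ a)),
      j ≫ μ = mp (ypt hU φ₀) (le_ypt hU φ₀) hv fun i => gm k (L i) := by
    intro V j v hv hjv
    refine eq_mp (ypt hU φ₀) (le_ypt hU φ₀) hv fun a => ?_
    have h1 : evl (ypt hU φ₀) (le_ypt hU φ₀) (j ≫ μ) (v a) = gm k (L a) := by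
      rw [evl_comp, hjv]
      exact evl_mp (ypt hU φ₀) (le_ypt hU φ₀) hw _ a
    exact h1
  have c₁ := hcomp j₁ hv₁ hjv₁
  have c₂ := hcomp j₂ hv₂ hjv₂
  have hLne : L ≠ 0 := by
    rintro rfl
    apply hs₁
    have h1 : mp (ypt hU φ₀) (le_ypt hU φ₀) hv₁ (fun i => gm k ((0 : Fin r → k) i)) = 0 := by
      refine MapTo.hom_ext (ypt hU φ₀) (le_ypt hU φ₀) hv₁ fun j => ?_
      refine (evl_mp (ypt hU φ₀) (le_ypt hU φ₀) hv₁ _ j).trans ?_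
      rw [Pi.zero_apply, map_zero, val, appS_zero, map_zero, map_zero]
      rfl
    rw [h1, appS_zero]
  have hepi : Epi μ := epi_mp hU hw hφ₀ hLne
  obtain ⟨f1, f2⟩ := kernel_facts (ypt hU φ₀) hx₀ C hW μ
  have hlift : ∀ {V : X.Modules} (j : V ⟶ W) (_ : Mono j) (l : V ⟶ sky (ypt hU φ₀)) (_ : j ≫ μ = l),
      ∃ a : kernel l ⟶ kernel μ, Mono a := by
    rintro V j hj l rfl
    refine ⟨kernel.lift μ (kernel.ι (j ≫ μ) ≫ j) (by rw [Category.assoc, kernel.condition]), ?_⟩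
    have : Mono (kernel.lift μ (kernel.ι (j ≫ μ) ≫ j) (by rw [Category.assoc, kernel.condition]) ≫ kernel.ι μ) := by
      rw [kernel.lift_ι]
      exact mono_comp _ _
    exact mono_of_mono _ (kernel.ι μ)
  obtain ⟨a₁, ha₁⟩ := hlift j₁ hj₁ _ c₁
  obtain ⟨a₂, ha₂⟩ := hlift j₂ hj₂ _ c₂
  refine ⟨_, _, kernel μ, a₁, a₂, good_kernel C hV₁ hx₀ _ hs₁ ht₁, good_kernel C hV₂ hx₀ _ hs₂ ht₂, f1, ha₁, ha₂,
    ?_, hρ₁ _ hx₀ _ hs₁, hρ₂ _ hx₀ _ hs₂⟩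
  rw [f2, hn]
  push_cast
  ring

theorem eq_of_le (C : Crv k X) {r : ℕ} (hr : 2 ≤ r) {ρ : X.Modules → k} (hρ : RhoP r ρ) (hO : StOpen k X r) (n : ℕ) :
    ∀ {E₁ E₂ W : X.Modules} (_ : Good k r E₁) (_ : Good k r E₂) (_ : FlatMod.IsFinLocFreeOfRank r W)
    (i₁ : E₁ ⟶ W) (i₂ : E₂ ⟶ W) (_ : Mono i₁) (_ : Mono i₂) (_ : Curv2.euler k X W = n), ρ E₁ = ρ E₂ := by
  induction n with
  | zero =>
    intro E₁ E₂ W h₁ h₂ hW i₁ i₂ m₁ m₂ hn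
    have f₁ : IsIso i₁ := Num.isIso_of_euler C i₁ (isCoh_of_rank h₁.rank) (isCoh_of_rank hW)
      ((rk_of_rank h₁.rank).trans (rk_of_rank hW).symm) (by rw [hn, h₁.euler]; rfl)
    have f₂ : IsIso i₂ := Num.isIso_of_euler C i₂ (isCoh_of_rank h₂.rank) (isCoh_of_rank hW)
      ((rk_of_rank h₂.rank).trans (rk_of_rank hW).symm) (by rw [hn, h₂.euler]; rfl)
    exact hρ.iso ⟨asIso i₁ ≪≫ (asIso i₂).symm⟩
  | succ n ih =>
    intro E₁ E₂ W h₁ h₂ hW i₁ i₂ m₁ m₂ hn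
    obtain ⟨E₁', E₂', W', i₁', i₂', g₁, g₂, gW, n₁, n₂, hn', e₁, e₂⟩ :=
      step C hr hρ hO n h₁ h₂ hW i₁ i₂ m₁ m₂ hn
    rw [← e₁, ← e₂]
    exact ih g₁ g₂ gW i₁' i₂' n₁ n₂ hn'

/-- **`ρ` is constant on good modules.** -/
theorem eq_of_good (C : Crv k X) {r : ℕ} (hr : 2 ≤ r) {ρ : X.Modules → k} (hρ : RhoP r ρ) (hO : StOpen k X r)
    {E₁ E₂ : X.Modules} (h₁ : Good k r E₁) (h₂ : Good k r E₂) : ρ E₁ = ρ E₂ := by
  obtain ⟨W, i₁, i₂, hW, hrW, m₁, m₂⟩ := Num.exists_over C (isFinLocFree_of_rank h₁.rank)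
    (isFinLocFree_of_rank h₂.rank) ((rk_of_rank h₁.rank).trans (rk_of_rank h₂.rank).symm)
  have hW' : FlatMod.IsFinLocFreeOfRank r W := by
    have := isFinLocFreeOfRank_rk hW
    rwa [hrW, rk_of_rank h₁.rank] at this
  have h0 := Num.euler_le_of_mono C i₁ (isCoh_of_rank h₁.rank) (isCoh_of_rank hW') hrW.symm
  rw [h₁.euler] at h0
  obtain ⟨n, hn⟩ := Int.eq_ofNat_of_zero_le h0
  exact eq_of_le C hr hρ hO n h₁ h₂ hW' i₁ i₂ m₁ m₂ hn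

end K670.Conn
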