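import Groth.Agent.BunMod.K670.Sca
import Groth.Agent.BunMod.K670.Poly
import Groth.Agent.BunMod.K140.Defs

/-!
# Constant functions

`eq_smul`: if `R I s` is constant on the rational points of a nonempty open subset of an integral scheme `Z` dominating
`M` then `s` is a constant multiple of the inclusion of `I`.
-/

set_option autoImplicit false
universe u

open CategoryTheory CategoryTheory.Limits AlgebraicGeometry TopologicalSpace

namespace K670.Const

open Groth.Agent.PerfA.IdealModule Groth.Agent.CohqB.QC2 Groth.Agent.CohqB.FiniteType2 Pts Sca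
open Groth.Agent.LoccohB.HHmap
open K140.BM (B0)

/-- For `U` integral and `π` dominant, `O_U → π_* O_G` is injective. -/
theorem app_injective {G U : Scheme.{u}} [IsIntegral U] (π : G ⟶ U) [IsDominant π] (V : U.Opens) :
    Function.Injective (π.app V) := by
  rw [injective_iff_map_eq_zero]
  intro s hs
  by_cases hV : Nonempty V
  · have h1 : U.basicOpen s = ⊥ := by
      have h2 : π ⁻¹ᵁ (U.basicOpen s) = ⊥ := by
        rw [Scheme.preimage_basicOpen, hs, Scheme.basicOpen_zero]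
      by_contra hne
      obtain ⟨x, hx⟩ := (Opens.ne_bot_iff_nonempty _).1 hne
      obtain ⟨y, hy, ⟨z, rfl⟩⟩ := π.denseRange.inter_open_nonempty (U.basicOpen s)
        (U.basicOpen s).isOpen ⟨x, hx⟩
      have : z ∈ π ⁻¹ᵁ (U.basicOpen s) := hy
      rw [h2] at this
      exact this
    exact (basicOpen_eq_bot_iff s).1 h1
  · have : V = ⊥ := by
      rw [← Opens.not_nonempty_iff_eq_bot]
      rintro ⟨x, hx⟩
      exact hV ⟨⟨x, hx⟩⟩
    subst this
    exact Subsingleton.elim _ _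

variable {k : Type u} [Field k]

/-- The value at a rational point of a constant function. -/
theorem ev_const {Z : Over (B0 k)} (z : Spec (CommRingCat.of k) ⟶ Z.left) (hz : z ≫ Z.hom = 𝟙 _) (c : k)
    {W : Z.left.Opens} (hW : ⊤ ≤ z ⁻¹ᵁ W) :
    ev z hW (resR (le_top : W ≤ ⊤) (Z.hom.appTop (gm k c))) = c := by
  rw [ev_res _ _ _ le_top]
  apply (gm k).injective
  rw [ev_top]
  have h1 : Z.hom.appTop ≫ z.appTop = 𝟙 _ := by
    rw [← Scheme.Hom.comp_appTop, hz]
    rfl
  exact congr($h1 (gm k c))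

/-- A function on an open set which vanishes at all rational points of a nonempty open subset. -/
theorem eq_zero_of_points [IsAlgClosed k] {Z : Over (B0 k)} [IsIntegral Z.left] [LocallyOfFiniteType Z.hom]
    {W W' : Z.left.Opens} (hW' : W' ≤ W) (hne : (W' : Set Z.left).Nonempty) (a : Γ(Z.left, W))
    (h : ∀ (z : Spec (CommRingCat.of k) ⟶ Z.left) (_ : z ≫ Z.hom = 𝟙 _) (_ : ⊤ ≤ z ⁻¹ᵁ W') (hz : ⊤ ≤ z ⁻¹ᵁ W),
      ev z hz a = 0) : a = 0 := by
  obtain ⟨x, hx⟩ := hne
  obtain ⟨_, ⟨U, hU, rfl⟩, hxU, hUW⟩ := Z.left.isBasis_affineOpens.exists_subset_of_mem_open hx W'.isOpen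
  let _ : Z.left.Over (Spec (CommRingCat.of k)) := ⟨Z.hom⟩
  let _ : Algebra k Γ(Z.left, U) := (kap k hU).toAlgebra
  have hfin : Algebra.FiniteType k Γ(Z.left, U) := by
    have h1 : LocallyOfFiniteType (Spec.map (CommRingCat.ofHom (kap k hU))) := by
      rw [kap_spec]
      have : LocallyOfFiniteType (Z.left ↘ Spec (CommRingCat.of k)) := ‹LocallyOfFiniteType Z.hom›
      infer_instance
    exact (HasRingHomProperty.Spec_iff (P := @LocallyOfFiniteType)).mp h1
  have hneU : Nonempty U := ⟨⟨x, hxU⟩⟩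
  have h2 : resR (show U ≤ W from fun y hy => hW' (hUW hy)) a = 0 := by
    refine Poly.eq_zero_of_points (k := k) fun y => ?_
    have hy : (y : Γ(Z.left, U) →+* k).comp (kap k hU) = RingHom.id k := by
      ext c
      exact y.commutes c
    have h3 := le_ypt hU (y : Γ(Z.left, U) →+* k)
    have h4 : ⊤ ≤ ypt hU (y : Γ(Z.left, U) →+* k) ⁻¹ᵁ W' := fun z hz => hUW (h3 hz)
    have h5 : ⊤ ≤ ypt hU (y : Γ(Z.left, U) →+* k) ⁻¹ᵁ W := fun z hz => hW' (h4 hz)
    have h6 := h (ypt hU (y : Γ(Z.left, U) →+* k)) (ypt_over hU hy) h4 h5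
    rw [← ev_res _ (show U ≤ W from fun y hy => hW' (hUW hy)) h3] at h6
    apply (gm k).injective
    have h7 := ypt_appLE hU (y : Γ(Z.left, U) →+* k) (resR (show U ≤ W from fun y hy => hW' (hUW hy)) a)
    rw [← gm_ev, h6] at h7
    exact h7.symm
  have h3 : Nonempty W := ⟨⟨x, hW' hx⟩⟩
  exact map_injective_of_isIntegral Z.left (homOfLE (show U ≤ W from fun y hy => hW' (hUW hy)))
    (h2.trans (map_zero _).symm)

variable {M : Over (B0 k)} [IsIntegral M.left] (I : M.left.IdealSheafData)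
  (s : ClSub.idealMod I ⟶ Coh.structureModule M.left)

theorem eq_smul_of_G0 (hne : (Vo I : Set M.left).Nonempty) (c : Γ(M.left, ⊤))
    (h : G0 I s = resR le_top c) : s = smulHom _ c ≫ ClSub.idealModι I := by
  have key : ∀ (W : M.left.Opens) (x : Γ(ClSub.idealMod I, W)), sv I s x = resR le_top c * val I x := by
    intro W x
    by_cases hW : (W : Set M.left).Nonempty
    · obtain ⟨y, hy⟩ := nonempty_preirreducible_inter W.isOpen (Vo I).isOpen hW hne
      have h1 := sv_eq I s (inf_le_right : W ⊓ Vo I ≤ Vo I) (res _ inf_le_left x)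
      rw [sv_res, val_res, h, resR_resR] at h1
      have : Nonempty (W ⊓ Vo I : M.left.Opens) := ⟨⟨y, hy⟩⟩
      apply map_injective_of_isIntegral M.left (homOfLE (inf_le_left : W ⊓ Vo I ≤ W))
      change resR _ _ = resR _ _
      rw [h1, map_mul, resR_resR, mul_comm]
    · have h1 : W = ⊥ := by
        rw [← Opens.not_nonempty_iff_eq_bot]
        exact hW
      subst h1
      exact Subsingleton.elim _ _
  apply Scheme.Modules.hom_ext
  intro W
  ext x
  exact (key W x).trans (sv_smul I (ClSub.idealModι I) (resR le_top c) x).symm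

/-- **Constant on a nonempty open subset of an integral scheme dominating `M`.** -/
theorem eq_smul [IsAlgClosed k] {Z : Over (B0 k)} [IsIntegral Z.left] [LocallyOfFiniteType Z.hom] (π : Z ⟶ M)
    [IsDominant π.left] {W : Z.left.Opens} (hW : (W : Set Z.left).Nonempty)
    (hne : (Vo I : Set M.left).Nonempty) (c : k)
    (h : ∀ (z : Spec (CommRingCat.of k) ⟶ Z.left) (_ : z ≫ Z.hom = 𝟙 _), ⊤ ≤ z ⁻¹ᵁ W →
      ⊤ ≤ (z ≫ π.left) ⁻¹ᵁ (Vo I) → R I s (z ≫ π.left) = c) :
    s = smulHom _ (M.hom.appTop (gm k c)) ≫ ClSub.idealModι I := by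
  refine eq_smul_of_G0 I s hne _ ?_
  rw [← sub_eq_zero]
  apply app_injective π.left (Vo I)
  rw [map_zero]
  obtain ⟨m, hm⟩ := hne
  obtain ⟨_, hz0, z0, rfl⟩ := π.left.denseRange.inter_open_nonempty (Vo I) (Vo I).isOpen ⟨m, hm⟩
  have hne' : ((π.left ⁻¹ᵁ (Vo I) ⊓ W : Z.left.Opens) : Set Z.left).Nonempty :=
    nonempty_preirreducible_inter (π.left ⁻¹ᵁ (Vo I)).isOpen W.isOpen ⟨z0, hz0⟩ hW
  refine eq_zero_of_points (k := k) (inf_le_left : π.left ⁻¹ᵁ (Vo I) ⊓ W ≤ _) hne' _ fun z hz h1 h2 => ?_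
  have h3 : ⊤ ≤ z ⁻¹ᵁ W := fun y hy => (h1 hy).2
  have h4 : ⊤ ≤ (z ≫ π.left) ⁻¹ᵁ (Vo I) := h2
  have h5 : (z ≫ π.left) ≫ M.hom = 𝟙 _ := by
    rw [Category.assoc, Over.w π, hz]
  have h6 := ev_comp z π.left (le_refl (π.left ⁻¹ᵁ (Vo I))) h2 h4 (G0 I s - resR le_top (M.hom.appTop (gm k c)))
  rw [← Scheme.Hom.app_eq_appLE] at h6
  rw [h6, map_sub, ev_const (Z := M) _ h5, ← R_eq I s _ h4, h z hz h3 h4, sub_self]

end K670.Const
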