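import Groth.Agent.BunMod.K670.BC

/-!
# Values of functionals `M ⟶ j_* O`
-/

set_option autoImplicit false
universe u

open CategoryTheory CategoryTheory.Limits AlgebraicGeometry TopologicalSpace

namespace K670.Ev

open Groth.Agent.Sga67.Sec Groth.Agent.Sga67.LocBasis Groth.Agent.Krr.H487.LocBasisPull MapTo

variable {Y Z : Scheme.{u}} (j : Z ⟶ Y) {M : Y.Modules} {U : Y.Opens}

/-- The value of a functional at a section. -/
noncomputable def evl (hU : ⊤ ≤ j ⁻¹ᵁ U) (φ : M ⟶ (Scheme.Modules.pushforward j).obj (Coh.structureModule Z))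
    (c : Sec M U) : Γ(Z, ⊤) := toO (res _ hU (ofPush j (appS φ U c)))

variable (hU : ⊤ ≤ j ⁻¹ᵁ U) (φ : M ⟶ (Scheme.Modules.pushforward j).obj (Coh.structureModule Z))

theorem evl_add (c c' : Sec M U) : evl j hU φ (c + c') = evl j hU φ c + evl j hU φ c' := by
  rw [evl, map_add, map_add, map_add]
  rfl

theorem evl_zero : evl j hU φ (0 : Sec M U) = 0 := by
  rw [evl, map_zero, map_zero, map_zero]
  rfl

theorem evl_sub (c c' : Sec M U) : evl j hU φ (c - c') = evl j hU φ c - evl j hU φ c' := by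
  rw [evl, map_sub, map_sub, map_sub]
  rfl

theorem evl_sum {ι : Type*} (s : Finset ι) (c : ι → Sec M U) :
    evl j hU φ (∑ i ∈ s, c i) = ∑ i ∈ s, evl j hU φ (c i) := by
  classical
  induction s using Finset.induction_on with
  | empty => simp [evl_zero]
  | insert a s ha ih => rw [Finset.sum_insert ha, Finset.sum_insert ha, evl_add, ih]

theorem evl_smul (f : Γ(Y, U)) (c : Sec M U) : evl j hU φ (f • c) = j.appLE U ⊤ hU f * evl j hU φ c := by
  rw [evl, map_smul, ofPush_smul, res_smul, toO_smul]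
  rfl

theorem evl_res {W : Y.Opens} (h : W ≤ U) (hW : ⊤ ≤ j ⁻¹ᵁ W) (c : Sec M U) :
    evl j hW φ (res M h c) = evl j hU φ c := by
  rw [evl, evl, appS_res, ofPush_res, res_res]

theorem evl_comb {n : ℕ} (b : Fin n → Sec M U) (c : Fin n → Γ(Y, U)) :
    evl j hU φ (∑ i, c i • b i) = ∑ i, j.appLE U ⊤ hU (c i) * evl j hU φ (b i) := by
  rw [evl_sum]
  exact Finset.sum_congr rfl fun i _ => evl_smul j hU φ _ _

theorem evl_mp {n : ℕ} {b : Fin n → Sec M U} (hb : IsLocBasis b) (a : Fin n → Γ(Z, ⊤)) (i : Fin n) :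
    evl j hU (mp j hU hb a) (b i) = a i := toO_val_mp j hU hb a i

theorem eq_mp_evl {n : ℕ} {b : Fin n → Sec M U} (hb : IsLocBasis b) :
    φ = mp j hU hb fun i => evl j hU φ (b i) := eq_mp j hU hb fun _ => rfl

/-- The composition with a map of the source. -/
theorem evl_comp {M' : Y.Modules} (f : M' ⟶ M) (c : Sec M' U) :
    evl j hU (f ≫ φ) c = evl j hU φ (appS f U c) := by
  rw [evl, evl, appS_comp]

theorem evl_top_eq_zero_iff (c : Sec M ⊤) (h : ⊤ ≤ j ⁻¹ᵁ ⊤) : evl j h φ c = 0 ↔ appS φ ⊤ c = 0 := by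
  constructor
  · intro h0
    have h1 : res (Coh.structureModule Z) h (ofPush j (appS φ ⊤ c)) = ofPush j (appS φ ⊤ c) := res_self _ _ _
    have h2 : ofPush j (appS φ ⊤ c) = 0 := h1.symm.trans h0
    exact ofPush_injective j (h2.trans (map_zero _).symm)
  · intro h0
    rw [evl, h0, map_zero, map_zero]
    rfl

/-- Multiplication by a unit on the target. -/
theorem exists_scale (u v : Γ(Z, ⊤)) (huv : u * v = 1) :
    ∃ e : Coh.structureModule Z ≅ Coh.structureModule Z, ∀ s : Sec (Coh.structureModule Z) ⊤,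
      toO (appS e.hom ⊤ s) = u * toO s := by
  obtain ⟨f, hf⟩ := exists_hom_top (BC.isLocBasis_one Z ⊤) (N := Coh.structureModule Z)
    (fun _ => u • one Z ⊤)
  obtain ⟨g, hg⟩ := exists_hom_top (BC.isLocBasis_one Z ⊤) (N := Coh.structureModule Z)
    (fun _ => v • one Z ⊤)
  have hf' := hf 0
  have hg' := hg 0
  refine ⟨⟨f, g, hom_ext_top (BC.isLocBasis_one Z ⊤) fun i => ?_, hom_ext_top (BC.isLocBasis_one Z ⊤) fun i => ?_⟩,
    fun s => ?_⟩
  · rw [appS_comp, hf', map_smul, hg', ← mul_smul, huv, one_smul, appS_id]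
  · rw [appS_comp, hg', map_smul, hf', ← mul_smul, mul_comm, huv, one_smul, appS_id]
  · change toO (appS f ⊤ s) = _
    conv_lhs => rw [← toO_smul_one s, map_smul, hf', ← mul_smul]
    rw [toO_smul, toO_one, mul_one, mul_comm]

/-- The kernel of a functional does not change if it is multiplied by a unit. -/
theorem nonempty_kernel_scale {n : ℕ} {b : Fin n → Sec M U} (hb : IsLocBasis b) (a : Fin n → Γ(Z, ⊤))
    (u v : Γ(Z, ⊤)) (huv : u * v = 1) :
    Nonempty (kernel (mp j hU hb fun i => u * a i) ≅ kernel (mp j hU hb a)) := by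
  obtain ⟨e, he⟩ := exists_scale (Z := Z) u v huv
  let e' := (Scheme.Modules.pushforward j).mapIso e
  have h1 : mp j hU hb a ≫ e'.hom = mp j hU hb fun i => u * a i := by
    refine eq_mp j hU hb fun i => ?_
    have h2 := toO_val_mp j hU hb a i
    rw [val] at h2 ⊢
    have h3 : ofPush j (appS (mp j hU hb a ≫ e'.hom) U (b i)) =
        appS e.hom (j ⁻¹ᵁ U) (ofPush j (appS (mp j hU hb a) U (b i))) := rfl
    rw [h3, ← appS_res, he, h2]
  exact ⟨kernelIsoOfEq h1.symm ≪≫ kernelCompMono _ _⟩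

end K670.Ev
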