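import Groth.Agent.BunMod.K670.HkGlob

/-!
# Submodules of colength one
-/

set_option autoImplicit false
universe u

open CategoryTheory CategoryTheory.Limits AlgebraicGeometry TopologicalSpace

namespace K670.ExFun

open K140.BM Groth.Agent.Sga67.Sec Groth.Agent.Sga67.LocBasis Groth.Agent.Krr.H487.LocBasisPull MapTo BC Ev Pts Fam PtKer FamAff HkLoc HkGlob
open K707.Base K707.Slope K707.Deg K707.Semi Groth.Agent.VarietyA.DegRank Module

variable {k : Type u} [Field k] {X : Scheme.{u}} [X.Over (Spec (CommRingCat.of k))]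
  [IsIntegral X] [IsProper (X ↘ (Spec (CommRingCat.of k)))] [IsAlgClosed k]

theorem exists_functional {r : ℕ} {E W : X.Modules} (hE : FlatMod.IsFinLocFreeOfRank r E)
    (hW : FlatMod.IsFinLocFreeOfRank r W) (i : E ⟶ W) (hni : ¬ IsIso i) :
    ∃ (y : Spec (CommRingCat.of k) ⟶ X) (_ : y ≫ (X ↘ Spec (CommRingCat.of k)) = 𝟙 _) (l : W ⟶ sky y),
      Epi l ∧ i ≫ l = 0 := by
  by_contra hcon
  push Not at hcon
  apply hni
  refine isIso_of_bijective i fun x U₀ hx => ?_
  obtain ⟨U₁, hU₁, hx₁, bE, hbE⟩ := K698.Basic.exists_basis hE hx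
  obtain ⟨U₂, hU₂, hx₂, bW, hbW⟩ := K698.Basic.exists_basis hW hx₁
  obtain ⟨U, hU, hxU, hUU₂⟩ := Opens.isBasis_iff_nbhd.mp X.isBasis_affineOpens hx₂
  have hbE' := hbE.restrict (hUU₂.trans hU₂)
  have hbW' := hbW.restrict hUU₂
  set e : Fin r → Sec E U := fun j => res E (hUU₂.trans hU₂) (bE j) with he
  set w : Fin r → Sec W U := fun j => res W hUU₂ (bW j) with hw
  have hP := fun j => (hbW' U le_rfl).2 (appS i U (e j))
  choose P' hP' using hP
  let P : Matrix (Fin r) (Fin r) Γ(X, U) := fun a j => P' j a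
  have hPe : ∀ j, appS i U (e j) = ∑ a, P a j • w a := fun j => by
    rw [← hP' j, comb_apply]
    simp only [res_self]
    rfl
  have hunit : IsUnit P.det := by
    by_contra hnu
    let _ : Algebra k Γ(X, U) := (kap k hU).toAlgebra
    have hfinA : Algebra.FiniteType k Γ(X, U) := kap_finiteType hU
    have hnt : Nontrivial (Γ(X, U) ⧸ Ideal.span {P.det}) :=
      Ideal.Quotient.nontrivial_iff.mpr (by rwa [ne_eq, Ideal.span_singleton_eq_top])
    obtain ⟨y, -⟩ := Poly.exists_point (k := k) (A := Γ(X, U) ⧸ Ideal.span {P.det}) (c := 1) (by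
      rintro ⟨n, hn⟩
      rw [one_pow] at hn
      exact one_ne_zero hn)
    let φ : Γ(X, U) →+* k := (y : (Γ(X, U) ⧸ Ideal.span {P.det}) →+* k).comp (Ideal.Quotient.mk _)
    have hφ : φ.comp (kap k hU) = RingHom.id k := by
      ext c
      exact y.commutes c
    have hφd : φ P.det = 0 := by
      change y (Ideal.Quotient.mk _ P.det) = 0
      rw [Ideal.Quotient.eq_zero_iff_mem.mpr (Ideal.mem_span_singleton_self _), map_zero]
    have hdet : (P.map φ).det = 0 := by
      rw [← hφd, RingHom.map_det]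
      rfl
    obtain ⟨l, hl, hlP⟩ := Matrix.exists_vecMul_eq_zero_iff.mpr hdet
    refine hcon (ypt hU φ) (ypt_over hU hφ) (mp (ypt hU φ) (le_ypt hU φ) hbW' fun i => gm k (l i))
      (epi_mp hU hbW' hφ hl) ?_
    refine MapTo.hom_ext (ypt hU φ) (le_ypt hU φ) hbE' fun j => ?_
    have h1 : evl (ypt hU φ) (le_ypt hU φ)
        (i ≫ mp (ypt hU φ) (le_ypt hU φ) hbW' fun i => gm k (l i)) (e j) = 0 := by
      rw [evl_comp, hPe]
      refine (evl_mp_comb hU hbW' φ l (fun a => P a j)).trans ?_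
      have h2 : ∑ a, l a * φ (P a j) = 0 := congrFun hlP j
      rw [h2, map_zero]
    have h3 : evl (ypt hU φ) (le_ypt hU φ) (0 : E ⟶ sky (ypt hU φ)) (e j) = 0 := by
      rw [evl, appS_zero, map_zero, map_zero]
      rfl
    exact h1.trans h3.symm
  refine ⟨U, hUU₂.trans (hU₂.trans hU₁), hxU, ?_⟩
  have hcomb : ∀ c : Fin r → Γ(X, U), appS i U (comb e le_rfl c) = comb w le_rfl (P.mulVec c) := fun c => by
    rw [comb_apply, comb_apply, map_sum]
    simp only [res_self, map_smul, hPe, Matrix.mulVec, dotProduct, Finset.sum_smul, Finset.smul_sum]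
    rw [Finset.sum_comm]
    refine Finset.sum_congr rfl fun a _ => Finset.sum_congr rfl fun j _ => ?_
    rw [← mul_smul, mul_comm]
  have hPu : IsUnit P := (Matrix.isUnit_iff_isUnit_det P).mpr hunit
  constructor
  · intro s t hst
    obtain ⟨c, rfl⟩ := (hbE' U le_rfl).2 s
    obtain ⟨c', rfl⟩ := (hbE' U le_rfl).2 t
    rw [hcomb, hcomb] at hst
    have h1 := (hbW' U le_rfl).1 hst
    have h2 := Matrix.mulVec_injective_of_isUnit hPu h1
    rw [h2]
  · intro t
    obtain ⟨c, rfl⟩ := (hbW' U le_rfl).2 t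
    obtain ⟨c', hc'⟩ := (Matrix.mulVec_surjective_iff_isUnit.mpr hPu) c
    exact ⟨comb e le_rfl c', by rw [hcomb, hc']⟩

end K670.ExFun
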