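import Groth.Agent.BunMod.K140.Defs
import Groth.Agent.BunMod.K670.BC
import Groth.Agent.Surf.K460.FlatExt
import Groth.Agent.Dual.H353.DiagBC
import Groth.Agent.CurvesB.GenUnit

/-!
# Families of Hecke modifications

`T` over `k`, `y : T ⟶ X` a `T`-point of `X`, `V` a module on `X` with a local basis `b` over `U` and
`⊤ ≤ y⁻¹ U`, `a` a vector of functions on `T`.  `hk : V_T ⟶ γ_* O_T` is the map with `b_i ↦ a_i` along the graph
`γ` of `y`, and `Fm` its kernel.  Its base change is again of this form.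
-/

set_option autoImplicit false
universe u

open CategoryTheory CategoryTheory.Limits AlgebraicGeometry TopologicalSpace

namespace K670.Fam

open K140.BM Groth.Agent.Sga67.Sec Groth.Agent.Sga67.LocBasis Groth.Agent.Krr.H487.LocBasisPull MapTo BC

variable {k : Type u} [Field k] {X : Scheme.{u}} [X.Over (Spec (CommRingCat.of k))]

section gam

variable (T : Over (B0 k)) (y : T.left ⟶ X) (hy : y ≫ st k X = T.hom)

/-- The graph of `y`. -/
noncomputable def gam : T.left ⟶ PicF.XT (st k X) T := pullback.lift y (𝟙 _) (by rw [hy, Category.id_comp])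

theorem gam_fst : gam T y hy ≫ pullback.fst (st k X) T.hom = y := pullback.lift_fst _ _ _

theorem gam_snd : gam T y hy ≫ PicF.XTproj (st k X) T = 𝟙 _ := pullback.lift_snd _ _ _

theorem isClosedImmersion_gam [IsSeparated (st k X)] : IsClosedImmersion (gam T y hy) := by
  have h1 : IsSeparated (PicF.XTproj (st k X) T) := inferInstanceAs (IsSeparated (pullback.snd (st k X) T.hom))
  have h2 : IsClosedImmersion (gam T y hy ≫ PicF.XTproj (st k X) T) := by rw [gam_snd]; infer_instance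
  exact IsClosedImmersion.of_comp (gam T y hy) (PicF.XTproj (st k X) T)

/-- The graph over a base change. -/
noncomputable def gam' {T' P' : Scheme.{u}} {g : T' ⟶ T.left} {g' : P' ⟶ PicF.XT (st k X) T} {p' : P' ⟶ T'}
    (H : IsPullback g' p' (PicF.XTproj (st k X) T) g) : T' ⟶ P' :=
  H.lift (g ≫ gam T y hy) (𝟙 _) (by rw [Category.assoc, gam_snd, Category.comp_id, Category.id_comp])

variable {T' P' : Scheme.{u}} {g : T' ⟶ T.left} {g' : P' ⟶ PicF.XT (st k X) T} {p' : P' ⟶ T'}
    (H : IsPullback g' p' (PicF.XTproj (st k X) T) g)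

theorem gam'_fst : gam' T y hy H ≫ g' = g ≫ gam T y hy := H.lift_fst _ _ _

theorem gam'_snd : gam' T y hy H ≫ p' = 𝟙 _ := H.lift_snd _ _ _

theorem isPullback_gam : IsPullback g (gam' T y hy H) (gam T y hy) g' := by
  have h1 : IsPullback g (gam' T y hy H ≫ p') (gam T y hy ≫ PicF.XTproj (st k X) T) g := by
    rw [gam'_snd, gam_snd]
    exact IsPullback.of_vert_isIso ⟨by simp⟩
  exact IsPullback.of_bot h1 (gam'_fst T y hy H).symm H

end gam

section hk

variable (T : Over (B0 k)) (y : T.left ⟶ X) (hy : y ≫ st k X = T.hom)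
  {V : X.Modules} {U : X.Opens} {r : ℕ} {b : Fin r → Sec V U} (hb : IsLocBasis b) (hU : ⊤ ≤ y ⁻¹ᵁ U)

/-- The chart on `X_T`. -/
noncomputable abbrev UT (U : X.Opens) : (PicF.XT (st k X) T).Opens := (pullback.fst (st k X) T.hom) ⁻¹ᵁ U

include hU in
theorem le_gam : ⊤ ≤ gam T y hy ⁻¹ᵁ (UT T U) := by
  rw [← Scheme.Hom.comp_preimage, gam_fst]
  exact hU

/-- The basis on `X_T`. -/
noncomputable def bT (b : Fin r → Sec V U) (i : Fin r) : Sec (cst k T V) (UT T U) :=
  pbS (pullback.fst (st k X) T.hom) V (b i)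

include hb

theorem isLocBasis_bT : IsLocBasis (bT T b) := isLocBasis_pbS _ hb

/-- The map `V_T ⟶ γ_* O_T` with `b_i ↦ a_i`. -/
noncomputable def hk (a : Fin r → Γ(T.left, ⊤)) :
    cst k T V ⟶ (Scheme.Modules.pushforward (gam T y hy)).obj (Coh.structureModule T.left) :=
  mp (gam T y hy) (le_gam T y hy hU) (isLocBasis_bT T hb) a

theorem toO_val_hk (a : Fin r → Γ(T.left, ⊤)) (i : Fin r) :
    toO (val (gam T y hy) (le_gam T y hy hU) (bT T b) (hk T y hy hb hU a) i) = a i :=
  toO_val_mp (gam T y hy) (le_gam T y hy hU) (isLocBasis_bT T hb) a i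

theorem epi_hk [IsSeparated (st k X)] (a c : Fin r → Γ(T.left, ⊤)) (hc : ∑ i, c i * a i = 1) :
    Epi (hk T y hy hb hU a) := by
  have := isClosedImmersion_gam T y hy
  refine epi_of_unimodular (gam T y hy) (le_gam T y hy hU) (b := bT T b) _ c ?_
  simp only [toO_val_hk]
  exact hc

/-- The family. -/
noncomputable def Fm (a : Fin r → Γ(T.left, ⊤)) : (PicF.XT (st k X) T).Modules := kernel (hk T y hy hb hU a)

/-- The sequence `0 → F → V_T → γ_* O → 0`. -/
noncomputable def sq (a : Fin r → Γ(T.left, ⊤)) : ShortComplex (PicF.XT (st k X) T).Modules :=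
  ShortComplex.mk (kernel.ι (hk T y hy hb hU a)) (hk T y hy hb hU a) (kernel.condition _)

theorem sq_shortExact [IsSeparated (st k X)] (a c : Fin r → Γ(T.left, ⊤)) (hc : ∑ i, c i * a i = 1) :
    (sq T y hy hb hU a).ShortExact := by
  have := epi_hk T y hy hb hU a c hc
  exact { exact := ShortComplex.exact_kernel _
          mono_f := inferInstanceAs (Mono (kernel.ι _))
          epi_g := this }

omit hb in
theorem flat_gam [IsSeparated (st k X)] : FlatMod.IsFlatOver (PicF.XTproj (st k X) T)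
    ((Scheme.Modules.pushforward (gam T y hy)).obj (Coh.structureModule T.left)) := by
  have := isClosedImmersion_gam T y hy
  have h : Flat (gam T y hy ≫ PicF.XTproj (st k X) T) := by rw [gam_snd]; infer_instance
  exact Groth.Agent.Dual.H353.DiagBC.isFlatOver_pushforward (gam T y hy) _ _
    (Groth.Agent.Fdesc.StructMod.isQCoh_structureModule _)
    (Groth.Agent.CurvesB.GenUnit.isFlatOver_structureModule _)

end hk

section bc

variable (T : Over (B0 k)) (y : T.left ⟶ X) (hy : y ≫ st k X = T.hom)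
  {V : X.Modules} {U : X.Opens} {r : ℕ} {b : Fin r → Sec V U} (hb : IsLocBasis b) (hU : ⊤ ≤ y ⁻¹ᵁ U)
  {T' P' : Scheme.{u}} {g : T' ⟶ T.left} {g' : P' ⟶ PicF.XT (st k X) T} {p' : P' ⟶ T'}
    (H : IsPullback g' p' (PicF.XTproj (st k X) T) g)

theorem gam'_le (W : (PicF.XT (st k X) T).Opens) :
    g ⁻¹ᵁ (gam T y hy ⁻¹ᵁ W) ≤ gam' T y hy H ⁻¹ᵁ (g' ⁻¹ᵁ W) := by
  rw [← Scheme.Hom.comp_preimage, ← Scheme.Hom.comp_preimage, gam'_fst]

include hU in
theorem le_gam' : ⊤ ≤ gam' T y hy H ⁻¹ᵁ (g' ⁻¹ᵁ (UT T U)) := by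
  rw [← Scheme.Hom.comp_preimage, gam'_fst, Scheme.Hom.comp_preimage]
  exact fun x _ => le_gam T y hy hU (Opens.mem_top (g x))

/-- Base change of the map `hk`, on the basis. -/
theorem exists_bc_hk [IsSeparated (st k X)] (a : Fin r → Γ(T.left, ⊤)) :
    ∃ e : (Scheme.Modules.pullback g').obj
          ((Scheme.Modules.pushforward (gam T y hy)).obj (Coh.structureModule T.left)) ≅
        (Scheme.Modules.pushforward (gam' T y hy H)).obj (Coh.structureModule T'),
      ∀ i, toO (val (gam' T y hy H) (le_gam' T y hy hU H) (fun i => pbS g' (cst k T V) (bT T b i))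
        ((Scheme.Modules.pullback g').map (hk T y hy hb hU a) ≫ e.hom) i) = g.appTop (a i) := by
  have := isClosedImmersion_gam T y hy
  obtain ⟨e, he⟩ := exists_bc (gam T y hy) g' g (gam' T y hy H) (isPullback_gam T y hy H)
  refine ⟨e, fun i => ?_⟩
  let s := appS (hk T y hy hb hU a) (UT T U) (bT T b i)
  have hle : g ⁻¹ᵁ (gam T y hy ⁻¹ᵁ (UT T U)) ≤ gam' T y hy H ⁻¹ᵁ (g' ⁻¹ᵁ (UT T U)) :=
    gam'_le T y hy H _
  have hle2 : ⊤ ≤ g ⁻¹ᵁ (gam T y hy ⁻¹ᵁ (UT T U)) := fun x _ => le_gam T y hy hU (Opens.mem_top (g x))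
  have h1 := he (UT T U) s hle
  have h2 : appS ((Scheme.Modules.pullback g').map (hk T y hy hb hU a) ≫ e.hom) (g' ⁻¹ᵁ (UT T U))
      (pbS g' (cst k T V) (bT T b i)) = appS e.hom (g' ⁻¹ᵁ (UT T U)) (pbS g' _ s) := by
    rw [appS_comp, appS_pbS]
  have h3 := toO_val_hk T y hy hb hU a i
  rw [val, toO_res] at h3
  rw [val, h2, ← res_res _ hle hle2, toO_res, h1]
  have h4 : resO T' hle2 (g.app (gam T y hy ⁻¹ᵁ (UT T U)) (toO (ofPush (gam T y hy) s))) =
      g.app ⊤ (resO T.left (le_gam T y hy hU) (toO (ofPush (gam T y hy) s))) := by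
    have := g.naturality (homOfLE (le_gam T y hy hU)).op
    exact (congr($this (toO (ofPush (gam T y hy) s)))).symm
  rw [h4]
  exact congrArg _ h3

end bc

end K670.Fam
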