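import Groth.Agent.BunMod.K670.FamPush
import Groth.Agent.Ega3B.AcyclicBC
import Groth.Agent.Krr.H497.Bridge
import Groth.Agent.VarietyB.FlatH0

/-!
# The constant family: sections and vanishing
-/

set_option autoImplicit false
universe u

open CategoryTheory CategoryTheory.Limits AlgebraicGeometry TopologicalSpace

namespace K670.Fam

open K140.BM Groth.Agent.Sga67.Sec Groth.Agent.Sga67.LocBasis Groth.Agent.Krr.H487.LocBasisPull MapTo BC

variable {k : Type u} [Field k] {X : Scheme.{u}} [X.Over (Spec (CommRingCat.of k))]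

variable (T : Over (B0 k)) {V : X.Modules}

theorem flat_hom : Flat T.hom := by
  have h : IsLocallyNoetherian (B0 k) := inferInstance
  infer_instance

theorem isZero_cst [IsSeparated (st k X)] [QuasiCompact (st k X)] [IsAffine T.left]
    (hV : Coh.IsQCoh V) (hfl : FlatMod.IsFlatOver (st k X) V) (hvan : ∀ p, Subsingleton (Coh.HH X V (p + 1))) :
    IsZero ((Coh.Rpush (PicF.XTproj (st k X) T) 1).obj (cst k T V)) := by
  have H : IsPullback (pullback.fst (st k X) T.hom) (PicF.XTproj (st k X) T) (st k X) T.hom :=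
    IsPullback.of_hasPullback _ _
  have h1 := (Groth.Agent.Ega3B.AcyclicBC.acyclicBC H V hV hfl hvan).1 0
  rw [Groth.Agent.Krr.H497.Bridge.isZero_Rpush_iff_HH _ _
    (Groth.Agent.VarietyB.PullSec.isQCoh_pullback _ _ hV)]
  exact h1

open Groth.Agent.VarietyB.FlatH0 Groth.Agent.VarietyB.PullSec in
theorem exists_cst [IsSeparated (st k X)] [QuasiCompact (st k X)] [IsAffine T.left]
    (hV : Coh.IsQCoh V) (s : Sec V ⊤)
    (hs : ∀ v : Sec V ⊤, ∃ c : Γ(B0 k, ⊤), v = ((st k X).appTop c) • s)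
    (v : Sec (cst k T V) ⊤) : ∃ t : Γ(T.left, ⊤), v = ((PicF.XTproj (st k X) T).appTop t) • pbT T s := by
  have H : IsPullback (pullback.fst (st k X) T.hom) (PicF.XTproj (st k X) T) (st k X) T.hom :=
    IsPullback.of_hasPullback _ _
  have hfl : Flat T.hom := flat_hom T
  have : CompactSpace X := QuasiCompact.compactSpace_of_compactSpace (st k X)
  have : QuasiSeparatedSpace X := by
    have h : QuasiSeparatedSpace (B0 k) := inferInstance
    exact quasiSeparatedSpace_of_quasiSeparated (st k X)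
  have h1 := (isBC_top H V hV).span_eq_top
  let i4 := modOver (PicF.XTproj (st k X) T) ((Scheme.Modules.pullback (pullback.fst (st k X) T.hom)).obj V)
    (US := (⊤ : T.left.Opens)) (UX := ⊤) le_top
  have hle : ∀ t, (PicF.XTproj (st k X) T).appLE ⊤ ⊤ le_top t = (PicF.XTproj (st k X) T).appTop t := fun t =>
    congr($(Scheme.Hom.appLE_eq_app (f := PicF.XTproj (st k X) T) (U := ⊤)) t)
  have hsm : ∀ (t : Γ(T.left, ⊤)) (x : Γ((Scheme.Modules.pullback (pullback.fst (st k X) T.hom)).obj V, ⊤)),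
      t • x = (show Sec (cst k T V) ⊤ from
      ((PicF.XTproj (st k X) T).appTop t) • (show Sec (cst k T V) ⊤ from x)) := fun t x =>
    congrArg (fun c => (show Sec (cst k T V) ⊤ from c • (show Sec (cst k T V) ⊤ from x))) (hle t)
  have h2 : ∀ x : Γ((Scheme.Modules.pullback (pullback.fst (st k X) T.hom)).obj V, ⊤), x ∈
    Submodule.span Γ(T.left, ⊤) (Set.range (sec (pullback.fst (st k X) T.hom) V (U := ⊤) (V := ⊤) le_top)) := by
    intro x
    rw [h1]
    trivial
  suffices h3 : ∀ x : Γ((Scheme.Modules.pullback (pullback.fst (st k X) T.hom)).obj V, ⊤),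
      ∃ t : Γ(T.left, ⊤), x = t • (show Γ((Scheme.Modules.pullback (pullback.fst (st k X) T.hom)).obj V, ⊤) from pbT T s) by
    obtain ⟨t, ht⟩ := h3 v
    exact ⟨t, ht.trans (hsm t _)⟩
  intro x
  induction h2 x using Submodule.span_induction with
  | mem x hx =>
    obtain ⟨m, rfl⟩ := hx
    obtain ⟨c, hc⟩ := hs m
    refine ⟨T.hom.appTop c, ?_⟩
    have h5 : sec (pullback.fst (st k X) T.hom) V (U := ⊤) (V := ⊤) le_top s = pbT T s := by
      rw [sec_apply]
      exact res_self _ _ _
    have h6 : (pullback.fst (st k X) T.hom).appLE ⊤ ⊤ le_top ((st k X).appTop c) =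
        (PicF.XTproj (st k X) T).appTop (T.hom.appTop c) := by
      have h7 : ∀ t, (pullback.fst (st k X) T.hom).appLE ⊤ ⊤ le_top t = (pullback.fst (st k X) T.hom).appTop t :=
        fun t => congr($(Scheme.Hom.appLE_eq_app (f := pullback.fst (st k X) T.hom) (U := ⊤)) t)
      rw [h7]
      have h8 := congrArg (fun f : pullback (st k X) T.hom ⟶ B0 k => f.appTop) H.w
      simp only [Scheme.Hom.comp_appTop] at h8
      exact congr($h8 c)
    have h9 := sec_smul (pullback.fst (st k X) T.hom) V (U := ⊤) (V := ⊤) le_top ((st k X).appTop c) s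
    rw [hsm]
    refine (congrArg (sec (pullback.fst (st k X) T.hom) V (U := ⊤) (V := ⊤) le_top) hc).trans (h9.trans ?_)
    exact congrArg₂ (fun (a : Γ(PicF.XT (st k X) T, ⊤)) (b : Sec (cst k T V) ⊤) => a • b) h6 h5
  | zero => exact ⟨0, by simp⟩
  | add x y _ _ hx hy =>
    obtain ⟨t, ht⟩ := hx
    obtain ⟨t', ht'⟩ := hy
    refine ⟨t + t', ?_⟩
    rw [add_smul, ← ht, ← ht']
  | smul a x _ hx =>
    obtain ⟨t, ht⟩ := hx
    refine ⟨a * t, ?_⟩
    rw [mul_smul, ← ht]

end K670.Fam
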