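import Groth.Agent.BunMod.K670.Ev

/-!
# Rational points of affine charts as ring homomorphisms
-/

set_option autoImplicit false
universe u

open CategoryTheory CategoryTheory.Limits AlgebraicGeometry TopologicalSpace

namespace K670.Pts

section General

theorem hom_ext_affine {B : CommRingCat.{u}} {X : Scheme.{u}} {f h : Spec B ⟶ X} {U : X.Opens} (hU : IsAffineOpen U)
    (hf : ⊤ ≤ f ⁻¹ᵁ U) (hh : ⊤ ≤ h ⁻¹ᵁ U) (e : f.appLE U ⊤ hf = h.appLE U ⊤ hh) : f = h := by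
  have h1 := hU.SpecMap_appLE_fromSpec f (isAffineOpen_top (Spec B)) hf
  have h2 := hU.SpecMap_appLE_fromSpec h (isAffineOpen_top (Spec B)) hh
  rw [e] at h1
  have h3 : (isAffineOpen_top (Spec B)).fromSpec ≫ f = (isAffineOpen_top (Spec B)).fromSpec ≫ h := h1.symm.trans h2
  rw [IsAffineOpen.fromSpec_top] at h3
  exact (cancel_epi _).1 h3

theorem specMap_fromSpec_le {B : CommRingCat.{u}} {X : Scheme.{u}} {U : X.Opens} (hU : IsAffineOpen U)
    (φ : Γ(X, U) ⟶ B) : ⊤ ≤ (Spec.map φ ≫ hU.fromSpec) ⁻¹ᵁ U := by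
  rw [Scheme.Hom.comp_preimage, hU.fromSpec_preimage_self]
  exact le_rfl

theorem specMap_fromSpec_appLE {B : CommRingCat.{u}} {X : Scheme.{u}} {U : X.Opens} (hU : IsAffineOpen U)
    (φ : Γ(X, U) ⟶ B) :
    (Spec.map φ ≫ hU.fromSpec).appLE U ⊤ (specMap_fromSpec_le hU φ) = φ ≫ (Scheme.ΓSpecIso B).inv := by
  have h1 := Scheme.Hom.appLE_comp_appLE (Spec.map φ) hU.fromSpec U ⊤ ⊤ (by rw [hU.fromSpec_preimage_self])
    (by exact le_top)
  refine h1.symm.trans ?_
  have h2 : hU.fromSpec.appLE U ⊤ (by rw [hU.fromSpec_preimage_self]) = (Scheme.ΓSpecIso Γ(X, U)).inv := by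
    rw [Scheme.Hom.appLE, hU.fromSpec_app_self, Category.assoc, ← Functor.map_comp]
    refine Eq.trans (congrArg _ (congrArg _ (Subsingleton.elim _ (𝟙 _)))) ?_
    rw [CategoryTheory.Functor.map_id, Category.comp_id]
  rw [h2]
  have h3 := Scheme.ΓSpecIso_inv_naturality φ
  rw [h3]
  rfl

end General

/-- `R ≃ Γ(Spec R, ⊤)`. -/
noncomputable def gm (R : Type u) [CommRing R] : R ≃+* Γ(Spec (CommRingCat.of R), ⊤) :=
  (Scheme.ΓSpecIso (CommRingCat.of R)).symm.commRingCatIsoToRingEquiv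

theorem gm_apply {R : Type u} [CommRing R] (a : R) : gm R a = (Scheme.ΓSpecIso (CommRingCat.of R)).inv a := rfl

theorem appTop_gm {R R' : Type u} [CommRing R] [CommRing R'] (φ : R →+* R') (a : R) :
    (Spec.map (CommRingCat.ofHom φ)).appTop (gm R a) = gm R' (φ a) := by
  have h3 := Scheme.ΓSpecIso_inv_naturality (CommRingCat.ofHom φ)
  exact (congr($h3 a)).symm

variable {k : Type u} [Field k] {X : Scheme.{u}} [X.Over (Spec (CommRingCat.of k))] {U : X.Opens}
  (hU : IsAffineOpen U)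

variable (k) in
/-- The ring map `k → Γ(X, U)`. -/
noncomputable def kap : k →+* Γ(X, U) := (Spec.preimage (hU.fromSpec ≫ (X ↘ Spec (CommRingCat.of k)))).hom

theorem kap_spec : Spec.map (CommRingCat.ofHom (kap k hU)) = hU.fromSpec ≫ (X ↘ Spec (CommRingCat.of k)) :=
  Spec.map_preimage _

section ypt

variable {R : Type u} [CommRing R] (ψ : Γ(X, U) →+* R)

/-- The `R`-point of `X` given by `Γ(X, U) → R`. -/
noncomputable def ypt : Spec (CommRingCat.of R) ⟶ X := Spec.map (CommRingCat.ofHom ψ) ≫ hU.fromSpec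

theorem le_ypt : ⊤ ≤ ypt hU ψ ⁻¹ᵁ U := specMap_fromSpec_le hU _

theorem ypt_appLE (f : Γ(X, U)) : (ypt hU ψ).appLE U ⊤ (le_ypt hU ψ) f = gm R (ψ f) :=
  congr($(specMap_fromSpec_appLE hU (CommRingCat.ofHom ψ)) f)

theorem ypt_comp : ypt hU ψ ≫ (X ↘ Spec (CommRingCat.of k)) =
    Spec.map (CommRingCat.ofHom (ψ.comp (kap k hU))) := by
  rw [ypt, Category.assoc, ← kap_spec hU, ← Spec.map_comp]
  rfl

theorem map_ypt {R' : Type u} [CommRing R'] (q : R →+* R') :
    Spec.map (CommRingCat.ofHom q) ≫ ypt hU ψ = ypt hU (q.comp ψ) := by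
  rw [ypt, ypt, ← Category.assoc, ← Spec.map_comp]
  rfl

end ypt

theorem spec_id : Spec.map (CommRingCat.ofHom (RingHom.id k)) = 𝟙 (Spec (CommRingCat.of k)) := by
  have : CommRingCat.ofHom (RingHom.id k) = 𝟙 (CommRingCat.of k) := rfl
  rw [this, Spec.map_id]

theorem ypt_over {φ : Γ(X, U) →+* k} (hφ : φ.comp (kap k hU) = RingHom.id k) :
    ypt hU φ ≫ (X ↘ Spec (CommRingCat.of k)) = 𝟙 _ := by
  rw [ypt_comp, hφ, spec_id]

/-- Rational points of `U`. -/
theorem exists_ypt (x : Spec (CommRingCat.of k) ⟶ X) (hx : x ≫ (X ↘ Spec (CommRingCat.of k)) = 𝟙 _)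
    (hxU : ⊤ ≤ x ⁻¹ᵁ U) : ∃ φ : Γ(X, U) →+* k, φ.comp (kap k hU) = RingHom.id k ∧ ypt hU φ = x := by
  let φ : Γ(X, U) →+* k := (x.appLE U ⊤ hxU ≫ (Scheme.ΓSpecIso (CommRingCat.of k)).hom).hom
  have h1 : ypt hU φ = x := by
    refine hom_ext_affine hU (le_ypt hU φ) hxU ?_
    have h2 := specMap_fromSpec_appLE hU (CommRingCat.ofHom φ)
    refine h2.trans ?_
    change (x.appLE U ⊤ hxU ≫ (Scheme.ΓSpecIso (CommRingCat.of k)).hom) ≫ _ = _
    rw [Category.assoc, Iso.hom_inv_id, Category.comp_id]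
  refine ⟨φ, ?_, h1⟩
  have h2 : Spec.map (CommRingCat.ofHom (φ.comp (kap k hU))) = Spec.map (CommRingCat.ofHom (RingHom.id k)) := by
    rw [spec_id, ← ypt_comp hU φ, h1, hx]
  exact congrArg CommRingCat.Hom.hom (Spec.map_injective h2)

/-- Rational points of `Spec R`. -/
theorem exists_point {R : Type u} [CommRing R] (κ : k →+* R) (p : Spec (CommRingCat.of k) ⟶ Spec (CommRingCat.of R))
    (hp : p ≫ Spec.map (CommRingCat.ofHom κ) = 𝟙 _) : ∃ q : R →+* k, q.comp κ = RingHom.id k ∧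
      p = Spec.map (CommRingCat.ofHom q) := by
  refine ⟨(Spec.preimage p).hom, ?_, (Spec.map_preimage p).symm⟩
  have h2 : Spec.map (CommRingCat.ofHom ((Spec.preimage p).hom.comp κ)) =
      Spec.map (CommRingCat.ofHom (RingHom.id k)) := by
    rw [spec_id, ← hp]
    conv_rhs => rw [← Spec.map_preimage p]
    rw [← Spec.map_comp]
    rfl
  exact congrArg CommRingCat.Hom.hom (Spec.map_injective h2)

end K670.Pts
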