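import Groth.Agent.BunMod.K670.PtKer
import Groth.Agent.BunMod.K670.Pts
import Groth.Agent.BunMod.K670.FamVan
import Groth.Agent.BunMod.K670.FamPt
import Groth.Agent.BunMod.K670.RankPt
import Groth.Agent.Coherent.K45.HomLift

/-!
# Hecke families over affine bases given by ring homomorphisms
-/

set_option autoImplicit false
universe u

open CategoryTheory CategoryTheory.Limits AlgebraicGeometry TopologicalSpace

namespace K670.FamAff

open K140.BM Groth.Agent.Sga67.Sec Groth.Agent.Sga67.LocBasis Groth.Agent.Krr.H487.LocBasisPull MapTo BC Ev Pts Fam PtKer RankPt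
open K707.Base K707.Slope K707.Deg K707.Semi Groth.Agent.VarietyA.DegRank Module

variable {k : Type u} [Field k] {X : Scheme.{u}} [X.Over (Spec (CommRingCat.of k))]

/-- The hypotheses on a function of modules. -/
structure RhoP [IsIntegral X] (r : ℕ) (ρ : X.Modules → k) : Prop where
  iso : ∀ {F F' : X.Modules}, Nonempty (F ≅ F') → ρ F = ρ F'
  fam : ∀ (T : Over (B0 k)) [IsAffine T.left] [IsIntegral T.left] [LocallyOfFiniteType T.hom]
     (F : (PicF.XT (st k X) T).Modules), FlatMod.IsFinLocFreeOfRank r F →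
     (∀ (p : Spec (CommRingCat.of k) ⟶ T.left) (hp : p ≫ T.hom = 𝟙 _),
       SS k ((Scheme.Modules.pullback (ip T p hp)).obj F) ∧
       Curv2.euler k X ((Scheme.Modules.pullback (ip T p hp)).obj F) = 0) →
     ∀ h : Γ(T.left, ⊤), h ≠ 0 → Nonempty ((Γ(T.left, ⊤) ⧸ Ideal.span {h}) ≃ₗ[Γ(T.left, ⊤)]
       Γ((Coh.Rpush (PicF.XTproj (st k X) T) 1).obj F, ⊤)) →
     ∃ G : Γ(T.left, ⊤), ∀ (p : Spec (CommRingCat.of k) ⟶ T.left) (hp : p ≫ T.hom = 𝟙 _), p.appTop h ≠ 0 →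
       p.appTop G = p.appTop h * gm k (ρ ((Scheme.Modules.pullback (ip T p hp)).obj F))

variable (k X) in
/-- Openness of stability. -/
def StOpen [IsIntegral X] (r : ℕ) : Prop :=
  ∀ (T : Over (B0 k)) [IsAffine T.left] [IsIntegral T.left] [LocallyOfFiniteType T.hom]
     (F : (PicF.XT (st k X) T).Modules), FlatMod.IsFinLocFreeOfRank r F →
     (∀ (p : Spec (CommRingCat.of k) ⟶ T.left) (hp : p ≫ T.hom = 𝟙 _),
       SS k ((Scheme.Modules.pullback (ip T p hp)).obj F) ∧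
       Curv2.euler k X ((Scheme.Modules.pullback (ip T p hp)).obj F) = 0) →
     ∀ (p₀ : Spec (CommRingCat.of k) ⟶ T.left) (hp₀ : p₀ ≫ T.hom = 𝟙 _),
       St k ((Scheme.Modules.pullback (ip T p₀ hp₀)).obj F) →
     ∃ g : Γ(T.left, ⊤), p₀.appTop g ≠ 0 ∧ ∀ (p : Spec (CommRingCat.of k) ⟶ T.left) (hp : p ≫ T.hom = 𝟙 _),
       p.appTop g ≠ 0 → St k ((Scheme.Modules.pullback (ip T p hp)).obj F)

section K

variable {V : X.Modules} {U : X.Opens} (hU : IsAffineOpen U) {r : ℕ} {b : Fin r → Sec V U} (hb : IsLocBasis b)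

/-- The kernel of the functional `l` at the point `φ`. -/
noncomputable def K (φ : Γ(X, U) →+* k) (l : Fin r → k) : X.Modules :=
  kernel (mp (ypt hU φ) (le_ypt hU φ) hb fun i => gm k (l i))

theorem epi_mp [IsSeparated (X ↘ Spec (CommRingCat.of k))] {φ : Γ(X, U) →+* k}
    (hφ : φ.comp (kap k hU) = RingHom.id k) {l : Fin r → k} (hl : l ≠ 0) :
    Epi (mp (ypt hU φ) (le_ypt hU φ) hb fun i => gm k (l i)) := by
  have := isClosedImmersion_pt (ypt hU φ) (ypt_over hU hφ)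
  obtain ⟨i, hi⟩ := Function.ne_iff.mp hl
  classical
  refine epi_of_unimodular (ypt hU φ) (le_ypt hU φ) (b := b) _ (fun j => if j = i then gm k (l i)⁻¹ else 0) ?_
  simp only [toO_val_mp, ite_mul, zero_mul, Finset.sum_ite_eq', Finset.mem_univ, if_true]
  rw [← map_mul, inv_mul_cancel₀ hi, map_one]

theorem nonempty_K_scale (φ : Γ(X, U) →+* k) (l : Fin r → k) (c : k) (hc : c ≠ 0) :
    Nonempty (K hU hb φ (c • l) ≅ K hU hb φ l) := by
  have h1 := nonempty_kernel_scale (ypt hU φ) (le_ypt hU φ) hb (fun i => gm k (l i)) (gm k c) (gm k c⁻¹)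
    (by rw [← map_mul, mul_inv_cancel₀ hc, map_one])
  simp only [← map_mul] at h1
  exact h1

variable [IsIntegral X] [IsProper (X ↘ (Spec (CommRingCat.of k)))]

theorem K_facts (C : Crv k X) (hV : FlatMod.IsFinLocFreeOfRank r V) (hVs : St k V) (hV1 : Curv2.euler k X V = 1)
    {φ : Γ(X, U) →+* k} (hφ : φ.comp (kap k hU) = RingHom.id k) {l : Fin r → k} (hl : l ≠ 0) :
    FlatMod.IsFinLocFreeOfRank r (K hU hb φ l) ∧ Curv2.euler k X (K hU hb φ l) = 0 ∧ SS k (K hU hb φ l) := by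
  have := epi_mp hU hb hφ hl
  obtain ⟨h1, h2⟩ := kernel_facts (ypt hU φ) (ypt_over hU hφ) C hV
    (mp (ypt hU φ) (le_ypt hU φ) hb fun i => gm k (l i))
  have h3 : Curv2.euler k X (K hU hb φ l) = 0 := by
    change Curv2.euler k X (kernel _) = 0
    omega
  have hm : @Mono _ _ (K hU hb φ l) V (kernel.ι (mp (ypt hU φ) (le_ypt hU φ) hb fun i => gm k (l i))) :=
    inferInstanceAs (Mono (kernel.ι (mp (ypt hU φ) (le_ypt hU φ) hb fun i => gm k (l i))))
  refine ⟨h1, h3, Num.ss_of_sub (E := K hU hb φ l) C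
    (kernel.ι (mp (ypt hU φ) (le_ypt hU φ) hb fun i => gm k (l i))) (isCoh_of_rank h1) ?_ hVs h3 hV1⟩
  exact (rk_of_rank h1).trans (rk_of_rank hV).symm

end K

section fam

variable {V : X.Modules} {U : X.Opens} (hU : IsAffineOpen U) {r : ℕ} {b : Fin r → Sec V U} (hb : IsLocBasis b)
  {R : Type u} [CommRing R] (ψ : Γ(X, U) →+* R)

/-- The family of kernels of the functionals `a` at the points `ψ`. -/
noncomputable def FF (a : Fin r → R) : (PicF.XT (st k X) (TT (ψ.comp (kap k hU)))).Modules :=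
  Fm (TT (ψ.comp (kap k hU))) (ypt hU ψ) (ypt_comp hU ψ) hb (le_ypt hU ψ) (fun i => gm R (a i))

theorem FF_fibre [IsSeparated (st k X)] (a c : Fin r → R) (hc : ∑ i, c i * a i = 1) (q : R →+* k)
    (hq : q.comp (ψ.comp (kap k hU)) = RingHom.id k) :
    Nonempty ((Scheme.Modules.pullback (ip (TT (ψ.comp (kap k hU))) (Spec.map (CommRingCat.ofHom q)) (hpt hq))).obj
      (FF hU hb ψ a) ≅ K hU hb (q.comp ψ) (fun i => q (a i))) := by
  have h1 : Spec.map (CommRingCat.ofHom q) ≫ ypt hU ψ = ypt hU (q.comp ψ) := map_ypt hU ψ q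
  have h2 : ⊤ ≤ (Spec.map (CommRingCat.ofHom q) ≫ ypt hU ψ) ⁻¹ᵁ U := by
    rw [h1]
    exact le_ypt hU _
  obtain ⟨e⟩ := nonempty_fibre_iso (TT (ψ.comp (kap k hU))) (Spec.map (CommRingCat.ofHom q)) (hpt hq) (ypt hU ψ)
    (ypt_comp hU ψ) hb (le_ypt hU ψ) (fun i => gm R (a i)) (fun i => gm R (c i))
    (by simp only [← map_mul, ← map_sum, hc, map_one]) h2
  have key : ∀ (j j' : Spec (CommRingCat.of k) ⟶ X) (_ : j = j') (h : ⊤ ≤ j ⁻¹ᵁ U) (h' : ⊤ ≤ j' ⁻¹ᵁ U)
      (l l' : Fin r → Γ(Spec (CommRingCat.of k), ⊤)) (_ : l = l'),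
      Nonempty (kernel (mp j h hb l) ≅ kernel (mp j' h' hb l')) := by
    rintro j _ rfl h h' l _ rfl
    exact ⟨Iso.refl _⟩
  obtain ⟨e'⟩ := key _ _ h1 h2 (le_ypt hU _) (fun i => (Spec.map (CommRingCat.ofHom q)).appTop (gm R (a i)))
    (fun i => gm k (q (a i))) (funext fun i => appTop_gm q (a i))
  exact ⟨e ≪≫ e'⟩

variable [IsIntegral X] [IsProper (X ↘ (Spec (CommRingCat.of k)))] [IsAlgClosed k] [IsDomain R]
  (hfin : (ψ.comp (kap k hU)).FiniteType)
  (C : Crv k X) (hV : FlatMod.IsFinLocFreeOfRank r V) (hVs : St k V) (hV1 : Curv2.euler k X V = 1)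

include hfin in
theorem lft : LocallyOfFiniteType (TT (ψ.comp (kap k hU))).hom :=
  (HasRingHomProperty.Spec_iff (P := @LocallyOfFiniteType)).mpr hfin

include hfin hV in
theorem FF_isCoh (a : Fin r → R) : Coh.IsCoh (FF (k := k) hU hb ψ a) := by
  have h1 := lft hU ψ hfin
  have h2 : IsLocallyNoetherian (TT (ψ.comp (kap k hU))).left :=
    LocallyOfFiniteType.isLocallyNoetherian (TT (ψ.comp (kap k hU))).hom
  have h3 : LocallyOfFiniteType (PicF.XTproj (st k X) (TT (ψ.comp (kap k hU)))) :=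
    inferInstanceAs (LocallyOfFiniteType (pullback.snd _ _))
  have h4 : IsLocallyNoetherian (PicF.XT (st k X) (TT (ψ.comp (kap k hU)))) :=
    LocallyOfFiniteType.isLocallyNoetherian (PicF.XTproj (st k X) (TT (ψ.comp (kap k hU))))
  have h5 := isClosedImmersion_gam (X := X) (TT (ψ.comp (kap k hU))) (ypt hU ψ) (ypt_comp hU ψ)
  refine Groth.Agent.PerfA.CohSerre.isCoh_kernel _ ?_ ?_
  · exact Groth.Agent.FormalA.PullbackQC.isCoh_pullback _ _ (isCoh_of_rank hV)
  · exact Groth.Agent.Ega1.QcqsPush.isQCoh_pushforward _ _ (Groth.Agent.Fdesc.StructMod.isQCoh_structureModule _)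

omit [IsAlgClosed k] [IsDomain R] in
theorem ss_of_iso {A B : X.Modules} (e : A ≅ B) (h : SS k A) : SS k B := by
  intro F i hi hF
  have := h F (i ≫ e.inv) (mono_comp _ _) hF
  rwa [rk_iso e, dg_iso k e] at this

omit [IsAlgClosed k] [IsDomain R] in
theorem st_of_iso {A B : X.Modules} (e : A ≅ B) (h : St k A) : St k B := by
  intro F i hi hF h0 h1
  have := h F (i ≫ e.inv) (mono_comp _ _) hF h0 (by rwa [rk_iso e])
  rwa [dg_iso k e, rk_iso e] at this

omit [IsIntegral X] [IsProper (X ↘ (Spec (CommRingCat.of k)))] [IsAlgClosed k] [IsDomain R] in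
theorem ne_zero_of_unimodular {a c : Fin r → R} (hc : ∑ i, c i * a i = 1) (q : R →+* k) :
    (fun i => q (a i)) ≠ 0 := by
  intro h
  have h1 := congrArg q hc
  rw [map_sum, map_one] at h1
  have h2 : ∀ i, q (c i * a i) = 0 := fun i => by
    have : q (a i) = 0 := congrFun h i
    rw [map_mul, this, mul_zero]
  rw [Finset.sum_eq_zero fun i _ => h2 i] at h1
  exact zero_ne_one h1

include hfin hV hVs hV1 C in
theorem FF_rank (a c : Fin r → R) (hc : ∑ i, c i * a i = 1) : FlatMod.IsFinLocFreeOfRank r (FF (k := k) hU hb ψ a) := by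
  have h1 := FF_isCoh hU hb ψ hfin hV a
  refine RankPt.isFinLocFreeOfRank (ψ.comp (kap k hU)) hfin r _ h1.1 h1.2 fun q hq => ?_
  obtain ⟨e⟩ := FF_fibre hU hb ψ a c hc q hq
  exact rank_of_iso e.symm (K_facts hU hb C hV hVs hV1 (φ := q.comp ψ) (by rw [RingHom.comp_assoc]; exact hq)
    (ne_zero_of_unimodular hc q)).1

include hV hVs hV1 C in
omit [IsAlgClosed k] [IsDomain R] in
theorem FF_ss (a c : Fin r → R) (hc : ∑ i, c i * a i = 1)
    (p : Spec (CommRingCat.of k) ⟶ (TT (ψ.comp (kap k hU))).left) (hp : p ≫ (TT (ψ.comp (kap k hU))).hom = 𝟙 _) :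
    SS k ((Scheme.Modules.pullback (ip (TT (ψ.comp (kap k hU))) p hp)).obj (FF hU hb ψ a)) ∧
      Curv2.euler k X ((Scheme.Modules.pullback (ip (TT (ψ.comp (kap k hU))) p hp)).obj (FF hU hb ψ a)) = 0 := by
  obtain ⟨q, hq, rfl⟩ := exists_point (ψ.comp (kap k hU)) p hp
  obtain ⟨e⟩ := FF_fibre hU hb ψ a c hc q hq
  obtain ⟨-, h2, h3⟩ := K_facts hU hb C hV hVs hV1 (φ := q.comp ψ) (by rw [RingHom.comp_assoc]; exact hq)
    (ne_zero_of_unimodular hc q)
  exact ⟨ss_of_iso e.symm h3, (euler_iso k e).trans h2⟩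

include hfin hV hVs hV1 C in
/-- **The function `h ρ` is regular on Hecke families.** -/
theorem fam_affine {ρ : X.Modules → k} (hρ : RhoP r ρ) (s : Sec V ⊤) (c₀ : Fin r → Γ(X, U))
    (hs : res V (le_top : U ≤ ⊤) s = ∑ i, c₀ i • b i)
    (hgen : ∀ v : Sec V ⊤, ∃ t : Γ(B0 k, ⊤), v = ((st k X).appTop t) • s)
    (hvan : ∀ p, Subsingleton (Coh.HH X V (p + 1)))
    (a c : Fin r → R) (hc : ∑ i, c i * a i = 1) (hH : ∑ i, ψ (c₀ i) * a i ≠ 0) :
    ∃ G : R, ∀ q : R →+* k, q.comp (ψ.comp (kap k hU)) = RingHom.id k → q (∑ i, ψ (c₀ i) * a i) ≠ 0 →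
      q G = q (∑ i, ψ (c₀ i) * a i) * ρ (K hU hb (q.comp ψ) (fun i => q (a i))) := by
  have hlft := lft hU ψ hfin
  have hint : IsIntegral (TT (ψ.comp (kap k hU))).left := inferInstanceAs (IsIntegral (Spec (CommRingCat.of R)))
  have haff : IsAffine (TT (ψ.comp (kap k hU))).left := inferInstanceAs (IsAffine (Spec (CommRingCat.of R)))
  have heqn : eqn (TT (ψ.comp (kap k hU))) (ypt hU ψ) (le_ypt hU ψ) (fun i => gm R (a i)) c₀ =
      gm R (∑ i, ψ (c₀ i) * a i) := by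
    rw [eqn, map_sum]
    refine Finset.sum_congr rfl fun i _ => ?_
    rw [ypt_appLE, map_mul]
  have hfl : FlatMod.IsFlatOver (st k X) V := by
    have h : IsLocallyNoetherian (B0 k) := inferInstance
    have h' : Flat (st k X) := inferInstance
    exact K45.HomLift.isFlatOver_of_flf _ (isFinLocFree_of_rank hV)
  have hcq : Coh.IsQCoh V := (isCoh_of_rank hV).1
  have hquot := exists_quot (TT (ψ.comp (kap k hU))) (ypt hU ψ) (ypt_comp hU ψ) hb (le_ypt hU ψ)
    (fun i => gm R (a i)) (fun i => gm R (c i)) (by simp only [← map_mul, ← map_sum, hc, map_one]) hcq s c₀ hs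
    (isZero_cst _ hcq hfl hvan) (exists_cst _ hcq s hgen)
  rw [heqn] at hquot
  obtain ⟨G, hG⟩ := hρ.fam (TT (ψ.comp (kap k hU))) (FF hU hb ψ a) (FF_rank hU hb ψ hfin C hV hVs hV1 a c hc)
    (FF_ss hU hb ψ C hV hVs hV1 a c hc) (gm R (∑ i, ψ (c₀ i) * a i))
    (by rwa [ne_eq, map_eq_zero_iff _ (gm R).injective]) hquot
  refine ⟨(gm R).symm G, fun q hq hne => ?_⟩
  have h1 := hG (Spec.map (CommRingCat.ofHom q)) (hpt hq) (by
    rw [appTop_gm, ne_eq, map_eq_zero_iff _ (gm k).injective]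
    exact hne)
  rw [hρ.iso (FF_fibre hU hb ψ a c hc q hq), appTop_gm, ← map_mul] at h1
  apply (gm k).injective
  rw [← h1, ← appTop_gm, RingEquiv.apply_symm_apply]

include hfin hV hVs hV1 C in
/-- **Openness of stability on Hecke families.** -/
theorem open_affine (hO : StOpen k X r) (a c : Fin r → R) (hc : ∑ i, c i * a i = 1) (q₀ : R →+* k)
    (hq₀ : q₀.comp (ψ.comp (kap k hU)) = RingHom.id k)
    (h₀ : St k (K hU hb (q₀.comp ψ) (fun i => q₀ (a i)))) :
    ∃ g : R, q₀ g ≠ 0 ∧ ∀ q : R →+* k, q.comp (ψ.comp (kap k hU)) = RingHom.id k → q g ≠ 0 →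
      St k (K hU hb (q.comp ψ) (fun i => q (a i))) := by
  have hlft := lft hU ψ hfin
  have hint : IsIntegral (TT (ψ.comp (kap k hU))).left := inferInstanceAs (IsIntegral (Spec (CommRingCat.of R)))
  have haff : IsAffine (TT (ψ.comp (kap k hU))).left := inferInstanceAs (IsAffine (Spec (CommRingCat.of R)))
  obtain ⟨e₀⟩ := FF_fibre hU hb ψ a c hc q₀ hq₀
  obtain ⟨g, hg₀, hg⟩ := hO (TT (ψ.comp (kap k hU))) (FF hU hb ψ a) (FF_rank hU hb ψ hfin C hV hVs hV1 a c hc)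
    (FF_ss hU hb ψ C hV hVs hV1 a c hc) (Spec.map (CommRingCat.ofHom q₀)) (hpt hq₀) (st_of_iso e₀.symm h₀)
  have h2 : ∀ q : R →+* k, (Spec.map (CommRingCat.ofHom q)).appTop g = gm k (q ((gm R).symm g)) := fun q => by
    rw [← appTop_gm, RingEquiv.apply_symm_apply]
  refine ⟨(gm R).symm g, fun h => hg₀ (by rw [h2, h, map_zero]), fun q hq hne => ?_⟩
  obtain ⟨e⟩ := FF_fibre hU hb ψ a c hc q hq
  refine st_of_iso e (hg _ (hpt hq) ?_)
  rw [h2, ne_eq, map_eq_zero_iff _ (gm k).injective]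
  exact hne

end fam

end K670.FamAff
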