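import Groth.Agent.EtpbcB.RDerLES
import Groth.Agent.FormalB.QcSect
import Groth.Agent.PerfA.QCohSerre
import Groth.Agent.Smoothlim.ModKer
import Groth.Agent.CohqA.RelCoh2
import Groth.Agent.Ega1.QcqsPush
import Groth.Agent.Flatn.K654.GeoExact
import Groth.Agent.Dcoh.DerSch

/-!
# `R¹f_*` of a kernel

`0 → A → B → C → 0` exact with `R¹f_* B = 0` and affine base `T`: the sections of `R¹f_* A` over `T` are the cokernel
of `Γ(B) → Γ(C)`, linearly over `Γ(T, O)`.
-/

set_option autoImplicit false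
universe u

open CategoryTheory CategoryTheory.Limits AlgebraicGeometry TopologicalSpace

namespace K670.Push

attribute [local instance] Groth.Agent.Dcoh.DerSch.hasInjectiveResolutions

variable {X T : Scheme.{u}}

/-- Exactness on sections over affine opens. -/
theorem exact_app {A B C : X.Modules} {f : A ⟶ B} {g : B ⟶ C} {w : f ≫ g = 0} (h : (ShortComplex.mk f g w).Exact)
    (hA : Coh.IsQCoh A) (hB : Coh.IsQCoh B) (hC : Coh.IsQCoh C) {U : X.Opens} (hU : IsAffineOpen U) (y : Γ(B, U))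
    (hy : g.app U y = 0) : ∃ x, f.app U x = y := by
  have hK : Coh.IsQCoh (kernel g) := Groth.Agent.PerfA.QCohSerre.isQCoh_kernel _ hB hC
  obtain ⟨z, hz⟩ := Groth.Agent.Smoothlim.ModKer.exists_of_app_eq_zero g U y hy
  have he : Epi (kernel.lift g f w) := by
    have := (ShortComplex.exact_iff_epi_kernel_lift _).1 h
    exact this
  have hA' : Coh.IsQCoh A := hA
  obtain ⟨q, hq⟩ := Groth.Agent.FormalB.QcSect.surjective_app_of_epi (kernel.lift g f w) hU z
  refine ⟨q, ?_⟩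
  rw [← hz, ← hq]
  exact congrArg (fun t => (t.app U).hom q) (kernel.lift_ι g f w).symm

open K654.RelFP in
theorem exists_delta (p : X ⟶ T) [QuasiCompact p] [QuasiSeparated p] [IsAffine T] {S : ShortComplex X.Modules}
    (hS : S.ShortExact) (h1 : Coh.IsQCoh S.X₁) (h2 : Coh.IsQCoh S.X₂) (h3 : Coh.IsQCoh S.X₃)
    (hv : IsZero ((Coh.Rpush p 1).obj S.X₂)) :
    ∃ δ : Γ((Scheme.Modules.pushforward p).obj S.X₃, ⊤) →ₗ[Γ(T, ⊤)] Γ((Coh.Rpush p 1).obj S.X₁, ⊤),
      Function.Surjective δ ∧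
      Function.Exact (appLin ((Scheme.Modules.pushforward p).map S.g) ⊤) δ := by
  let G := Scheme.Modules.pushforward p
  have e1 := Groth.Agent.EtpbcB.RDerLES.exact₃_zero G hS
  have he : Epi (Groth.Agent.EtpbcB.RDerLES.δ G hS 0) :=
    (Groth.Agent.EtpbcB.RDerLES.exact₁ G hS 0).epi_f (hv.eq_of_tgt _ _)
  let d : G.obj S.X₃ ⟶ (Coh.Rpush p 1).obj S.X₁ :=
    G.toRightDerivedZero.app S.X₃ ≫ Groth.Agent.EtpbcB.RDerLES.δ G hS 0
  have hd : Epi d := epi_comp _ _
  have q1 : Coh.IsQCoh ((Coh.Rpush p 1).obj S.X₁) := Groth.Agent.CohqA.RelCoh.isQCoh_Rpush p _ h1 1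
  have q2 : Coh.IsQCoh (G.obj S.X₂) := Groth.Agent.Ega1.QcqsPush.isQCoh_pushforward p _ h2
  have q3 : Coh.IsQCoh (G.obj S.X₃) := Groth.Agent.Ega1.QcqsPush.isQCoh_pushforward p _ h3
  have hT : IsAffineOpen (⊤ : T.Opens) := isAffineOpen_top T
  refine ⟨appLin d ⊤, ?_, fun x => ⟨fun hx => ?_, ?_⟩⟩
  · have := q3
    exact Groth.Agent.FormalB.QcSect.surjective_app_of_epi d hT
  · exact exact_app e1 q2 q3 q1 hT x hx
  · rintro ⟨y, rfl⟩
    have h : (G.map S.g ≫ d).app ⊤ y = 0 := by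
      rw [Groth.Agent.EtpbcB.RDerLES.zero_comp_δ]
      rfl
    exact h

end K670.Push
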