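import Groth.Agent.BunMod.K670.Fam
import Groth.Agent.BunMod.K670.Push

/-!
# `R¹p_*` of a Hecke family
-/

set_option autoImplicit false
universe u

open CategoryTheory CategoryTheory.Limits AlgebraicGeometry TopologicalSpace

namespace K670.Fam

open K140.BM Groth.Agent.Sga67.Sec Groth.Agent.Sga67.LocBasis Groth.Agent.Krr.H487.LocBasisPull MapTo BC

variable {k : Type u} [Field k] {X : Scheme.{u}} [X.Over (Spec (CommRingCat.of k))]

variable (T : Over (B0 k)) (y : T.left ⟶ X) (hy : y ≫ st k X = T.hom)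
  {V : X.Modules} {U : X.Opens} {r : ℕ} {b : Fin r → Sec V U} (hb : IsLocBasis b) (hU : ⊤ ≤ y ⁻¹ᵁ U)

/-- The equation `h = Σ y^#(c_i) a_i`. -/
noncomputable def eqn (a : Fin r → Γ(T.left, ⊤)) (c : Fin r → Γ(X, U)) : Γ(T.left, ⊤) :=
  ∑ i, y.appLE U ⊤ hU (c i) * a i

theorem hk_pbS (a : Fin r → Γ(T.left, ⊤)) (s : Sec V ⊤) (c : Fin r → Γ(X, U))
    (hs : res V (le_top : U ≤ ⊤) s = ∑ i, c i • b i) (ht : (⊤ : T.left.Opens) ≤ gam T y hy ⁻¹ᵁ ⊤) :
    toO (res _ ht (ofPush (gam T y hy) (appS (hk T y hy hb hU a) ⊤ (pbS (pullback.fst (st k X) T.hom) V s)))) =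
      eqn T y hU a c := by
  have hg := le_gam T y hy hU
  have h0 : gam T y hy ⁻¹ᵁ (UT T U) ≤ gam T y hy ⁻¹ᵁ ⊤ := Scheme.Hom.preimage_mono _ le_top
  have h1 : res _ (le_top : UT T U ≤ ⊤) (pbS (pullback.fst (st k X) T.hom) V s) =
      ∑ i, ((pullback.fst (st k X) T.hom).app U (c i)) • bT T b i := by
    have h2 := res_pbS (pullback.fst (st k X) T.hom) V (le_top : U ≤ ⊤)
      (Scheme.Hom.preimage_mono _ le_top) s
    rw [hs, map_sum] at h2
    refine h2.trans ?_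
    refine Finset.sum_congr rfl fun i _ => ?_
    rw [pbS_smul]
    rfl
  rw [← res_res _ h0 hg, ← ofPush_res (gam T y hy) (le_top : UT T U ≤ ⊤), ← appS_res, h1, map_sum, map_sum, map_sum, eqn]
  rw [show ∀ (f : Fin r → Sec (Coh.structureModule T.left) ⊤), toO (∑ i, f i) = ∑ i, toO (f i) from
    fun f => rfl]
  refine Finset.sum_congr rfl fun i _ => ?_
  rw [map_smul, ofPush_smul, res_smul, toO_smul]
  have h3 := toO_val_hk T y hy hb hU a i
  rw [val] at h3
  rw [h3]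
  congr 1
  have h4 : ∀ (j : T.left ⟶ PicF.XT (st k X) T) (h : ⊤ ≤ (j ≫ pullback.fst (st k X) T.hom) ⁻¹ᵁ U)
      (h' : ⊤ ≤ j ⁻¹ᵁ (UT T U)), (j ≫ pullback.fst (st k X) T.hom).appLE U ⊤ h (c i) =
        resO _ h' (j.app (UT T U) ((pullback.fst (st k X) T.hom).app U (c i))) := fun j h h' => by
    rw [Scheme.Hom.appLE, Scheme.Hom.comp_app]
    rfl
  have h5 : ∀ (y' : T.left ⟶ X) (_ : y' = y) (h : ⊤ ≤ y' ⁻¹ᵁ U), y'.appLE U ⊤ h (c i) = y.appLE U ⊤ hU (c i) := by
    rintro _ rfl _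
    rfl
  rw [← h4 (gam T y hy) (by rw [gam_fst]; exact hU) hg, h5 _ (gam_fst T y hy)]

/-- The pull back of a global section. -/
noncomputable def pbT (s : Sec V ⊤) : Sec (cst k T V) ⊤ := pbS (pullback.fst (st k X) T.hom) V s

section toT

/-- Sections of `p_* γ_* O` are functions on `T`. -/
noncomputable def toT (x : Γ((Scheme.Modules.pushforward (PicF.XTproj (st k X) T)).obj
    ((Scheme.Modules.pushforward (gam T y hy)).obj (Coh.structureModule T.left)), ⊤)) : Γ(T.left, ⊤) := x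

theorem gam_app (t : Γ(T.left, ⊤)) :
    (gam T y hy).app ((PicF.XTproj (st k X) T) ⁻¹ᵁ ⊤) ((PicF.XTproj (st k X) T).app ⊤ t) =
      (show Γ(T.left, gam T y hy ⁻¹ᵁ ((PicF.XTproj (st k X) T) ⁻¹ᵁ ⊤)) from t) := by
  have h1 := Scheme.Hom.congr_app (gam_snd T y hy) ⊤
  rw [Scheme.Hom.comp_app] at h1
  refine congr($h1 t).trans ?_
  simp only [Scheme.Hom.id_app]
  exact congr($(T.left.presheaf.map_id (Opposite.op ⊤)) t)

theorem toT_smul (t : Γ(T.left, ⊤)) (x : Γ((Scheme.Modules.pushforward (PicF.XTproj (st k X) T)).obj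
    ((Scheme.Modules.pushforward (gam T y hy)).obj (Coh.structureModule T.left)), ⊤)) :
    toT T y hy (t • x) = t * toT T y hy x := by
  have h1 : t • x = (show Γ(T.left, ⊤) from (gam T y hy).app ((PicF.XTproj (st k X) T) ⁻¹ᵁ ⊤)
    ((PicF.XTproj (st k X) T).app ⊤ t)) * (show Γ(T.left, ⊤) from x) := rfl
  rw [toT, h1, gam_app]
  rfl

/-- Sections of `p_* γ_* O` are functions on `T`, as a linear equivalence. -/
noncomputable def eT : Γ((Scheme.Modules.pushforward (PicF.XTproj (st k X) T)).obj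
    ((Scheme.Modules.pushforward (gam T y hy)).obj (Coh.structureModule T.left)), ⊤) ≃ₗ[Γ(T.left, ⊤)]
      Γ(T.left, ⊤) :=
  { toFun := toT T y hy
    invFun := fun x => x
    left_inv := fun _ => rfl
    right_inv := fun _ => rfl
    map_add' := fun _ _ => rfl
    map_smul' := toT_smul T y hy }

end toT

open K654.RelFP in
/-- `R¹p_*` of the family. -/
theorem exists_quot [IsSeparated (st k X)] [QuasiCompact (st k X)] [IsAffine T.left]
    (a : Fin r → Γ(T.left, ⊤)) (c' : Fin r → Γ(T.left, ⊤)) (hc' : ∑ i, c' i * a i = 1)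
    (hV : Coh.IsQCoh V) (s : Sec V ⊤) (c : Fin r → Γ(X, U))
    (hs : res V (le_top : U ≤ ⊤) s = ∑ i, c i • b i)
    (hv : IsZero ((Coh.Rpush (PicF.XTproj (st k X) T) 1).obj (cst k T V)))
    (hgen : ∀ v : Sec (cst k T V) ⊤, ∃ t : Γ(T.left, ⊤), v = ((PicF.XTproj (st k X) T).appTop t) • pbT T s) :
    Nonempty ((Γ(T.left, ⊤) ⧸ Ideal.span {eqn T y hU a c}) ≃ₗ[Γ(T.left, ⊤)]
      Γ((Coh.Rpush (PicF.XTproj (st k X) T) 1).obj (Fm T y hy hb hU a), ⊤)) := by
  have hcl := isClosedImmersion_gam (X := X) T y hy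
  have hS := sq_shortExact T y hy hb hU a c' hc'
  have q2 : Coh.IsQCoh (cst k T V) := Groth.Agent.VarietyB.PullSec.isQCoh_pullback _ _ hV
  have q3 : Coh.IsQCoh ((Scheme.Modules.pushforward (gam T y hy)).obj (Coh.structureModule T.left)) :=
    Groth.Agent.Ega1.QcqsPush.isQCoh_pushforward _ _ (Groth.Agent.Fdesc.StructMod.isQCoh_structureModule _)
  have q1 : Coh.IsQCoh (Fm T y hy hb hU a) := Groth.Agent.PerfA.QCohSerre.isQCoh_kernel _ q2 q3
  obtain ⟨δ, hδ, hex⟩ := Push.exists_delta (PicF.XTproj (st k X) T) hS q1 q2 q3 hv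
  let f : Γ(T.left, ⊤) →ₗ[Γ(T.left, ⊤)] Γ((Coh.Rpush (PicF.XTproj (st k X) T) 1).obj (Fm T y hy hb hU a), ⊤) :=
    δ ∘ₗ (eT T y hy).symm.toLinearMap
  have hf : Function.Surjective f := hδ.comp (eT T y hy).symm.surjective
  have hker : LinearMap.ker f = Ideal.span {eqn T y hU a c} := by
    ext t
    rw [Ideal.mem_span_singleton', LinearMap.mem_ker]
    have h1 : f t = 0 ↔ _ := hex ((eT T y hy).symm t)
    rw [h1]
    let Φ := appLin ((Scheme.Modules.pushforward (PicF.XTproj (st k X) T)).map (hk T y hy hb hU a)) ⊤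
    have key : ∀ t' : Γ(T.left, ⊤), eT T y hy (Φ (show Sec (cst k T V) ⊤ from
        ((PicF.XTproj (st k X) T).appTop t') • pbT T s)) = t' * eqn T y hU a c := fun t' => by
      have h2 : Φ (show Sec (cst k T V) ⊤ from ((PicF.XTproj (st k X) T).appTop t') • pbT T s) =
          t' • Φ (pbT T s) := Φ.map_smul t' _
      rw [h2, map_smul, smul_eq_mul]
      congr 1
      have h3 := hk_pbS T y hy hb hU a s c hs le_rfl
      refine Eq.trans ?_ h3
      exact (congrArg toO (res_self (Coh.structureModule T.left) (U := ⊤) le_rfl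
        (ofPush (gam T y hy) (appS (hk T y hy hb hU a) ⊤ (pbT T s))))).symm
    constructor
    · rintro ⟨v, hv⟩
      obtain ⟨t', ht'⟩ := hgen v
      refine ⟨t', ?_⟩
      have h4 : Φ v = (eT T y hy).symm t := hv
      rw [← key t', ← ht', h4, LinearEquiv.apply_symm_apply]
    · rintro ⟨t', rfl⟩
      refine ⟨(show Sec (cst k T V) ⊤ from ((PicF.XTproj (st k X) T).appTop t') • pbT T s), ?_⟩
      exact (eT T y hy).injective ((key t').trans ((eT T y hy).apply_symm_apply _).symm)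
  exact ⟨(Submodule.quotEquivOfEq _ _ hker).symm ≪≫ₗ f.quotKerEquivOfSurjective hf⟩

end K670.Fam
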