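import Groth.Agent.BunMod.K670.One
import Groth.Agent.Dcoh.MonInst
import Groth.Agent.Dcoh.MonTm

/-!
# `h⁰(Θ) = 1`
-/

set_option autoImplicit false
universe u

open CategoryTheory CategoryTheory.Limits AlgebraicGeometry TopologicalSpace MonoidalCategory

namespace K670.HOne

open scoped Groth.Agent.Dcoh.MonCat
open Groth.Agent.Sga67.Sec Groth.Agent.Sga67.LocBasis Groth.Agent.CurvesB.HZero
open Groth.Agent.Dcoh Groth.Agent.LoccohB.HHmap Groth.Agent.LoccohB.GlueHom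

section gen

variable {Y : Scheme.{u}}

theorem eq_zero_of_whisker {A B J P : Y.Modules} (e : J ⊗ P ≅ 𝟙_ Y.Modules) (f : A ⟶ B) (h : f ▷ J = 0) : f = 0 := by
  have h1 : f ▷ (J ⊗ P) = 0 := by
    rw [whiskerRight_tensor, h, MonoidalPreadditive.zero_whiskerRight, zero_comp, comp_zero]
  have h2 : f ▷ 𝟙_ Y.Modules = 0 := by
    have h3 := whisker_exchange f e.hom
    rw [h1, zero_comp] at h3
    have h4 : A ◁ e.inv ≫ A ◁ e.hom ≫ f ▷ 𝟙_ Y.Modules = 0 := by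
      rw [h3, comp_zero]
    rwa [← Category.assoc, ← whiskerLeft_comp, e.inv_hom_id, whiskerLeft_id, Category.id_comp] at h4
  have h3 := rightUnitor_naturality f
  rw [h2, zero_comp] at h3
  have h4 : (ρ_ A).inv ≫ (ρ_ A).hom ≫ f = 0 := by rw [← h3, comp_zero]
  rwa [Iso.inv_hom_id_assoc] at h4

theorem whiskerRight_smulHom (A B : Y.Modules) (r : Γ(Y, ⊤)) :
    (smulHom A r ▷ B) = smulHom (A ⊗ B) r := by
  refine MonTm.ext₂ _ _ fun U m n => ?_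
  rw [MonTm.whiskerRight_tm]
  change MonTm.tm (resO (le_top : U ≤ ⊤) r • m) n = resO (le_top : U ≤ ⊤) r • MonTm.tm m n
  rw [MonTm.smul_tm]

variable {Θ J : Y.Modules} (e : Θ ⊗ J ≅ 𝟙_ Y.Modules)

/-- Sections of `Θ` as homomorphisms `J ⟶ O`. -/
noncomputable def lam (σ : 𝟙_ Y.Modules ⟶ Θ) : J ⟶ 𝟙_ Y.Modules := (λ_ J).inv ≫ (σ ▷ J) ≫ e.hom

theorem lam_sub (σ τ : 𝟙_ Y.Modules ⟶ Θ) : lam e (σ - τ) = lam e σ - lam e τ := by
  have h : (σ - τ) ▷ J = σ ▷ J - τ ▷ J := by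
    rw [eq_sub_iff_add_eq, ← MonoidalPreadditive.add_whiskerRight, sub_add_cancel]
  rw [lam, lam, lam, h, Preadditive.sub_comp, Preadditive.comp_sub]

theorem lam_smul (r : Γ(Y, ⊤)) (σ : 𝟙_ Y.Modules ⟶ Θ) : lam e (smulHom _ r ≫ σ) = smulHom _ r ≫ lam e σ := by
  have h1 : smulHom J r ≫ (λ_ J).inv = (λ_ J).inv ≫ smulHom (𝟙_ Y.Modules ⊗ J) r := smulHom_comp _ _
  rw [lam, lam, comp_whiskerRight, whiskerRight_smulHom, ← Category.assoc (smulHom J r), h1]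
  simp only [Category.assoc]

theorem eq_zero_of_lam (σ : 𝟙_ Y.Modules ⟶ Θ) (h : lam e σ = 0) : σ = 0 := by
  refine eq_zero_of_whisker ((β_ J Θ) ≪≫ e) σ ?_
  have h1 : (λ_ J).hom ≫ lam e σ ≫ e.inv = σ ▷ J := by
    rw [lam]
    simp
  rw [← h1, h, zero_comp, comp_zero]

theorem smulHom_mul (F : Y.Modules) (r r' : Γ(Y, ⊤)) : smulHom F (r * r') = smulHom F r' ≫ smulHom F r := by
  apply Scheme.Modules.hom_ext
  intro U
  ext x
  change resO (le_top : U ≤ ⊤) (r * r') • x = resO (le_top : U ≤ ⊤) r • (resO (le_top : U ≤ ⊤) r' • x)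
  rw [map_mul, mul_smul]

end gen

variable {k : Type u} [Field k]

open Pts in
/-- **`h⁰(Θ) = 1`.** -/
theorem finrank_eq_one (M : Over (K140.BM.B0 k)) {I : M.left.IdealSheafData}
    {Θ : M.left.Modules} (h : ClSub.IsInverseOf Θ (ClSub.idealMod I)) (h0 : ClSub.idealModι I ≠ 0)
    (hs : ∀ s : ClSub.idealMod I ⟶ Coh.structureModule M.left, ∃ c : k,
      s = smulHom _ (M.hom.appTop (gm k c)) ≫ ClSub.idealModι I) :
    @Module.finrank k (Coh.HH M.left Θ 0) _ _ (@Coh.moduleOver k _ M.left ⟨M.hom⟩ Θ 0) = 1 := by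
  let _ : M.left.Over (Spec (CommRingCat.of k)) := ⟨M.hom⟩
  obtain ⟨e⟩ := h
  let J : M.left.Modules := ClSub.idealMod I
  let e' : Θ ⊗ J ≅ 𝟙_ M.left.Modules := e
  let ι : J ⟶ 𝟙_ M.left.Modules := ClSub.idealModι I
  -- a nonzero section
  let σ₀ : 𝟙_ M.left.Modules ⟶ Θ := ((β_ J Θ) ≪≫ e').inv ≫ (ι ▷ Θ) ≫ (λ_ Θ).hom
  have hσ₀ : σ₀ ≠ 0 := by
    intro h1
    apply h0
    refine eq_zero_of_whisker (P := J) e' ι ?_
    have h2 : ((β_ J Θ) ≪≫ e').hom ≫ σ₀ ≫ (λ_ Θ).inv = ι ▷ Θ := by simp [σ₀]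
    rw [← h2, h1, zero_comp, comp_zero]
  obtain ⟨c₀, hc₀⟩ := hs (lam e' σ₀)
  have hne : c₀ ≠ 0 := by
    rintro rfl
    apply hσ₀
    apply eq_zero_of_lam e'
    rw [hc₀, map_zero, map_zero]
    apply Scheme.Modules.hom_ext
    intro U
    ext x
    change ι.app U (resO (le_top : U ≤ ⊤) 0 • x) = 0
    rw [map_zero, zero_smul, map_zero]
  let v₀ : Sec Θ ⊤ := appS σ₀ ⊤ (one M.left ⊤)
  have hv₀ : v₀ ≠ 0 := by
    intro h1
    apply hσ₀
    refine MapTo.hom_ext_top (BC.isLocBasis_one M.left ⊤) fun i => ?_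
    exact h1
  refine finrank_eq_one_iff'.mpr ⟨(equivAdd Θ).symm v₀, fun h1 => hv₀ ((equivAdd Θ).symm.map_eq_zero_iff.mp h1),
    fun w => ?_⟩
  let σ : 𝟙_ M.left.Modules ⟶ Θ := homUnit Θ (equivAdd Θ w)
  obtain ⟨c, hc⟩ := hs (lam e' σ)
  refine ⟨c / c₀, (equivAdd Θ).injective ?_⟩
  have h1 : σ = smulHom _ (M.hom.appTop (gm k (c / c₀))) ≫ σ₀ := by
    rw [← sub_eq_zero]
    apply eq_zero_of_lam e'
    rw [lam_sub, lam_smul, hc, hc₀, sub_eq_zero, ← Category.assoc, ← smulHom_mul, ← map_mul, ← map_mul,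
      mul_div_cancel₀ _ hne]
  rw [smulHom_comp] at h1
  have h2 : appS σ ⊤ (one M.left ⊤) = equivAdd Θ w := by
    rw [homUnit_one]
    exact Groth.Agent.Sga67.Sec.res_self _ _ _
  rw [← h2, h1, equivAdd_smul_over, AddEquiv.apply_symm_apply]
  change _ = Groth.Agent.LoccohB.GlueHom.resO (le_top : (⊤ : M.left.Opens) ≤ ⊤) _ • v₀
  rw [Groth.Agent.LoccohB.GlueHom.resO_self]
  rfl

open K140.BM K670.One in
/-- **`h⁰(M, Θ) = 1`** for the quotient of an atlas. -/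
theorem main [IsAlgClosed k] {X : Scheme.{u}} [X.Over (Spec (CommRingCat.of k))]
    [IsProper (X ↘ Spec (CommRingCat.of k))] [Smooth (X ↘ Spec (CommRingCat.of k))]
    [GeometricallyConnected (X ↘ Spec (CommRingCat.of k))] (hdim : topologicalKrullDim X = 1) {g : ℕ}
    (hg : Curv2.genus k X = g) {r : ℕ} (hr : 2 ≤ r) {N : X.Modules} (hN : PicF.IsInvertible N)
    (hd : Curv2.deg k X N 1 = (g : ℤ) - 1) (A : AtlasC k X (BunMod.ussOK (st k X) r 0))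
    (φ : (BunMod.USS (st k X) r 0).Hom ⊤ A.M)
    (hφ : ∀ (T : Over (B0 k)) (c : T ⟶ A.Z) (h : (BunMod.USS (st k X) r 0).ok T (pl k X c A.E)),
      φ.app T (pl k X c A.E) trivial h = c ≫ A.π)
    [IsIntegral A.Z.left] [IsIntegral A.M.left]
    (hI : (vI φ N).comap A.π.left = thetaIdeal k N A.Z A.E) (hC : BlowUp.IsEffCartierIdeal (vI φ N))
    (Θ : A.M.left.Modules) (hΘ : BunMod.IsThetaLB (st k X) (BunMod.ussOK (st k X) r 0) φ N Θ) :
    @Module.finrank k (Coh.HH A.M.left Θ 0) _ _ (@Coh.moduleOver k _ A.M.left ⟨A.M.hom⟩ Θ 0) = 1 := by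
  refine finrank_eq_one A.M hΘ.2 ?_ (exists_smul A φ hφ hdim hr hg hN hd hI hC)
  intro h0
  obtain ⟨m, hm⟩ := nonempty_Vo hC
  obtain ⟨x, hx⟩ := Sca.exists_one (vI φ N) (le_refl (Sca.Vo (vI φ N)))
  have h1 : Groth.Agent.PerfA.IdealModule.val (vI φ N) x = 0 := by
    change ((ClSub.idealModι (vI φ N)).app _) x = 0
    rw [h0]
    rfl
  rw [hx] at h1
  have : Nonempty (Sca.Vo (vI φ N)) := ⟨⟨m, hm⟩⟩
  exact one_ne_zero h1

end K670.HOne
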