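import Groth.Agent.BunMod.K670.HkLoc
import Groth.Agent.VBPn.K698.Basic

/-!
# Constancy of the Hecke function
-/

set_option autoImplicit false
universe u

open CategoryTheory CategoryTheory.Limits AlgebraicGeometry TopologicalSpace

namespace K670.HkGlob

open K140.BM Groth.Agent.Sga67.Sec Groth.Agent.Sga67.LocBasis Groth.Agent.Krr.H487.LocBasisPull MapTo BC Ev Pts Fam PtKer FamAff HkLoc
open K707.Base K707.Slope K707.Deg K707.Semi Groth.Agent.VarietyA.DegRank Module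

/-- Gluing sections. -/
theorem exists_glue {X : Scheme.{u}} (M : X.Modules) {V : X.Opens} (W : V → X.Opens) (hW : ∀ x, W x ≤ V)
    (hx : ∀ x : V, x.1 ∈ W x) (s : ∀ x, Sec M (W x))
    (h : ∀ x y, res M (inf_le_left : W x ⊓ W y ≤ W x) (s x) = res M (inf_le_right : W x ⊓ W y ≤ W y) (s y)) :
    ∃ t : Sec M V, ∀ x, res M (hW x) t = s x := by
  obtain ⟨c, hc, -⟩ := TopCat.Sheaf.existsUnique_gluing' ⟨M.presheaf, M.isSheaf⟩ (fun x : V => W x) V
    (fun x => homOfLE (hW x)) (by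
      intro x hx'
      exact Opens.mem_iSup.mpr ⟨⟨x, hx'⟩, hx ⟨x, hx'⟩⟩) (fun x => s x)
    (fun x y => h x y)
  exact ⟨c, fun x => hc x⟩

variable {k : Type u} [Field k] {X : Scheme.{u}} [X.Over (Spec (CommRingCat.of k))]

/-- The section `c` over `W` computes `ρ`. -/
def Comp {V : X.Modules} (ρ : X.Modules → k) (s : Sec V ⊤) (W : X.Opens) (c : Sec V W) : Prop :=
  ∀ (x : Spec (CommRingCat.of k) ⟶ X) (_ : x ≫ (X ↘ Spec (CommRingCat.of k)) = 𝟙 _) (hxW : ⊤ ≤ x ⁻¹ᵁ W)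
    (l : V ⟶ sky x), evl x (show ⊤ ≤ x ⁻¹ᵁ ⊤ from le_rfl) l s ≠ 0 →
      evl x hxW l c = evl x (show ⊤ ≤ x ⁻¹ᵁ ⊤ from le_rfl) l s * gm k (ρ (kernel l))

theorem comp_restrict {V : X.Modules} {ρ : X.Modules → k} {s : Sec V ⊤} {W W' : X.Opens} {c : Sec V W}
    (h : Comp ρ s W c) (hle : W' ≤ W) : Comp ρ s W' (res V hle c) := by
  intro x hx hxW l hl
  have hxW' : ⊤ ≤ x ⁻¹ᵁ W := hxW.trans (Scheme.Hom.preimage_mono x hle)
  rw [evl_res x hxW' l hle hxW c]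
  exact h x hx hxW' l hl

variable [IsIntegral X] [IsProper (X ↘ (Spec (CommRingCat.of k)))] [IsAlgClosed k]

section uniq

variable {V : X.Modules} {r : ℕ} {s : Sec V ⊤} {ρ : X.Modules → k}

/-- The values of `mp` on combinations. -/
theorem evl_mp_comb {U : X.Opens} (hU : IsAffineOpen U) {b : Fin r → Sec V U} (hb : IsLocBasis b)
    (φ : Γ(X, U) →+* k) (l : Fin r → k) (d : Fin r → Γ(X, U)) :
    evl (ypt hU φ) (le_ypt hU φ) (mp (ypt hU φ) (le_ypt hU φ) hb fun i => gm k (l i)) (∑ i, d i • b i) =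
      gm k (∑ i, l i * φ (d i)) := by
  rw [evl_comb, map_sum]
  refine Finset.sum_congr rfl fun i _ => ?_
  rw [evl_mp, ypt_appLE, ← map_mul, mul_comm]

theorem comp_unique_affine {U : X.Opens} (hU : IsAffineOpen U) {b : Fin r → Sec V U} (hb : IsLocBasis b)
    (hs0 : res V (le_top : U ≤ ⊤) s ≠ 0) {c c' : Sec V U} (h : Comp ρ s U c) (h' : Comp ρ s U c') : c = c' := by
  obtain ⟨c₀, hc₀⟩ := (hb U le_rfl).2 (res V (le_top : U ≤ ⊤) s)
  obtain ⟨d, hd⟩ := (hb U le_rfl).2 (c - c')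
  rw [comb_apply] at hc₀ hd
  simp only [res_self] at hc₀ hd
  have hc0 : c₀ ≠ 0 := by
    rintro rfl
    apply hs0
    rw [← hc₀]
    simp
  have hUne : Nonempty U := by
    by_contra hne
    rw [not_nonempty_iff] at hne
    apply hc0
    funext i
    have : Subsingleton Γ(X, U) := by
      have h1 : U = ⊥ := by
        ext x
        simp only [Opens.coe_bot, Set.mem_empty_iff_false, iff_false]
        exact fun hx => hne.false ⟨x, hx⟩
      rw [h1]
      infer_instance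
    exact Subsingleton.elim _ _
  have hdom : IsDomain Γ(X, U) := inferInstance
  let _ : Algebra k Γ(X, U) := (kap k hU).toAlgebra
  have hfinA : Algebra.FiniteType k Γ(X, U) := kap_finiteType hU
  have key : Poly.lin d = 0 := by
    refine Poly.poly_eq_zero_of_mul (k := k) (Q := Poly.lin c₀) (Poly.lin_ne_zero hc0) fun y l hne => ?_
    rw [Poly.ev_lin] at hne ⊢
    have hy : (y : Γ(X, U) →+* k).comp (kap k hU) = RingHom.id k := by
      ext z
      exact y.commutes z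
    let lam := mp (ypt hU (y : Γ(X, U) →+* k)) (le_ypt hU _) hb fun i => gm k (l i)
    have h1 : evl (ypt hU (y : Γ(X, U) →+* k)) (show ⊤ ≤ (ypt hU (y : Γ(X, U) →+* k)) ⁻¹ᵁ ⊤ from le_rfl) lam s =
        gm k (∑ i, l i * y (c₀ i)) := by
      rw [← evl_res (ypt hU (y : Γ(X, U) →+* k)) _ lam (le_top : U ≤ ⊤) (le_ypt hU _) s, ← hc₀]
      exact evl_mp_comb hU hb _ l c₀
    have h2 : evl (ypt hU (y : Γ(X, U) →+* k)) (show ⊤ ≤ (ypt hU (y : Γ(X, U) →+* k)) ⁻¹ᵁ ⊤ from le_rfl) lam s ≠ 0 := by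
      rw [h1, ne_eq, map_eq_zero_iff _ (gm k).injective]
      exact hne
    have h3 := h _ (ypt_over hU hy) (le_ypt hU _) lam h2
    have h4 := h' _ (ypt_over hU hy) (le_ypt hU _) lam h2
    have h5 : evl (ypt hU (y : Γ(X, U) →+* k)) (le_ypt hU _) lam (c - c') = 0 := by
      rw [evl_sub, h3, h4, sub_self]
    rw [← hd] at h5
    have h6 := evl_mp_comb hU hb (y : Γ(X, U) →+* k) l d
    rw [h5] at h6
    have h7 := (map_eq_zero_iff _ (gm k).injective).mp h6.symm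
    exact h7
  have hd0 : d = 0 := by
    funext i
    have h1 := Poly.coeff_lin d i
    rw [key] at h1
    simpa using h1.symm
  rw [hd0] at hd
  simp only [Pi.zero_apply, zero_smul, Finset.sum_const_zero] at hd
  exact sub_eq_zero.mp hd.symm

variable (hV : FlatMod.IsFinLocFreeOfRank r V)

include hV in
theorem comp_unique (hs0 : ∀ U : X.Opens, (U : Set X).Nonempty → res V (le_top : U ≤ ⊤) s ≠ 0) {W : X.Opens}
    {c c' : Sec V W} (h : Comp ρ s W c) (h' : Comp ρ s W c') : c = c' := by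
  refine eq_of_locally V fun x hx => ?_
  obtain ⟨U, hUW, hxU, b, hb⟩ := K698.Basic.exists_basis hV hx
  obtain ⟨U', hU', hxU', hU'U⟩ := Opens.isBasis_iff_nbhd.mp X.isBasis_affineOpens hxU
  have hU'W := hU'U.trans hUW
  exact ⟨U', hU'W, hxU', comp_unique_affine hU' (hb.restrict hU'U) (hs0 U' ⟨x, hxU'⟩) (comp_restrict h hU'W) (comp_restrict h' hU'W)⟩

end uniq

section ex

variable {V : X.Modules} {r : ℕ} (hr : 2 ≤ r) (C : Crv k X) (hV : FlatMod.IsFinLocFreeOfRank r V) (hVs : St k V)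
  (hV1 : Curv2.euler k X V = 1) {ρ : X.Modules → k} (hρ : RhoP r ρ) (s : Sec V ⊤)
  (hgen : ∀ v : Sec V ⊤, ∃ t : Γ(B0 k, ⊤), v = ((st k X).appTop t) • s)
  (hvan : ∀ p, Subsingleton (Coh.HH X V (p + 1)))

include hr C hV hVs hV1 hρ hgen hvan

theorem exists_comp_affine {U : X.Opens} (hU : IsAffineOpen U) {b : Fin r → Sec V U} (hb : IsLocBasis b) :
    ∃ c : Sec V U, Comp ρ s U c := by
  obtain ⟨c₀, hc₀⟩ := (hb U le_rfl).2 (res V (le_top : U ≤ ⊤) s)
  rw [comb_apply] at hc₀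
  simp only [res_self] at hc₀
  by_cases hc0 : c₀ = 0
  · refine ⟨0, fun x hx hxU l hl => absurd ?_ hl⟩
    rw [← evl_res x _ l (le_top : U ≤ ⊤) hxU s, ← hc₀, hc0]
    simp only [Pi.zero_apply, zero_smul, Finset.sum_const_zero, evl_zero]
  · obtain ⟨c, hc⟩ := exists_local hU hb C hV hVs hV1 hr hρ s c₀ hc₀.symm hc0 hgen hvan
    refine ⟨∑ i, c i • b i, fun x hx hxU l hl => ?_⟩
    obtain ⟨φ, hφ, rfl⟩ := exists_ypt hU x hx hxU
    let l' : Fin r → k := fun i => (gm k).symm (evl (ypt hU φ) hxU l (b i))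
    have hl' : l = mp (ypt hU φ) (le_ypt hU φ) hb fun i => gm k (l' i) := by
      refine (eq_mp_evl (ypt hU φ) hxU l hb).trans ?_
      congr 1
      funext i
      rw [RingEquiv.apply_symm_apply]
    have h1 : evl (ypt hU φ) (show ⊤ ≤ (ypt hU φ) ⁻¹ᵁ ⊤ from le_rfl) l s = gm k (∑ i, l' i * φ (c₀ i)) := by
      rw [← evl_res (ypt hU φ) _ l (le_top : U ≤ ⊤) hxU s, ← hc₀, hl']
      exact evl_mp_comb hU hb φ l' c₀
    have h2 : evl (ypt hU φ) hxU l (∑ i, c i • b i) = gm k (∑ i, l' i * φ (c i)) := by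
      rw [hl']
      exact evl_mp_comb hU hb φ l' c
    rw [h1, ne_eq, map_eq_zero_iff _ (gm k).injective] at hl
    have h3 : ρ (K hU hb φ l') = ρ (kernel l) := hρ.iso ⟨kernelIsoOfEq hl'.symm⟩
    rw [h2, h1, hc φ hφ l' hl, map_mul, h3]

/-- **Constancy of `ρ` on the Hecke modifications of `V`.** -/
theorem exists_const (hs0 : ∀ U : X.Opens, (U : Set X).Nonempty → res V (le_top : U ≤ ⊤) s ≠ 0) :
    ∃ c : k, ∀ (x : Spec (CommRingCat.of k) ⟶ X) (_ : x ≫ (X ↘ Spec (CommRingCat.of k)) = 𝟙 _)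
      (l : V ⟶ sky x), appS l ⊤ s ≠ 0 → ρ (kernel l) = c := by
  have hloc : ∀ x : (⊤ : X.Opens), ∃ (U : X.Opens) (_ : x.1 ∈ U) (c : Sec V U), Comp ρ s U c := by
    rintro ⟨x, hx⟩
    obtain ⟨U, -, hxU, b, hb⟩ := K698.Basic.exists_basis hV hx
    obtain ⟨U', hU', hxU', hU'U⟩ := Opens.isBasis_iff_nbhd.mp X.isBasis_affineOpens hxU
    obtain ⟨c, hc⟩ := exists_comp_affine hr C hV hVs hV1 hρ s hgen hvan hU' (hb.restrict hU'U)
    exact ⟨U', hxU', c, hc⟩
  choose U hxU c hc using hloc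
  obtain ⟨t, ht⟩ := exists_glue V U (fun _ => le_top) hxU c fun x y =>
    comp_unique hV hs0 (comp_restrict (hc x) inf_le_left) (comp_restrict (hc y) inf_le_right)
  obtain ⟨t₀, ht₀⟩ := hgen t
  refine ⟨(gm k).symm t₀, fun x hx l hl => ?_⟩
  have hl' : evl x (show ⊤ ≤ x ⁻¹ᵁ ⊤ from le_rfl) l s ≠ 0 := by
    rw [ne_eq, evl_top_eq_zero_iff]
    exact hl
  let z : (⊤ : X.Opens) := ⟨x (IsLocalRing.closedPoint k), trivial⟩
  have hxW : ⊤ ≤ x ⁻¹ᵁ (U z) := by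
    intro w _
    change x w ∈ U z
    rw [Subsingleton.elim w (IsLocalRing.closedPoint k)]
    exact hxU z
  have h1 := hc z x hx hxW l hl'
  rw [← ht z, evl_res x (show ⊤ ≤ x ⁻¹ᵁ ⊤ from le_rfl) l (le_top : U z ≤ ⊤) hxW t, ht₀, evl_smul] at h1
  have h2 : x.appLE ⊤ ⊤ (show ⊤ ≤ x ⁻¹ᵁ ⊤ from le_rfl) ((st k X).appTop t₀) = t₀ := by
    have h3 : x.appLE ⊤ ⊤ (show ⊤ ≤ x ⁻¹ᵁ ⊤ from le_rfl) = x.appTop := Scheme.Hom.appLE_eq_app ..
    rw [h3]
    have h4 := congrArg Scheme.Hom.appTop hx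
    rw [Scheme.Hom.comp_appTop, Scheme.Hom.id_appTop] at h4
    exact congr($h4 t₀)
  rw [h2, mul_comm] at h1
  have h5 : Function.Injective (fun z => evl x (show ⊤ ≤ x ⁻¹ᵁ ⊤ from le_rfl) l s * z) := by
    have hf : IsDomain Γ(Spec (CommRingCat.of k), ⊤) := MulEquiv.isDomain k (gm k).symm.toMulEquiv
    exact mul_right_injective₀ hl'
  rw [h5 h1, RingEquiv.symm_apply_apply]

end ex

end K670.HkGlob
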