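import Groth.Agent.BunMod.K670.FamAff

/-!
# The Hecke function on an affine chart
-/

set_option autoImplicit false
universe u

open CategoryTheory CategoryTheory.Limits AlgebraicGeometry TopologicalSpace

namespace K670.HkLoc

open K140.BM Groth.Agent.Sga67.Sec Groth.Agent.Sga67.LocBasis Groth.Agent.Krr.H487.LocBasisPull MapTo BC Ev Pts Fam PtKer FamAff
open K707.Base K707.Slope K707.Deg K707.Semi Groth.Agent.VarietyA.DegRank Module

variable {k : Type u} [Field k] {X : Scheme.{u}} [X.Over (Spec (CommRingCat.of k))]
  [IsIntegral X] [IsProper (X ↘ (Spec (CommRingCat.of k)))] [IsAlgClosed k]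

variable {V : X.Modules} {U : X.Opens} (hU : IsAffineOpen U) {r : ℕ} {b : Fin r → Sec V U} (hb : IsLocBasis b)
  (C : Crv k X) (hV : FlatMod.IsFinLocFreeOfRank r V) (hVs : St k V) (hV1 : Curv2.euler k X V = 1)

omit [IsIntegral X] [IsAlgClosed k] in
theorem kap_finiteType : (kap k hU).FiniteType := by
  have h1 : LocallyOfFiniteType (Spec.map (CommRingCat.ofHom (kap k hU))) := by
    rw [kap_spec]
    infer_instance
  exact (HasRingHomProperty.Spec_iff (P := @LocallyOfFiniteType)).mp h1

include C hV hVs hV1 in
theorem exists_local (hr : 2 ≤ r) {ρ : X.Modules → k} (hρ : RhoP r ρ) (s : Sec V ⊤) (c₀ : Fin r → Γ(X, U))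
    (hs : res V (le_top : U ≤ ⊤) s = ∑ i, c₀ i • b i) (hs0 : c₀ ≠ 0)
    (hgen : ∀ v : Sec V ⊤, ∃ t : Γ(B0 k, ⊤), v = ((st k X).appTop t) • s)
    (hvan : ∀ p, Subsingleton (Coh.HH X V (p + 1))) :
    ∃ c : Fin r → Γ(X, U), ∀ (φ : Γ(X, U) →+* k) (_ : φ.comp (kap k hU) = RingHom.id k) (l : Fin r → k),
      ∑ j, l j * φ (c₀ j) ≠ 0 → ∑ j, l j * φ (c j) = (∑ j, l j * φ (c₀ j)) * ρ (K hU hb φ l) := by
  have hUne : Nonempty U := by
    by_contra h
    rw [not_nonempty_iff] at h
    apply hs0
    funext i
    have : Subsingleton Γ(X, U) := by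
      have h1 : U = ⊥ := by
        ext x
        simp only [Opens.coe_bot, Set.mem_empty_iff_false, iff_false]
        exact fun hx => h.false ⟨x, hx⟩
      rw [h1]
      infer_instance
    exact Subsingleton.elim _ _
  have hdom : IsDomain Γ(X, U) := inferInstance
  let _ : Algebra k Γ(X, U) := (kap k hU).toAlgebra
  have hfinA : Algebra.FiniteType k Γ(X, U) := kap_finiteType hU
  obtain ⟨c, hc⟩ := Poly.exists_linear (k := k) (A := Γ(X, U)) hr hs0
    (fun y l => ρ (K hU hb (y : Γ(X, U) →+* k) l))
    (fun y l c hc _ => hρ.iso (nonempty_K_scale hU hb _ l c hc)) (fun i => by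
      let P := MvPolynomial (Fin r) Γ(X, U)
      let R := Localization.Away (MvPolynomial.X i : P)
      have hXi : (MvPolynomial.X i : P) ≠ 0 := MvPolynomial.X_ne_zero i
      have hle : Submonoid.powers (MvPolynomial.X i : P) ≤ nonZeroDivisors P :=
        powers_le_nonZeroDivisors_of_noZeroDivisors hXi
      have hdomR : IsDomain R := IsLocalization.isDomain_localization hle
      have hinj : Function.Injective (algebraMap P R) := IsLocalization.injective R hle
      let ψ : Γ(X, U) →+* R := (algebraMap P R).comp MvPolynomial.C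
      have hfin : (ψ.comp (kap k hU)).FiniteType := by
        have h0 : Algebra.FiniteType P R := IsLocalization.finiteType_of_monoid_fg
            (Submonoid.powers (MvPolynomial.X i : P)) R
        have h1 : (algebraMap P R).FiniteType := RingHom.finiteType_algebraMap.mpr h0
        have h2 : (MvPolynomial.C : Γ(X, U) →+* P).FiniteType :=
          RingHom.finiteType_algebraMap (A := Γ(X, U)) (B := P) |>.mpr inferInstance
        exact (h1.comp h2).comp (kap_finiteType hU)
      let a : Fin r → R := fun j => algebraMap P R (MvPolynomial.X j)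
      have hH : ∑ j, ψ (c₀ j) * a j = algebraMap P R (Poly.lin c₀) := by
        rw [Poly.lin, map_sum]
        exact Finset.sum_congr rfl fun j _ => (map_mul (algebraMap P R) _ _).symm
      have hunit : ∑ j, (Pi.single i (IsLocalization.Away.invSelf (MvPolynomial.X i : P)) : Fin r → R) j * a j = 1 := by
        rw [Finset.sum_eq_single i]
        · rw [Pi.single_eq_same, mul_comm]
          exact IsLocalization.Away.mul_invSelf _
        · intro j _ hj
          rw [Pi.single_eq_of_ne hj, zero_mul]
        · intro h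
          exact absurd (Finset.mem_univ i) h
      obtain ⟨G, hG⟩ := fam_affine hU hb ψ hfin C hV hVs hV1 hρ s c₀ hs hgen hvan a _ hunit (by
        rw [hH, ne_eq, map_eq_zero_iff _ hinj]
        exact Poly.lin_ne_zero hs0)
      obtain ⟨n, Q, hQ⟩ := IsLocalization.Away.surj (MvPolynomial.X i : P) G
      refine ⟨n, Q, fun y l hli hne => ?_⟩
      have hev : IsUnit (Poly.ev y l (MvPolynomial.X i)) := by
        rw [Poly.ev_X]
        exact isUnit_iff_ne_zero.mpr hli
      let q : R →+* k := IsLocalization.Away.lift (MvPolynomial.X i : P) hev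
      have hq : ∀ z, q (algebraMap P R z) = Poly.ev y l z := fun z => IsLocalization.Away.lift_eq _ hev z
      have hqψ : q.comp ψ = (y : Γ(X, U) →+* k) := by
        ext z
        change q (algebraMap P R (MvPolynomial.C z)) = y z
        rw [hq, Poly.ev_C]
      have hqa : (fun j => q (a j)) = l := by
        funext j
        change q (algebraMap P R (MvPolynomial.X j)) = _
        rw [hq, Poly.ev_X]
      have hqk : q.comp (ψ.comp (kap k hU)) = RingHom.id k := by
        rw [← RingHom.comp_assoc, hqψ]
        ext z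
        exact y.commutes z
      have h1 := hG q hqk (by rw [hH, hq, Poly.ev_lin]; exact hne)
      rw [hqψ, hqa, hH, hq, Poly.ev_lin] at h1
      have h2 := congrArg q hQ
      rw [hq, map_mul, map_pow, hq, Poly.ev_X, h1] at h2
      rw [← h2]
      ring)
  refine ⟨c, fun φ hφ l hl => ?_⟩
  let y : Γ(X, U) →ₐ[k] k := { φ with commutes' := fun z => congr($hφ z) }
  exact hc y l hl

end K670.HkLoc
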