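import Groth.Agent.BunMod.K670.Pts
import Groth.Agent.PerfA.IdealModule
import Groth.Agent.Divis.IdealComap

/-!
# Homomorphisms from an ideal to the structure sheaf, and rational points

`s : idealMod I ⟶ O_M`; away from the support of `I` it is the multiplication by the function `G₀ = s(1)`. `R m` is the
value of this function at a rational point `m`.

* `s_eq`: `s(x)(m) = x(m) R(m)`;
* `fam`: if `f : T ⟶ M`, `T` affine and `I O_T = (h)` then there is a function `G` on `T` with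
  `G(p) = h(p) R(f(p))` for all rational points `p` with `h(p) ≠ 0`.
-/

set_option autoImplicit false
universe u

open CategoryTheory CategoryTheory.Limits AlgebraicGeometry TopologicalSpace

namespace K670.Sca

open Groth.Agent.PerfA.IdealModule Groth.Agent.CohqB.QC2 Groth.Agent.CohqB.FiniteType2 Pts

section ev

variable {k : Type u} [Field k] {M : Scheme.{u}}

/-- The value of a function at a rational point. -/
noncomputable def ev (m : Spec (CommRingCat.of k) ⟶ M) {W : M.Opens} (h : ⊤ ≤ m ⁻¹ᵁ W) : Γ(M, W) →+* k :=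
  (gm k).symm.toRingHom.comp (m.appLE W ⊤ h).hom

theorem gm_ev (m : Spec (CommRingCat.of k) ⟶ M) {W : M.Opens} (h : ⊤ ≤ m ⁻¹ᵁ W) (a : Γ(M, W)) :
    gm k (ev m h a) = m.appLE W ⊤ h a := (gm k).apply_symm_apply _

theorem ev_res (m : Spec (CommRingCat.of k) ⟶ M) {W W' : M.Opens} (hW : W' ≤ W) (h' : ⊤ ≤ m ⁻¹ᵁ W')
    (h : ⊤ ≤ m ⁻¹ᵁ W) (a : Γ(M, W)) : ev m h' (resR hW a) = ev m h a := by
  apply (gm k).injective
  rw [gm_ev, gm_ev]
  exact congr($(m.map_appLE h' (homOfLE hW).op) a)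

theorem ev_top (m : Spec (CommRingCat.of k) ⟶ M) (a : Γ(M, ⊤)) : gm k (ev m (W := ⊤) le_top a) = m.appTop a := by
  rw [gm_ev]
  exact congr($(Scheme.Hom.appLE_eq_app (f := m) (U := ⊤)) a)

theorem ev_comp {T : Scheme.{u}} (p : Spec (CommRingCat.of k) ⟶ T) (f : T ⟶ M) {W : M.Opens} {U : T.Opens}
    (e : U ≤ f ⁻¹ᵁ W) (hU : ⊤ ≤ p ⁻¹ᵁ U) (hW : ⊤ ≤ (p ≫ f) ⁻¹ᵁ W) (a : Γ(M, W)) :
    ev p hU (f.appLE W U e a) = ev (p ≫ f) hW a := by
  apply (gm k).injective
  rw [gm_ev, gm_ev]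
  exact congr($(Scheme.Hom.appLE_comp_appLE p f W U ⊤ e hU) a)

/-- A rational point is in an open set or not. -/
theorem mem_iff (m : Spec (CommRingCat.of k) ⟶ M) (W : M.Opens) :
    ⊤ ≤ m ⁻¹ᵁ W ↔ m (IsLocalRing.closedPoint k) ∈ W := by
  constructor
  · intro h
    exact h (Set.mem_univ _)
  · intro h x _
    have hx : x = IsLocalRing.closedPoint k := by
      have : Subsingleton (PrimeSpectrum k) := inferInstance
      exact this.elim _ _
    rw [hx]
    exact h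

theorem le_basicOpen (m : Spec (CommRingCat.of k) ⟶ M) {W : M.Opens} (h : ⊤ ≤ m ⁻¹ᵁ W) (a : Γ(M, W))
    (ha : ev m h a ≠ 0) : ⊤ ≤ m ⁻¹ᵁ (M.basicOpen a) := by
  have h1 : IsUnit (m.appLE W ⊤ h a) := by
    rw [← gm_ev]
    exact (IsUnit.mk0 _ ha).map (gm k)
  rw [Scheme.preimage_basicOpen]
  have h2 : (Spec (CommRingCat.of k)).basicOpen (m.app W a) ⊓ ⊤ = ⊤ := by
    have h3 := Scheme.basicOpen_res (Spec (CommRingCat.of k)) (m.app W a) (homOfLE h).op
    rw [inf_comm, ← h3]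
    exact Scheme.basicOpen_of_isUnit _ h1
  rw [inf_top_eq] at h2
  rw [h2]

end ev

variable {M : Scheme.{u}} (I : M.IdealSheafData)

/-- The complement of the support. -/
def Vo : M.Opens := ⟨(I.support : Set M)ᶜ, I.support.isClosed.isOpen_compl⟩

theorem exists_one {W : M.Opens} (hW : W ≤ Vo I) : ∃ x : Γ(ClSub.idealMod I, W), val I x = 1 := by
  have h1 : appLinear (ClSub.toSubscheme I) W (1 : Γ(M, W)) = 0 := by
    rw [toSubscheme_app_apply]
    have h2 : I.subschemeι ⁻¹ᵁ W = ⊥ := by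
      rw [eq_bot_iff]
      intro x hx
      have h3 : I.subschemeι x ∈ (I.support : Set M) := by
        have h4 := I.range_subschemeι
        rw [← h4]
        exact ⟨x, rfl⟩
      exact (hW hx h3).elim
    have h3 : Subsingleton Γ(I.subscheme, I.subschemeι ⁻¹ᵁ W) := by
      rw [h2]
      infer_instance
    exact h3.elim _ _
  exact ((exact_app I W) _).mp h1

variable (s : ClSub.idealMod I ⟶ Coh.structureModule M)

/-- The value of `s` on a section. -/
noncomputable def sv {W : M.Opens} (x : Γ(ClSub.idealMod I, W)) : Γ(M, W) := appLinear s W x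

theorem sv_res {U V : M.Opens} (h : V ≤ U) (x : Γ(ClSub.idealMod I, U)) :
    sv I s (res _ h x) = resR h (sv I s x) := app_res s h x

theorem sv_smul {V : M.Opens} (r : Γ(M, V)) (x : Γ(ClSub.idealMod I, V)) :
    sv I s (r • x) = r * sv I s x := (appLinear s V).map_smul r x

theorem val_mul_sv {W : M.Opens} (x y : Γ(ClSub.idealMod I, W)) :
    val I x * sv I s y = val I y * sv I s x := by
  rw [← sv_smul, ← sv_smul]
  congr 1
  apply val_injective
  rw [val_smul, val_smul, mul_comm]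

/-- The function away from the support. -/
noncomputable def G0 : Γ(M, Vo I) := sv I s (exists_one I (le_refl (Vo I))).choose

theorem sv_eq {W : M.Opens} (hW : W ≤ Vo I) (x : Γ(ClSub.idealMod I, W)) :
    sv I s x = val I x * resR hW (G0 I s) := by
  have h1 := val_mul_sv I s (res _ hW (exists_one I (le_refl (Vo I))).choose) x
  rw [val_res, (exists_one I (le_refl (Vo I))).choose_spec, map_one, one_mul, sv_res] at h1
  exact h1

variable {k : Type u} [Field k]

open Classical in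
/-- The value of `G0` at a rational point. -/
noncomputable def R (m : Spec (CommRingCat.of k) ⟶ M) : k :=
  if h : ⊤ ≤ m ⁻¹ᵁ (Vo I) then ev m h (G0 I s) else 0

theorem R_eq (m : Spec (CommRingCat.of k) ⟶ M) (h : ⊤ ≤ m ⁻¹ᵁ (Vo I)) : R I s m = ev m h (G0 I s) := dif_pos h

theorem le_inf {m : Spec (CommRingCat.of k) ⟶ M} {W W' : M.Opens} (h : ⊤ ≤ m ⁻¹ᵁ W) (h' : ⊤ ≤ m ⁻¹ᵁ W') :
    ⊤ ≤ m ⁻¹ᵁ (W ⊓ W') := fun x hx => ⟨h hx, h' hx⟩

theorem s_eq (m : Spec (CommRingCat.of k) ⟶ M) (h0 : ⊤ ≤ m ⁻¹ᵁ (Vo I)) {W : M.Opens} (h : ⊤ ≤ m ⁻¹ᵁ W)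
    (x : Γ(ClSub.idealMod I, W)) : ev m h (sv I s x) = ev m h (val I x) * R I s m := by
  have h1 := congrArg (ev m (le_inf h h0)) (sv_eq I s (inf_le_right : W ⊓ Vo I ≤ Vo I) (res _ inf_le_left x))
  rw [sv_res, val_res, map_mul, ev_res _ _ _ h, ev_res _ _ _ h, ev_res _ _ _ h0] at h1
  rw [h1, R_eq I s m h0]

section fam

variable {T : Scheme.{u}} (f : T ⟶ M)

/-- Elements of the inverse image ideal. -/
theorem exists_local {V : M.affineOpens} {U : T.Opens} (e : U ≤ f ⁻¹ᵁ V.1) (y : Γ(T, U))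
    (hy : y ∈ (I.ideal V).map (f.appLE V.1 U e).hom) :
    ∃ G : Γ(T, U), ∀ (p : Spec (CommRingCat.of k) ⟶ T) (hp : ⊤ ≤ p ⁻¹ᵁ U), ⊤ ≤ (p ≫ f) ⁻¹ᵁ (Vo I) →
      ev p hp G = ev p hp y * R I s (p ≫ f) := by
  refine Submodule.span_induction (p := fun y _ => ∃ G : Γ(T, U), ∀ (p : Spec (CommRingCat.of k) ⟶ T)
    (hp : ⊤ ≤ p ⁻¹ᵁ U), ⊤ ≤ (p ≫ f) ⁻¹ᵁ (Vo I) → ev p hp G = ev p hp y * R I s (p ≫ f)) ?_ ?_ ?_ ?_ hy
  · rintro _ ⟨u, hu, rfl⟩
    obtain ⟨x, rfl⟩ := exists_val_eq I V hu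
    refine ⟨f.appLE V.1 U e (sv I s x), fun p hp h0 => ?_⟩
    have hW : ⊤ ≤ (p ≫ f) ⁻¹ᵁ V.1 := fun z hz => e (hp hz)
    rw [ev_comp p f e hp hW, s_eq I s _ h0 hW]
    congr 1
    exact (ev_comp p f e hp hW _).symm
  · exact ⟨0, fun p hp _ => by rw [map_zero, zero_mul]⟩
  · rintro y y' - - ⟨G, hG⟩ ⟨G', hG'⟩
    exact ⟨G + G', fun p hp h0 => by rw [map_add, map_add, hG p hp h0, hG' p hp h0, add_mul]⟩
  · rintro a y - ⟨G, hG⟩
    refine ⟨a * G, fun p hp h0 => ?_⟩
    rw [map_mul, hG p hp h0, smul_eq_mul, map_mul, mul_assoc]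

variable [IsAffine T] {h : Γ(T, ⊤)}
  (hI : (I.comap f).ideal ⟨⊤, isAffineOpen_top T⟩ = Ideal.span {h})

include hI in
theorem mem_Vo (p : Spec (CommRingCat.of k) ⟶ T) (hp : p.appTop h ≠ 0) : ⊤ ≤ (p ≫ f) ⁻¹ᵁ (Vo I) := by
  rw [mem_iff]
  intro hm
  have h1 : p (IsLocalRing.closedPoint k) ∈ (I.comap f).support := by
    rw [Scheme.IdealSheafData.support_comap]
    exact hm
  rw [Scheme.IdealSheafData.mem_support_iff_of_mem (U := ⟨⊤, isAffineOpen_top T⟩) (Set.mem_univ _), hI] at h1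
  have h2 := (Scheme.mem_zeroLocus_iff _ _ _).mp h1 h (Ideal.subset_span rfl)
  refine h2 ?_
  have h3 := le_basicOpen p (W := ⊤) le_top h (by
    intro h0
    apply hp
    rw [← ev_top, h0, map_zero])
  exact (mem_iff p _).mp h3

include hI in
/-- **The function `h R(f)` is regular.** -/
theorem fam : ∃ G : Γ(T, ⊤), ∀ p : Spec (CommRingCat.of k) ⟶ T, p.appTop h ≠ 0 →
    p.appTop G = p.appTop h * gm k (R I s (p ≫ f)) := by
  let J : Ideal Γ(T, ⊤) :=
    { carrier := {a | ∃ G : Γ(T, ⊤), ∀ p : Spec (CommRingCat.of k) ⟶ T, p.appTop h ≠ 0 →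
        p.appTop G = p.appTop a * (p.appTop h * gm k (R I s (p ≫ f)))}
      add_mem' := by
        rintro a b ⟨G, hG⟩ ⟨G', hG'⟩
        exact ⟨G + G', fun p hp => by rw [map_add, map_add, hG p hp, hG' p hp, add_mul]⟩
      zero_mem' := ⟨0, fun p hp => by rw [map_zero, zero_mul]⟩
      smul_mem' := by
        rintro a b ⟨G, hG⟩
        exact ⟨a * G, fun p hp => by rw [map_mul, hG p hp, smul_eq_mul, map_mul, mul_assoc]⟩ }
  have key : J = ⊤ := by
    have h1 : Ideal.span (J : Set Γ(T, ⊤)) = ⊤ := by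
      rw [← (isAffineOpen_top T).self_le_iSup_basicOpen_iff]
      intro t _
      obtain ⟨_, ⟨V, hV, rfl⟩, htV, -⟩ := M.isBasis_affineOpens.exists_subset_of_mem_open
        (Set.mem_univ (f t)) isOpen_univ
      obtain ⟨a, ha, hta⟩ := (isAffineOpen_top T).exists_basicOpen_le (V := f ⁻¹ᵁ V) ⟨t, htV⟩ (Set.mem_univ _)
      have h2 := Groth.Agent.Divis.IdealComap.ideal_comap I f ⟨V, hV⟩ (T.affineBasicOpen (U := ⟨⊤, isAffineOpen_top T⟩) a) ha
      have h3 := (I.comap f).map_ideal_basicOpen (U := ⟨⊤, isAffineOpen_top T⟩) a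
      have h4 : resR (le_top : T.basicOpen a ≤ ⊤) h ∈ (I.ideal ⟨V, hV⟩).map (f.appLE V (T.basicOpen a) ha).hom := by
        refine h2.le ?_
        rw [← h3, hI]
        exact Ideal.mem_map_of_mem _ (Ideal.subset_span rfl)
      obtain ⟨G, hG⟩ := exists_local (k := k) I s f ha _ h4
      have inst := (isAffineOpen_top T).isLocalization_basicOpen a
      obtain ⟨⟨G', _, n, rfl⟩, hG'⟩ := IsLocalization.surj (Submonoid.powers a) G
      have h5 : a ^ (n + 1) ∈ J := by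
        refine ⟨a * G', fun p hp => ?_⟩
        by_cases hpa : p.appTop a = 0
        · rw [map_mul, map_pow, hpa, zero_mul, pow_succ, mul_zero, zero_mul]
        have h6 := le_basicOpen p (W := ⊤) le_top a (by
          intro h0
          apply hpa
          rw [← ev_top, h0, map_zero])
        have h7 := hG p h6 (mem_Vo I f hI p hp)
        have h8 := congrArg (ev p h6) hG'
        rw [map_mul] at h8
        change _ * ev p h6 (resR (le_top : T.basicOpen a ≤ ⊤) (a ^ n)) =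
          ev p h6 (resR (le_top : T.basicOpen a ≤ ⊤) G') at h8
        rw [ev_res _ _ _ le_top] at h7
        rw [ev_res _ _ _ le_top, ev_res _ _ _ le_top, h7] at h8
        rw [← ev_top, ← ev_top, ← ev_top, ← map_mul, ← map_mul]
        congr 1
        rw [map_mul, ← h8, pow_succ, map_mul]
        ring
      refine TopologicalSpace.Opens.mem_iSup.mpr ⟨⟨a ^ (n + 1), h5⟩, ?_⟩
      rw [Scheme.basicOpen_pow]
      · exact hta
      · exact Nat.succ_pos n
    rw [Ideal.span_eq] at h1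
    exact h1
  obtain ⟨G, hG⟩ : (1 : Γ(T, ⊤)) ∈ J := by rw [key]; trivial
  exact ⟨G, fun p hp => by rw [hG p hp, map_one, one_mul]⟩

end fam

end K670.Sca
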