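import Groth.Agent.BunMod.K619.HeckeOpen
import Groth.Agent.BunMod.K670.Sca
import Groth.Agent.BunMod.K670.FamAff

/-!
# Openness of stability, in the form used for Hecke families
-/

set_option autoImplicit false
universe u

open CategoryTheory CategoryTheory.Limits AlgebraicGeometry TopologicalSpace

namespace K670.StO

open K140.BM Pts Fam Sca FamAff K707.Base K707.Deg K707.Slope K707.Semi

variable {k : Type u} [Field k]

theorem appTop_ne_zero_iff {T : Scheme.{u}} (p : Spec (CommRingCat.of k) ⟶ T) (g : Γ(T, ⊤)) :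
    p.appTop g ≠ 0 ↔ p (IsLocalRing.closedPoint k) ∈ T.basicOpen g := by
  constructor
  · intro h
    have h3 := le_basicOpen p (W := ⊤) le_top g (by
      intro h0
      apply h
      rw [← ev_top, h0, map_zero])
    exact (mem_iff p _).mp h3
  · intro h h0
    have h1 : IsLocalRing.closedPoint k ∈ p ⁻¹ᵁ (T.basicOpen g) := h
    rw [Scheme.preimage_basicOpen] at h1
    have h2 : p.app ⊤ g = 0 := h0
    rw [h2, Scheme.basicOpen_zero] at h1
    exact h1

variable (X : Scheme.{u}) [X.Over (Spec (CommRingCat.of k))] [IsProper (X ↘ Spec (CommRingCat.of k))]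
  [Smooth (X ↘ Spec (CommRingCat.of k))] [GeometricallyConnected (X ↘ Spec (CommRingCat.of k))] [IsIntegral X]
  [IsAlgClosed k]

theorem stOpen (hdim : topologicalKrullDim X = 1) {r : ℕ} (hr : 1 ≤ r) : StOpen k X r := by
  intro T _ _ _ F hF hp p₀ hp₀ hst
  have hn : IsLocallyNoetherian T.left := LocallyOfFiniteType.isLocallyNoetherian T.hom
  have h1 : FlatMod.IsFinLocFreeOfRank r ((Scheme.Modules.pullback (ip (X := X) T p₀ hp₀)).obj F) :=
    Groth.Agent.PerfB.FibreConc.isFinLocFreeOfRank_pullback _ hF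
  have h0 : dg k ((Scheme.Modules.pullback (ip (X := X) T p₀ hp₀)).obj F) =
      r * (- Curv2.euler k X (Coh.structureModule X)) := by
    rw [dg_of_rank k h1, Curv2.deg, (hp p₀ hp₀).2]
    ring
  obtain ⟨W, hW, h2⟩ := K619.HeckeOpen.exists_open_st hdim T hr hF p₀ hp₀ hst h0
  obtain ⟨g, hg, hg'⟩ := (isAffineOpen_top T.left).exists_basicOpen_le (V := W) ⟨_, hW⟩ (Set.mem_univ _)
  exact ⟨g, (appTop_ne_zero_iff p₀ g).mpr hg', fun p hp' hne => h2 p hp' (hg ((appTop_ne_zero_iff p g).mp hne))⟩

end K670.StO
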