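import Groth.Agent.BunMod.K670.Rho
import Groth.Agent.BunMod.K670.StO
import Groth.Agent.BunMod.K670.Conn
import Groth.Agent.BunMod.K619.AdmPt
import Groth.Agent.BunMod.K562.Jump
import Groth.Agent.BunMod.K325.StableOpen

/-!
# Bundles on `X` and the jump locus
-/

set_option autoImplicit false
universe u

open CategoryTheory CategoryTheory.Limits AlgebraicGeometry TopologicalSpace

namespace K670.Jmp

open K140.BM Pts Fam Sca Const K54.Theta FamAff Rho Chain
open Groth.Agent.ASBun.K791.Tens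
open Groth.Agent.VarietyA.DegRank K707.Base K707.Deg K707.Slope K707.Semi K325.GeomFib K325.StabFib

theorem sec_pull {X P : Scheme.{u}} (c : X ⟶ P) [IsIso c] (G : P.Modules) (h : Subsingleton Γ(G, ⊤)) :
    Subsingleton Γ((Scheme.Modules.pullback c).obj G, ⊤) := by
  have h1 : c ''ᵁ ⊤ = ⊤ := by
    rw [Scheme.Hom.image_top_eq_opensRange]
    exact Scheme.Hom.opensRange_of_isIso c
  have h2 : Subsingleton Γ(G, c ''ᵁ ⊤) := by rw [h1]; exact h
  have h3 : Subsingleton Γ(G.restrict c, ⊤) := h2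
  let e := (Scheme.Modules.restrictFunctorIsoPullback c).app G
  have h4 : Function.Injective (e.inv.app ⊤) := by
    have h5 : Mono ((Scheme.Modules.toPresheaf X).map e.inv) := inferInstance
    have h6 : Mono (((Scheme.Modules.toPresheaf X).map e.inv).app (Opposite.op ⊤)) := inferInstance
    exact (AddCommGrpCat.mono_iff_injective _).mp h6
  exact h4.subsingleton

theorem subsingleton_pull {X P : Scheme.{u}} (c : X ⟶ P) [IsIso c] (G : P.Modules)
    (h : Subsingleton (Coh.HH P G 0)) : Subsingleton (Coh.HH X ((Scheme.Modules.pullback c).obj G) 0) := by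
  have h1 : Subsingleton Γ(G, ⊤) := ⟨fun a b => (SecH0.eq_zero h a).trans (SecH0.eq_zero h b).symm⟩
  have h2 := sec_pull c G h1
  exact SecH0.subsingleton_HH fun v => h2.elim _ _

variable {k : Type u} [Field k] {X : Scheme.{u}} [X.Over (Spec (CommRingCat.of k))]
  [IsProper (X ↘ Spec (CommRingCat.of k))] [Smooth (X ↘ Spec (CommRingCat.of k))]
  [GeometricallyConnected (X ↘ Spec (CommRingCat.of k))] [IsIntegral X] [IsAlgClosed k]

/-- A bundle which defines a stable family outside the jump locus is good. -/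
theorem good_of_notMem (hdim : topologicalKrullDim X = 1) {g : ℕ} (hg : Curv2.genus k X = g) {r : ℕ}
    {N L : X.Modules} (hN : PicF.IsInvertible N) (hNL : Nonempty (CohB1.tensorMod N L ≅ Coh.structureModule X))
    (hd : Curv2.deg k X N 1 = (g : ℤ) - 1) {M : Over (B0 k)} (φ : (BunMod.USS (st k X) r 0).Hom ⊤ M)
    {E : (PicF.XT (st k X) (T0 k)).Modules} (hE : BunMod.ussOK (st k X) r 0 (T0 k) E)
    (h5 : St k ((Scheme.Modules.pullback (K619.Adm.ι0 k X)).obj E))
    (hj : (φ.app (T0 k) E trivial ⟨trivial, hE⟩).left (IsLocalRing.closedPoint k) ∉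
      BunMod.jumpLocus (st k X) (BunMod.ussOK (st k X) r 0) φ N) :
    Good k r (CohB1.tensorMod ((Scheme.Modules.pullback (K619.Adm.ι0 k X)).obj E) N) ∧
      Nonempty (E ≅ cst k (T0 k) (CohB1.tensorMod (CohB1.tensorMod
        ((Scheme.Modules.pullback (K619.Adm.ι0 k X)).obj E) N) L)) := by
  obtain ⟨h1, h2, h3, h4⟩ := K619.Adm.base_facts hdim hg hN hNL hd hE (Or.inr
    ((K619.KPt.stAt_iff (T0 k) (𝟙 _) (Category.comp_id _) hE.1 hdim).2 h5))
  refine ⟨⟨h1, h2, h3, ?_⟩, h4⟩
  by_contra hne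
  apply hj
  have hiso := K619.Adm.isIso_ι0 (k := k) (X := X)
  let _ : (PicF.XT (st k X) (T0 k)).Over (Spec (CommRingCat.of k)) := ⟨PicF.XTproj (st k X) (T0 k)⟩
  obtain ⟨g1, g2, g3⟩ : NC (PicF.XTproj (st k X) (T0 k)) :=
    NC.of_isPullback hdim (IsPullback.of_hasPullback (st k X) (𝟙 _))
  have : IsProper (PicF.XT (st k X) (T0 k) ↘ Spec (CommRingCat.of k)) := g2
  have i5 : K619.Adm.ι0 k X ≫ (PicF.XT (st k X) (T0 k) ↘ Spec (CommRingCat.of k)) =
      X ↘ Spec (CommRingCat.of k) := by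
    have h4 := ip_snd (X := X) (T0 k) (𝟙 _) (Category.comp_id _)
    rw [Category.comp_id] at h4
    exact h4
  have h6 : St k E := (K619.PullIso.st_pull_iff (k := k) (K619.Adm.ι0 k X) i5 (isFinLocFree_of_rank hE.1)).1 h5
  have h7 : ModFun.IsSlopeStable k (PicF.XT (st k X) (T0 k)) E r := (st_iff hE.1).1 h6
  refine ⟨k, inferInstance, inferInstance, 𝟙 (B0 k), trivial, E, ⟨trivial, hE⟩, ⟨⟨r, hE.1, h7⟩, fun hsub => hne ?_⟩,
    IsLocalRing.closedPoint k, rfl⟩
  obtain ⟨e⟩ := K619.Adm.nonempty_ip_tw (T0 k) (𝟙 _) (Category.comp_id _) E N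
  have h8 := subsingleton_pull (K619.Adm.ι0 k X) _ hsub
  exact @Equiv.subsingleton _ _ (Groth.Agent.VarietyA.EulerLES.equivA k e.symm 0).toEquiv h8

end K670.Jmp
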