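import Groth.Agent.Krr.H487.LocBasisPull

/-!
# Maps to the direct image along a morphism into a chart with a local basis

`j : Z ⟶ Y`, `M` a module on `Y` with a local basis `b` over `U`, `⊤ ≤ j⁻¹ U`.  Maps `M ⟶ j_* N` are vectors
`a` of sections of `N` (`val`); such a map with `N = O` is an epimorphism if `j` is a closed immersion and the
vector is unimodular.
-/

set_option autoImplicit false
universe u

open CategoryTheory CategoryTheory.Limits AlgebraicGeometry TopologicalSpace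

namespace K670.MapTo

open Groth.Agent.Sga67.Sec Groth.Agent.Sga67.LocBasis Groth.Agent.Krr.H487.LocBasisPull

theorem exists_hom_top {Z : Scheme.{u}} {M N : Z.Modules} {n : ℕ} {b : Fin n → Sec M ⊤} (hb : IsLocBasis b)
    (a : Fin n → Sec N ⊤) : ∃ f : M ⟶ N, ∀ i, appS f ⊤ (b i) = a i := by
  let f : FlatMod.freeMod Z n ⟶ M := Sigma.desc (fun i => homUnit M (b i))
  have hf : ∀ i, Sigma.ι (fun _ : Fin n => Coh.structureModule Z) i ≫ f = homUnit M (b i) := by
    intro i; simp [f]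
  have hfb : ∀ V (a : Fin n → Γ(Z, V)),
      appS f V (comb (freeBasis Z n) (le_top : V ≤ ⊤) a) = comb b (le_top : V ≤ ⊤) a := by
    intro V a
    rw [comb_apply, comb_apply, map_sum]
    refine Finset.sum_congr rfl fun i _ => ?_
    rw [map_smul, freeBasis, appS_res, ← appS_comp, hf, homUnit_one, res_res]
  have : IsIso f := isIso_of_bijective f (by
    intro x U hx
    refine ⟨U, le_rfl, hx, ?_⟩
    constructor
    · intro s t hst
      obtain ⟨a, rfl⟩ := (free_isLocBasis Z n U le_top).2 s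
      obtain ⟨a', rfl⟩ := (free_isLocBasis Z n U le_top).2 t
      rw [hfb, hfb] at hst
      rw [(hb U le_top).1 hst]
    · intro s
      obtain ⟨a, rfl⟩ := (hb U le_top).2 s
      exact ⟨_, hfb U a⟩)
  let g : FlatMod.freeMod Z n ⟶ N := Sigma.desc (fun i => homUnit N (a i))
  have hg : ∀ i, Sigma.ι (fun _ : Fin n => Coh.structureModule Z) i ≫ g = homUnit N (a i) := by
    intro i; simp [g]
  refine ⟨inv f ≫ g, fun i => ?_⟩
  have h1 : b i = appS f ⊤ (freeBasis Z n i) := by
    rw [freeBasis, ← appS_comp, hf, homUnit_one, res_self]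
  rw [h1, appS_comp, ← appS_comp f (inv f), IsIso.hom_inv_id, appS_id, freeBasis, ← appS_comp, hg, homUnit_one,
    res_self]

theorem hom_ext_top {Z : Scheme.{u}} {M N : Z.Modules} {n : ℕ} {b : Fin n → Sec M ⊤} (hb : IsLocBasis b)
    {f g : M ⟶ N} (h : ∀ i, appS f ⊤ (b i) = appS g ⊤ (b i)) : f = g := by
  apply hom_ext
  intro V s
  obtain ⟨c, rfl⟩ := (hb V le_top).2 s
  rw [comb_apply, map_sum, map_sum]
  refine Finset.sum_congr rfl fun i _ => ?_
  rw [map_smul, map_smul, appS_res, appS_res, h]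

/-- Modules with global bases. -/
theorem exists_iso_top {Z : Scheme.{u}} {M N : Z.Modules} {n : ℕ} {b : Fin n → Sec M ⊤} (hb : IsLocBasis b)
    {b' : Fin n → Sec N ⊤} (hb' : IsLocBasis b') : ∃ e : M ≅ N, ∀ i, appS e.hom ⊤ (b i) = b' i := by
  obtain ⟨f, hf⟩ := exists_hom_top hb b'
  obtain ⟨g, hg⟩ := exists_hom_top hb' b
  refine ⟨⟨f, g, hom_ext_top hb fun i => ?_, hom_ext_top hb' fun i => ?_⟩, hf⟩
  · rw [appS_comp, hf, hg, appS_id]
  · rw [appS_comp, hg, hf, appS_id]

section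

variable {Y Z : Scheme.{u}} (j : Z ⟶ Y) {M : Y.Modules} {N : Z.Modules} {U : Y.Opens} {n : ℕ}
  {b : Fin n → Sec M U} (hU : ⊤ ≤ j ⁻¹ᵁ U)

/-- A section over `V` of `j_* N` as a section of `N`. -/
def ofPush {V : Y.Opens} : Sec ((Scheme.Modules.pushforward j).obj N) V →+ Sec N (j ⁻¹ᵁ V) where
  toFun s := s
  map_zero' := rfl
  map_add' _ _ := rfl

/-- The vector of a map `M ⟶ j_* N`. -/
noncomputable def val (b : Fin n → Sec M U) (φ : M ⟶ (Scheme.Modules.pushforward j).obj N) (i : Fin n) :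
    Sec N ⊤ := res N hU (ofPush j (appS φ U (b i)))

theorem val_eq (φ : M ⟶ (Scheme.Modules.pushforward j).obj N) (i : Fin n) :
    val j hU b φ i = appS (adj j φ) ⊤ (res _ hU (pbS j M (b i))) := by
  rw [appS_res, adj_pbS]
  rfl

variable (hb : IsLocBasis b)

include hb

theorem isLocBasis_top : IsLocBasis (fun i => res _ hU (pbS j M (b i))) :=
  (isLocBasis_pbS j hb).restrict hU

theorem exists_hom (a : Fin n → Sec N ⊤) : ∃ φ : M ⟶ (Scheme.Modules.pushforward j).obj N, ∀ i,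
    val j hU b φ i = a i := by
  obtain ⟨f, hf⟩ := exists_hom_top (isLocBasis_top j hU hb) a
  refine ⟨(Scheme.Modules.pullbackPushforwardAdjunction j).homEquiv M N f, fun i => ?_⟩
  rw [val_eq, adj, Equiv.symm_apply_apply, hf]

theorem hom_ext {φ ψ : M ⟶ (Scheme.Modules.pushforward j).obj N} (h : ∀ i, val j hU b φ i = val j hU b ψ i) :
    φ = ψ := by
  apply ((Scheme.Modules.pullbackPushforwardAdjunction j).homEquiv M N).symm.injective
  apply hom_ext_top (isLocBasis_top j hU hb)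
  intro i
  have := h i
  rwa [val_eq, val_eq] at this

end

section mp

variable {Y Z : Scheme.{u}} (j : Z ⟶ Y) {M : Y.Modules} {U : Y.Opens} {n : ℕ}
  {b : Fin n → Sec M U} (hU : ⊤ ≤ j ⁻¹ᵁ U) (hb : IsLocBasis b)

/-- The map `M ⟶ j_* O` with `b_i ↦ a_i`. -/
noncomputable def mp (a : Fin n → Γ(Z, ⊤)) : M ⟶ (Scheme.Modules.pushforward j).obj (Coh.structureModule Z) :=
  (exists_hom j hU hb (N := Coh.structureModule Z) a).choose

theorem toO_val_mp (a : Fin n → Γ(Z, ⊤)) (i : Fin n) : toO (val j hU b (mp j hU hb a) i) = a i :=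
  (exists_hom j hU hb (N := Coh.structureModule Z) a).choose_spec i

theorem eq_mp {φ : M ⟶ (Scheme.Modules.pushforward j).obj (Coh.structureModule Z)} {a : Fin n → Γ(Z, ⊤)}
    (h : ∀ i, toO (val j hU b φ i) = a i) : φ = mp j hU hb a :=
  hom_ext j hU hb fun i => (h i).trans (toO_val_mp j hU hb a i).symm

end mp

section epi

variable {Y Z : Scheme.{u}} (j : Z ⟶ Y) {M : Y.Modules} {U : Y.Opens} {n : ℕ}
  {b : Fin n → Sec M U} (hU : ⊤ ≤ j ⁻¹ᵁ U)

theorem ofPush_smul {N : Z.Modules} {V : Y.Opens} (c : Γ(Y, V))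
    (s : Sec ((Scheme.Modules.pushforward j).obj N) V) : ofPush j (c • s) = (j.app V c) • ofPush j s := rfl

theorem ofPush_res {N : Z.Modules} {V W : Y.Opens} (h : W ≤ V)
    (s : Sec ((Scheme.Modules.pushforward j).obj N) V) :
    ofPush j (res _ h s) = res N (show j ⁻¹ᵁ W ≤ j ⁻¹ᵁ V from Scheme.Hom.preimage_mono j h) (ofPush j s) := rfl

theorem ofPush_injective {N : Z.Modules} {V : Y.Opens} : Function.Injective
    (ofPush j : Sec ((Scheme.Modules.pushforward j).obj N) V →+ Sec N (j ⁻¹ᵁ V)) := fun _ _ h => h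

theorem epi_of_unimodular [IsClosedImmersion j]
    (φ : M ⟶ (Scheme.Modules.pushforward j).obj (Coh.structureModule Z))
    (c : Fin n → Γ(Z, ⊤)) (hc : ∑ i, c i * toO (val j hU b φ i) = 1) : Epi φ := by
  refine epi_of_locally_surjective φ fun V s y hy => ?_
  by_cases hyU : y ∈ U
  · obtain ⟨W, hWaff, hyW, hWle⟩ := Opens.isBasis_iff_nbhd.mp Y.isBasis_affineOpens
      (show y ∈ V ⊓ U from ⟨hy, hyU⟩)
    have hWV : W ≤ V := hWle.trans inf_le_left
    have hWU : W ≤ U := hWle.trans inf_le_right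
    choose c' hc' using fun i => j.app_surjective W hWaff (resO Z (le_top : j ⁻¹ᵁ W ≤ ⊤) (c i))
    obtain ⟨s', hs'⟩ := j.app_surjective W hWaff (toO (ofPush j (res _ hWV s)))
    refine ⟨W, hWV, hyW, ∑ i, (s' * c' i) • res M hWU (b i), ?_⟩
    apply ofPush_injective j
    have h1 : ∀ i, ofPush j (res _ hWU (appS φ U (b i))) =
        res _ (le_top : j ⁻¹ᵁ W ≤ ⊤) (val j hU b φ i) := fun i => by
      rw [ofPush_res, val, res_res]
    have h2 : ∀ i, ofPush j ((s' * c' i) • res _ hWU (appS φ U (b i))) =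
        (toO (ofPush j (res _ hWV s)) * resO Z (le_top : j ⁻¹ᵁ W ≤ ⊤) (c i * toO (val j hU b φ i))) •
          one Z (j ⁻¹ᵁ W) := fun i => by
      rw [ofPush_smul, map_mul, hs', hc', h1]
      conv_lhs => rw [← toO_smul_one (res _ (le_top : j ⁻¹ᵁ W ≤ ⊤) (val j hU b φ i)), ← mul_smul, toO_res]
      rw [map_mul, mul_assoc]
    rw [map_sum, map_sum]
    simp only [map_smul, appS_res, h2]
    rw [← Finset.sum_smul, ← Finset.mul_sum, ← map_sum, hc, map_one, mul_one, toO_smul_one]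
  · have hcl : IsClosed (Set.range j) := j.isClosedEmbedding.isClosed_range
    let W : Y.Opens := V ⊓ ⟨(Set.range j)ᶜ, hcl.isOpen_compl⟩
    have hW : j ⁻¹ᵁ W = ⊥ := by
      ext z
      simp only [W, Scheme.Hom.preimage_inf, Opens.coe_bot, Set.mem_empty_iff_false, iff_false]
      rintro ⟨-, h⟩
      exact h ⟨z, rfl⟩
    have hyW : y ∈ W := ⟨hy, fun ⟨z, hz⟩ => hyU (hz ▸ hU (Opens.mem_top z))⟩
    refine ⟨W, inf_le_left, hyW, 0, ?_⟩
    apply ofPush_injective j
    have : Subsingleton (Sec (Coh.structureModule Z) (j ⁻¹ᵁ W)) := by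
      rw [hW]
      exact inferInstanceAs (Subsingleton Γ(Z, ⊥))
    exact Subsingleton.elim _ _

end epi

end K670.MapTo
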