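import Groth.Agent.BunMod.K670.Chain

/-!
# Moving Hecke modifications
-/

set_option autoImplicit false
universe u

open CategoryTheory CategoryTheory.Limits AlgebraicGeometry TopologicalSpace

namespace K670.Move

open K140.BM Groth.Agent.Sga67.Sec Groth.Agent.Sga67.LocBasis Groth.Agent.Krr.H487.LocBasisPull MapTo BC Ev Pts Fam PtKer FamAff HkLoc HkGlob Chain
open K707.Base K707.Slope K707.Deg K707.Semi Groth.Agent.VarietyA.DegRank Module

variable {k : Type u} [Field k] {X : Scheme.{u}} [X.Over (Spec (CommRingCat.of k))]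

section mem

variable {U : X.Opens} (hU : IsAffineOpen U)

theorem mem_basicOpen (φ : Γ(X, U) →+* k) (f : Γ(X, U)) :
    ypt hU φ (IsLocalRing.closedPoint k) ∈ X.basicOpen f ↔ φ f ≠ 0 := by
  have h1 : (ypt hU φ).appLE U ⊤ (le_ypt hU φ) f = gm k (φ f) := ypt_appLE hU φ f
  have h2 : (IsLocalRing.closedPoint k : Spec (CommRingCat.of k)) ∈ (Spec (CommRingCat.of k)).basicOpen
      ((ypt hU φ).appLE U ⊤ (le_ypt hU φ) f) ↔ ypt hU φ (IsLocalRing.closedPoint k) ∈ X.basicOpen f := by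
    rw [Scheme.basicOpen_appLE]
    exact ⟨fun h => h.2, fun h => ⟨trivial, h⟩⟩
  rw [← h2, h1]
  constructor
  · intro h h0
    rw [h0, map_zero, Scheme.basicOpen_zero] at h
    exact h
  · intro h
    rw [Scheme.basicOpen_of_isUnit _ ((isUnit_iff_ne_zero.mpr h).map (gm k))]
    trivial

end mem

variable [IsIntegral X] [IsProper (X ↘ (Spec (CommRingCat.of k)))] [IsAlgClosed k]

/-- Coordinates of a functional. -/
theorem exists_coord {V : X.Modules} {U : X.Opens} (hU : IsAffineOpen U) {r : ℕ} {b : Fin r → Sec V U}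
    (hb : IsLocBasis b) {φ : Γ(X, U) →+* k} (l : V ⟶ sky (ypt hU φ)) :
    ∃ L : Fin r → k, l = mp (ypt hU φ) (le_ypt hU φ) hb fun i => gm k (L i) := by
  refine ⟨fun i => (gm k).symm (evl (ypt hU φ) (le_ypt hU φ) l (b i)), ?_⟩
  refine (eq_mp_evl (ypt hU φ) (le_ypt hU φ) l hb).trans ?_
  congr 1
  funext i
  rw [RingEquiv.apply_symm_apply]

theorem epi_of_ne {V : X.Modules} {r : ℕ} (hV : FlatMod.IsFinLocFreeOfRank r V)
    {x : Spec (CommRingCat.of k) ⟶ X} (hx : x ≫ (X ↘ Spec (CommRingCat.of k)) = 𝟙 _) (l : V ⟶ sky x)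
    {s : Sec V ⊤} (hs : appS l ⊤ s ≠ 0) : Epi l := by
  obtain ⟨W, -, hxW, b', hb'⟩ := K698.Basic.exists_basis hV
    (show x (IsLocalRing.closedPoint k) ∈ (⊤ : X.Opens) from trivial)
  obtain ⟨U, hU, hxU, hUW⟩ := Opens.isBasis_iff_nbhd.mp X.isBasis_affineOpens hxW
  have hb := hb'.restrict hUW
  have hxU' : ⊤ ≤ x ⁻¹ᵁ U := by
    intro w _
    change x w ∈ U
    rw [Subsingleton.elim w (IsLocalRing.closedPoint k)]
    exact hxU
  obtain ⟨φ, hφ, rfl⟩ := exists_ypt hU x hx hxU'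
  obtain ⟨L, rfl⟩ := exists_coord hU hb l
  refine epi_mp hU hb hφ ?_
  rintro rfl
  apply hs
  have h1 : mp (ypt hU φ) (le_ypt hU φ) hb (fun i => gm k ((0 : Fin r → k) i)) = 0 := by
    refine MapTo.hom_ext (ypt hU φ) (le_ypt hU φ) hb fun j => ?_
    refine (evl_mp (ypt hU φ) (le_ypt hU φ) hb _ j).trans ?_
    rw [Pi.zero_apply, map_zero, val, appS_zero, map_zero, map_zero]
    rfl
  rw [h1, appS_zero]

/-- Good modules from functionals. -/
theorem good_kernel (C : Crv k X) {V : X.Modules} {r : ℕ} {s : Sec V ⊤} (hV : VData k r V s)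
    {x : Spec (CommRingCat.of k) ⟶ X} (hx : x ≫ (X ↘ Spec (CommRingCat.of k)) = 𝟙 _) (l : V ⟶ sky x)
    (hs : appS l ⊤ s ≠ 0) (hst : St k (kernel l)) : Good k r (kernel l) := by
  have := epi_of_ne hV.rank hx l hs
  obtain ⟨h1, h2⟩ := kernel_facts x hx C hV.rank l
  refine ⟨h1, hst, by rw [h2, hV.euler]; rfl, SecH0.subsingleton_HH fun z => ?_⟩
  obtain ⟨t, ht⟩ := hV.gen (appS (kernel.ι l) ⊤ z)
  have h3 : appS l ⊤ (appS (kernel.ι l) ⊤ z) = 0 := by
    rw [← appS_comp, kernel.condition, appS_zero]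
  have h4 : evl x (show ⊤ ≤ x ⁻¹ᵁ ⊤ from le_rfl) l (((K140.BM.st k X).appTop t) • s) = 0 := by
    rw [← ht, evl_top_eq_zero_iff]
    exact h3
  rw [evl_smul] at h4
  have hdom : IsDomain Γ(Spec (CommRingCat.of k), ⊤) := MulEquiv.isDomain k (gm k).symm.toMulEquiv
  have h5 : x.appLE ⊤ ⊤ (show ⊤ ≤ x ⁻¹ᵁ ⊤ from le_rfl) ((K140.BM.st k X).appTop t) = t := by
    have h3 : x.appLE ⊤ ⊤ (show ⊤ ≤ x ⁻¹ᵁ ⊤ from le_rfl) = x.appTop := Scheme.Hom.appLE_eq_app ..
    rw [h3]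
    have h4 := congrArg Scheme.Hom.appTop hx
    rw [Scheme.Hom.comp_appTop, Scheme.Hom.id_appTop] at h4
    exact congr($h4 t)
  have h6 : t = 0 := by
    rw [h5] at h4
    refine (mul_eq_zero.mp h4).resolve_right ?_
    rw [evl_top_eq_zero_iff]
    exact hs
  rw [h6, map_zero, zero_smul] at ht
  have h7 : Function.Injective ((kernel.ι l).app ⊤) :=
    Groth.Agent.Ega1.QCohSpec.app_injective_of_mono (kernel.ι l) ⊤
  exact h7 (ht.trans (map_zero _).symm)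

/-- The points with a good functional contain a nonempty open set. -/
theorem exists_open_good (C : Crv k X) {V : X.Modules} {r : ℕ} {s : Sec V ⊤} (hV : VData k r V s)
    (hO : StOpen k X r) {y : Spec (CommRingCat.of k) ⟶ X} (hy : y ≫ (X ↘ Spec (CommRingCat.of k)) = 𝟙 _)
    (l : V ⟶ sky y) (hs : appS l ⊤ s ≠ 0) (hst : St k (kernel l)) :
    ∃ O : X.Opens, (O : Set X).Nonempty ∧ ∀ (x : Spec (CommRingCat.of k) ⟶ X)
      (_ : x ≫ (X ↘ Spec (CommRingCat.of k)) = 𝟙 _), x (IsLocalRing.closedPoint k) ∈ O →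
      ∃ l' : V ⟶ sky x, appS l' ⊤ s ≠ 0 ∧ St k (kernel l') := by
  obtain ⟨W, -, hyW, b', hb'⟩ := K698.Basic.exists_basis hV.rank
    (show y (IsLocalRing.closedPoint k) ∈ (⊤ : X.Opens) from trivial)
  obtain ⟨U, hU, hyU, hUW⟩ := Opens.isBasis_iff_nbhd.mp X.isBasis_affineOpens hyW
  have hb := hb'.restrict hUW
  have hpt : ∀ (x : Spec (CommRingCat.of k) ⟶ X) {U' : X.Opens}, x (IsLocalRing.closedPoint k) ∈ U' →
      ⊤ ≤ x ⁻¹ᵁ U' := by
    intro x U' hx w _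
    change x w ∈ U'
    rw [Subsingleton.elim w (IsLocalRing.closedPoint k)]
    exact hx
  obtain ⟨φ₁, hφ₁, rfl⟩ := exists_ypt hU y hy (hpt y hyU)
  obtain ⟨L, rfl⟩ := exists_coord hU hb l
  obtain ⟨c₀, hc₀⟩ := (hb U le_rfl).2 (res V (le_top : U ≤ ⊤) s)
  rw [comb_apply] at hc₀
  simp only [res_self] at hc₀
  have hval : ∀ (φ : Γ(X, U) →+* k), appS (mp (ypt hU φ) (le_ypt hU φ) hb fun i => gm k (L i)) ⊤ s ≠ 0 ↔
      ∑ i, L i * φ (c₀ i) ≠ 0 := fun φ => by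
    rw [ne_eq, ← evl_top_eq_zero_iff _ _ s (show ⊤ ≤ (ypt hU φ) ⁻¹ᵁ ⊤ from le_rfl),
      ← evl_res (ypt hU φ) _ _ (le_top : U ≤ ⊤) (le_ypt hU φ) s, ← hc₀]
    have h := evl_mp_comb hU hb φ L c₀
    rw [h, map_eq_zero_iff _ (gm k).injective]
  have hL : ∃ i, L i ≠ 0 := by
    by_contra h0
    push Not at h0
    refine ((hval φ₁).mp hs) (Finset.sum_eq_zero fun i _ => ?_)
    rw [h0 i, zero_mul]
  obtain ⟨i, hi⟩ := hL
  have hUne : Nonempty U := ⟨⟨_, hyU⟩⟩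
  have hdom : IsDomain Γ(X, U) := inferInstance
  let a : Fin r → Γ(X, U) := fun j => kap k hU (L j)
  have hunit : ∑ j, (Pi.single i (kap k hU (L i)⁻¹) : Fin r → Γ(X, U)) j * a j = 1 := by
    rw [Finset.sum_eq_single i]
    · rw [Pi.single_eq_same, ← map_mul, inv_mul_cancel₀ hi, map_one]
    · intro j _ hj
      rw [Pi.single_eq_of_ne hj, zero_mul]
    · intro h
      exact absurd (Finset.mem_univ i) h
  have ha : ∀ φ : Γ(X, U) →+* k, φ.comp (kap k hU) = RingHom.id k → (fun j => φ (a j)) = L := fun φ hφ => by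
    funext j
    exact congr($hφ (L j))
  obtain ⟨g, hg₁, hg⟩ := open_affine hU hb (RingHom.id Γ(X, U)) (kap_finiteType hU) C hV.rank hV.st hV.euler hO a _
    hunit φ₁ hφ₁ (by
      rw [ha φ₁ hφ₁]
      exact hst)
  let h : Γ(X, U) := ∑ j, a j * c₀ j
  have hh : ∀ φ : Γ(X, U) →+* k, φ.comp (kap k hU) = RingHom.id k → φ h = ∑ j, L j * φ (c₀ j) := fun φ hφ => by
    have h1 := ha φ hφ
    simp only [h, map_sum, map_mul]
    exact Finset.sum_congr rfl fun j _ => by rw [congrFun h1 j]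
  refine ⟨X.basicOpen (g * h), ⟨_, (mem_basicOpen hU φ₁ _).mpr ?_⟩, fun x hx hxO => ?_⟩
  · rw [map_mul]
    refine mul_ne_zero hg₁ ?_
    rw [hh φ₁ hφ₁]
    exact (hval φ₁).mp hs
  · have hxU : x (IsLocalRing.closedPoint k) ∈ U := X.basicOpen_le _ hxO
    obtain ⟨φ, hφ, rfl⟩ := exists_ypt hU x hx (hpt x hxU)
    rw [mem_basicOpen, map_mul] at hxO
    refine ⟨mp (ypt hU φ) (le_ypt hU φ) hb fun i => gm k (L i), (hval φ).mpr ?_, ?_⟩
    · rw [← hh φ hφ]
      exact right_ne_zero_of_mul hxO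
    · have h2 := hg φ hφ (left_ne_zero_of_mul hxO)
      rw [ha φ hφ] at h2
      exact h2

end K670.Move
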