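import Groth.Agent.BunMod.K670.Move

/-!
# Common Hecke modifications of two good modules
-/

set_option autoImplicit false
universe u

open CategoryTheory CategoryTheory.Limits AlgebraicGeometry TopologicalSpace

namespace K670.Move

open K140.BM Groth.Agent.Sga67.Sec Groth.Agent.Sga67.LocBasis Groth.Agent.Krr.H487.LocBasisPull MapTo BC Ev Pts Fam PtKer FamAff HkLoc HkGlob Chain
open K707.Base K707.Slope K707.Deg K707.Semi Groth.Agent.VarietyA.DegRank Module

variable {k : Type u} [Field k] {X : Scheme.{u}} [X.Over (Spec (CommRingCat.of k))]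

variable [IsIntegral X] [IsProper (X ↘ (Spec (CommRingCat.of k)))] [IsAlgClosed k]

/-- Openness of the good functionals at a fixed point. -/
theorem exists_poly_good (C : Crv k X) {V : X.Modules} {r : ℕ} {s : Sec V ⊤} (hV : VData k r V s)
    (hO : StOpen k X r) {U : X.Opens} (hU : IsAffineOpen U) {b : Fin r → Sec V U} (hb : IsLocBasis b)
    {φ₀ : Γ(X, U) →+* k} (hφ₀ : φ₀.comp (kap k hU) = RingHom.id k)
    (l : V ⟶ sky (ypt hU φ₀)) (hs : appS l ⊤ s ≠ 0) (hst : St k (kernel l)) :
    ∃ Q : MvPolynomial (Fin r) k, Q ≠ 0 ∧ ∀ L : Fin r → k, MvPolynomial.eval L Q ≠ 0 →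
      appS (mp (ypt hU φ₀) (le_ypt hU φ₀) hb fun i => gm k (L i)) ⊤ s ≠ 0 ∧
      St k (kernel (mp (ypt hU φ₀) (le_ypt hU φ₀) hb fun i => gm k (L i))) := by
  obtain ⟨L₀, rfl⟩ := exists_coord hU hb l
  obtain ⟨c₀, hc₀⟩ := (hb U le_rfl).2 (res V (le_top : U ≤ ⊤) s)
  rw [comb_apply] at hc₀
  simp only [res_self] at hc₀
  have hval : ∀ (L : Fin r → k), appS (mp (ypt hU φ₀) (le_ypt hU φ₀) hb fun i => gm k (L i)) ⊤ s ≠ 0 ↔
      ∑ i, L i * φ₀ (c₀ i) ≠ 0 := fun L => by
    rw [ne_eq, ← evl_top_eq_zero_iff _ _ s (show ⊤ ≤ (ypt hU φ₀) ⁻¹ᵁ ⊤ from le_rfl),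
      ← evl_res (ypt hU φ₀) _ _ (le_top : U ≤ ⊤) (le_ypt hU φ₀) s, ← hc₀]
    have h := evl_mp_comb hU hb φ₀ L c₀
    rw [h, map_eq_zero_iff _ (gm k).injective]
  have hL : ∃ i, L₀ i ≠ 0 := by
    by_contra h0
    push Not at h0
    refine ((hval L₀).mp hs) (Finset.sum_eq_zero fun i _ => ?_)
    rw [h0 i, zero_mul]
  obtain ⟨i, hi⟩ := hL
  let P := MvPolynomial (Fin r) k
  let R := Localization.Away (MvPolynomial.X i : P)
  have hXi : (MvPolynomial.X i : P) ≠ 0 := MvPolynomial.X_ne_zero i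
  have hle : Submonoid.powers (MvPolynomial.X i : P) ≤ nonZeroDivisors P :=
    powers_le_nonZeroDivisors_of_noZeroDivisors hXi
  have hdomR : IsDomain R := IsLocalization.isDomain_localization hle
  let ψ : Γ(X, U) →+* R := (algebraMap P R).comp (MvPolynomial.C.comp φ₀)
  have hψ : ψ.comp (kap k hU) = (algebraMap P R).comp MvPolynomial.C := by
    have : ψ.comp (kap k hU) = (algebraMap P R).comp (MvPolynomial.C.comp (φ₀.comp (kap k hU))) := rfl
    rw [this, hφ₀, RingHom.comp_id]
  have hfin : (ψ.comp (kap k hU)).FiniteType := by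
    rw [hψ]
    have h0 : Algebra.FiniteType P R := IsLocalization.finiteType_of_monoid_fg
      (Submonoid.powers (MvPolynomial.X i : P)) R
    have h1 : (algebraMap P R).FiniteType := RingHom.finiteType_algebraMap.mpr h0
    have h2 : (MvPolynomial.C : k →+* P).FiniteType :=
      RingHom.finiteType_algebraMap (A := k) (B := P) |>.mpr inferInstance
    exact h1.comp h2
  let a : Fin r → R := fun j => algebraMap P R (MvPolynomial.X j)
  have hunit : ∑ j, (Pi.single i (IsLocalization.Away.invSelf (MvPolynomial.X i : P)) : Fin r → R) j * a j = 1 := by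
    rw [Finset.sum_eq_single i]
    · rw [Pi.single_eq_same, mul_comm]
      exact IsLocalization.Away.mul_invSelf _
    · intro j _ hj
      rw [Pi.single_eq_of_ne hj, zero_mul]
    · intro h
      exact absurd (Finset.mem_univ i) h
  -- points
  have hpt : ∀ L : Fin r → k, L i ≠ 0 → ∃ q : R →+* k, (∀ z, q (algebraMap P R z) = MvPolynomial.eval L z) ∧
      q.comp ψ = φ₀ ∧ (fun j => q (a j)) = L := by
    intro L hLi
    have hev : IsUnit (MvPolynomial.eval L (MvPolynomial.X i)) := by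
      rw [MvPolynomial.eval_X]
      exact isUnit_iff_ne_zero.mpr hLi
    let q : R →+* k := IsLocalization.Away.lift (MvPolynomial.X i : P) hev
    have hq : ∀ z, q (algebraMap P R z) = MvPolynomial.eval L z := fun z => IsLocalization.Away.lift_eq _ hev z
    refine ⟨q, hq, ?_, ?_⟩
    · ext z
      change q (algebraMap P R (MvPolynomial.C (φ₀ z))) = _
      rw [hq, MvPolynomial.eval_C]
    · funext j
      change q (algebraMap P R (MvPolynomial.X j)) = _
      rw [hq, MvPolynomial.eval_X]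
  obtain ⟨q₀, hq₀, hq₀ψ, hq₀a⟩ := hpt L₀ hi
  have hk : ∀ q : R →+* k, q.comp ψ = φ₀ → q.comp (ψ.comp (kap k hU)) = RingHom.id k := fun q hq => by
    rw [← RingHom.comp_assoc, hq, hφ₀]
  obtain ⟨g, hg₀, hg⟩ := open_affine hU hb ψ hfin C hV.rank hV.st hV.euler hO a _
    hunit q₀ (hk q₀ hq₀ψ) (by
      rw [hq₀ψ, hq₀a]
      exact hst)
  obtain ⟨n, Q, hQ⟩ := IsLocalization.Away.surj (MvPolynomial.X i : P) g
  let h : P := ∑ j, MvPolynomial.C (φ₀ (c₀ j)) * MvPolynomial.X j
  have hh : ∀ L, MvPolynomial.eval L h = ∑ j, L j * φ₀ (c₀ j) := fun L => by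
    simp only [h, map_sum, map_mul, MvPolynomial.eval_C, MvPolynomial.eval_X]
    exact Finset.sum_congr rfl fun j _ => mul_comm _ _
  refine ⟨Q * MvPolynomial.X i * h, ?_, fun L hLQ => ?_⟩
  · intro h0
    have h1 := congrArg (MvPolynomial.eval L₀) h0
    rw [map_mul, map_mul, MvPolynomial.eval_X, hh, map_zero] at h1
    have h2 := congrArg q₀ hQ
    rw [map_mul, hq₀, map_pow, hq₀, MvPolynomial.eval_X] at h2
    rw [← h2] at h1
    exact mul_ne_zero (mul_ne_zero (mul_ne_zero hg₀ (pow_ne_zero n hi)) hi) ((hval L₀).mp hs) h1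
  · rw [map_mul, map_mul, MvPolynomial.eval_X, hh] at hLQ
    have hLi : L i ≠ 0 := right_ne_zero_of_mul (left_ne_zero_of_mul hLQ)
    refine ⟨(hval L).mpr (right_ne_zero_of_mul hLQ), ?_⟩
    obtain ⟨q, hq, hqψ, hqa⟩ := hpt L hLi
    have h2 := congrArg q hQ
    rw [map_mul, hq, map_pow, hq, MvPolynomial.eval_X] at h2
    have h3 : q g ≠ 0 := by
      intro h4
      rw [h4, zero_mul] at h2
      exact left_ne_zero_of_mul (left_ne_zero_of_mul hLQ) h2.symm
    have h4 := hg q (hk q hqψ) h3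
    rw [hqψ, hqa] at h4
    exact h4

/-- A monomorphism of modules of the same rank is an isomorphism over a nonempty open set. -/
theorem exists_open_bij {r : ℕ} {V W : X.Modules} (hV : FlatMod.IsFinLocFreeOfRank r V)
    (hW : FlatMod.IsFinLocFreeOfRank r W) (j : V ⟶ W) [Mono j] :
    ∃ O : X.Opens, (O : Set X).Nonempty ∧ ∀ U : X.Opens, U ≤ O → Function.Bijective (appS j U) := by
  have hx : genericPoint X ∈ (⊤ : X.Opens) := trivial
  obtain ⟨U₁, hU₁, hx₁, bV, hbV⟩ := K698.Basic.exists_basis hV hx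
  obtain ⟨U₂, hU₂, hx₂, bW, hbW⟩ := K698.Basic.exists_basis hW hx₁
  have hbV' := hbV.restrict hU₂
  set v : Fin r → Sec V U₂ := fun a => res V hU₂ (bV a) with hv
  have hP := fun a => (hbW U₂ le_rfl).2 (appS j U₂ (v a))
  choose P' hP' using hP
  let P : Matrix (Fin r) (Fin r) Γ(X, U₂) := fun a b => P' b a
  have hPe : ∀ b, appS j U₂ (v b) = ∑ a, P a b • bW a := fun b => by
    rw [← hP' b, comb_apply]
    simp only [res_self]
    rfl
  have hinj : ∀ U : X.Opens, Function.Injective (appS j U) := fun U =>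
    Groth.Agent.Ega1.QCohSpec.app_injective_of_mono j U
  have hne₂ : Nonempty U₂ := ⟨⟨_, hx₂⟩⟩
  have hdom : IsDomain Γ(X, U₂) := inferInstance
  -- the matrix over smaller open sets
  have hcomb : ∀ (U : X.Opens) (hU : U ≤ U₂) (c : Fin r → Γ(X, U)), appS j U (comb v hU c) =
      comb bW hU ((P.map (resO X hU)).mulVec c) := fun U hU c => by
    have h1 : ∀ b, appS j U (res V hU (v b)) = ∑ a, (resO X hU (P a b)) • res W hU (bW a) := fun b => by
      rw [appS_res, hPe, map_sum]
      simp only [res_smul]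
    rw [comb_apply, comb_apply, map_sum]
    simp only [map_smul, h1, Matrix.mulVec, dotProduct, Finset.sum_smul, Finset.smul_sum, Matrix.map_apply]
    rw [Finset.sum_comm]
    refine Finset.sum_congr rfl fun a _ => Finset.sum_congr rfl fun b _ => ?_
    rw [← mul_smul, mul_comm]
  have hdet : P.det ≠ 0 := by
    intro h0
    obtain ⟨c, hc, hPc⟩ := Matrix.exists_mulVec_eq_zero_iff.mpr h0
    apply hc
    have h1 := hcomb U₂ le_rfl c
    have h2 : (P.map (resO X (le_refl U₂))) = P := by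
      ext a b
      exact resO_self le_rfl _
    rw [h2, hPc, map_zero] at h1
    have h3 := hinj U₂ (h1.trans (map_zero _).symm)
    exact (hbV' U₂ le_rfl).1 (h3.trans (map_zero _).symm)
  refine ⟨X.basicOpen P.det, ?_, fun U hU => ⟨hinj U, fun t => ?_⟩⟩
  · rw [Set.nonempty_iff_ne_empty]
    intro h0
    apply hdet
    rw [← basicOpen_eq_bot_iff]
    exact Opens.ext h0
  · have hU₂' : U ≤ U₂ := hU.trans (X.basicOpen_le _)
    have hunit : IsUnit (P.map (resO X hU₂')).det := by
      have h1 : (P.map (resO X hU₂')).det = resO X hU₂' P.det := by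
        rw [RingHom.map_det]
        rfl
      rw [h1]
      have h2 := (RingedSpace.isUnit_res_basicOpen X.toRingedSpace P.det).map
        (resO X hU)
      have h3 : resO X hU (resO X (X.basicOpen_le P.det) P.det) = resO X hU₂' P.det := resO_resO _ _ _
      rw [← h3]
      exact h2
    have hPu : IsUnit (P.map (resO X hU₂')) := (Matrix.isUnit_iff_isUnit_det _).mpr hunit
    obtain ⟨c, rfl⟩ := (hbW U hU₂').2 t
    obtain ⟨c', hc'⟩ := (Matrix.mulVec_surjective_iff_isUnit.mpr hPu) c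
    exact ⟨comb v hU₂' c', by rw [hcomb, hc']⟩

end K670.Move
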