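import Groth.Agent.BunMod.K670.Jmp
import Groth.Agent.BunMod.K356.FamForm
import Groth.Agent.BunMod.K319.SumFam

/-!
# Homomorphisms from the theta ideal to the structure sheaf are constant multiples of the inclusion
-/

set_option autoImplicit false
universe u

open CategoryTheory CategoryTheory.Limits AlgebraicGeometry TopologicalSpace

namespace K670.One

open K140.BM Pts Fam Sca Const K54.Theta FamAff Rho Chain Jmp
open Groth.Agent.ASBun.K791.Tens
open Groth.Agent.LoccohB.HHmap (smulHom)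
open Groth.Agent.VarietyA.DegRank K707.Base K707.Deg K707.Slope K707.Semi K325.GeomFib K325.StabFib

/-- A proper integral scheme over an algebraically closed field only has constant functions. -/
theorem exists_const (K : Type u) [Field K] [IsAlgClosed K] {X : Scheme.{u}} (f : X ⟶ Spec (CommRingCat.of K))
    [IsProper f] [IsIntegral X] (r : Γ(X, ⊤)) : ∃ c : K, r = f.appTop (gm K c) := by
  let F : K →+* Γ(X, ⊤) := ((Scheme.ΓSpecIso (CommRingCat.of K)).inv ≫ f.appTop).hom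
  have hint : F.IsIntegral := by
    have h1 := RingHom.isIntegral_respectsIso.2 (e := (Scheme.ΓSpecIso (CommRingCat.of K)).symm.commRingCatIsoToRingEquiv)
      (f := f.appTop.hom) (isIntegral_appTop_of_universallyClosed f)
    exact h1
  have hdom : IsDomain Γ(X, ⊤) := inferInstance
  let alg : Algebra K Γ(X, ⊤) := F.toAlgebra
  have : Algebra.IsIntegral K Γ(X, ⊤) := ⟨hint⟩
  obtain ⟨c, hc⟩ := (IsAlgClosed.algebraMap_bijective_of_isIntegral (k := K) (K := Γ(X, ⊤))).2 r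
  exact ⟨c, hc.symm⟩

/-- Nonempty open subsets have rational points. -/
theorem exists_kpt {k : Type u} [Field k] [IsAlgClosed k] {Z : Over (B0 k)} [IsIntegral Z.left]
    [LocallyOfFiniteType Z.hom] {W : Z.left.Opens} (hW : (W : Set Z.left).Nonempty) :
    ∃ z : Spec (CommRingCat.of k) ⟶ Z.left, z ≫ Z.hom = 𝟙 _ ∧ ⊤ ≤ z ⁻¹ᵁ W := by
  by_contra hno
  push Not at hno
  obtain ⟨x, hx⟩ := id hW
  have hne : Nonempty W := ⟨⟨x, hx⟩⟩
  have h1 : (1 : Γ(Z.left, W)) = 0 := eq_zero_of_points (k := k) (le_refl W) hW 1 fun z hz h _ => absurd h (hno z hz)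
  exact one_ne_zero h1

theorem nonempty_Vo {M : Scheme.{u}} [IsIntegral M] {I : M.IdealSheafData} (h : BlowUp.IsEffCartierIdeal I) :
    (Vo I : Set M).Nonempty := by
  obtain ⟨x⟩ := (inferInstance : Nonempty M)
  obtain ⟨U, hxU, f, hf, hI⟩ := h x
  have hne : Nonempty U.1 := ⟨⟨x, hxU⟩⟩
  by_contra hemp
  rw [Set.not_nonempty_iff_eq_empty] at hemp
  have h1 : M.basicOpen f = ⊥ := by
    rw [eq_bot_iff]
    intro y hy
    have hyU : y ∈ U.1 := M.basicOpen_le f hy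
    have h2 : y ∈ I.support := by
      by_contra h3
      have : y ∈ (Vo I : Set M) := h3
      rw [hemp] at this
      exact this
    rw [Scheme.IdealSheafData.mem_support_iff_of_mem hyU, hI] at h2
    exact ((Scheme.mem_zeroLocus_iff _ _ _).mp h2 f (Ideal.subset_span rfl) hy).elim
  have h2 : f = 0 := (basicOpen_eq_bot_iff f).mp h1
  exact nonZeroDivisors.ne_zero hf h2

variable {k : Type u} [Field k] {X : Scheme.{u}} [X.Over (Spec (CommRingCat.of k))]

/-- The ideal of the theta locus. -/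
noncomputable abbrev vI {r : ℕ} {M : Over (B0 k)} (φ : (BunMod.USS (st k X) r 0).Hom ⊤ M) (N : X.Modules) :
    M.left.IdealSheafData :=
  Scheme.IdealSheafData.vanishingIdeal ⟨BunMod.thetaLocus (st k X) (BunMod.ussOK (st k X) r 0) φ N, isClosed_closure⟩

theorem mem_support_vI {r : ℕ} {M : Over (B0 k)} (φ : (BunMod.USS (st k X) r 0).Hom ⊤ M) (N : X.Modules) (m : M.left) :
    m ∈ (vI φ N).support ↔ m ∈ BunMod.thetaLocus (st k X) (BunMod.ussOK (st k X) r 0) φ N := by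
  change m ∈ ((vI φ N).support : Set M.left) ↔ _
  rw [Scheme.IdealSheafData.coe_support_vanishingIdeal]
  rfl

theorem le_Vo_of_empty {r : ℕ} {M : Over (B0 k)} (φ : (BunMod.USS (st k X) r 0).Hom ⊤ M) (N : X.Modules)
    (h : BunMod.jumpLocus (st k X) (BunMod.ussOK (st k X) r 0) φ N = ∅) : Vo (vI φ N) = ⊤ := by
  rw [eq_top_iff]
  intro m _ hm
  have h1 : m ∈ BunMod.thetaLocus (st k X) (BunMod.ussOK (st k X) r 0) φ N := (mem_support_vI φ N m).mp hm
  rw [BunMod.thetaLocus, h, closure_empty] at h1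
  exact h1

variable [IsAlgClosed k] [IsProper (X ↘ Spec (CommRingCat.of k))] [Smooth (X ↘ Spec (CommRingCat.of k))]
  [GeometricallyConnected (X ↘ Spec (CommRingCat.of k))]

section main

variable (hdim : topologicalKrullDim X = 1) {r : ℕ} (A : AtlasC k X (BunMod.ussOK (st k X) r 0))
  (φ : (BunMod.USS (st k X) r 0).Hom ⊤ A.M)

omit [IsAlgClosed k] in
include hdim in
/-- If no fibre of the universal family is stable then there is no jump locus. -/
theorem jump_empty (N : X.Modules) (h : ∀ (Ω : Type u) [Field Ω] [IsAlgClosed Ω] (t : Spec (CommRingCat.of Ω) ⟶ A.Z.left),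
      ¬ StAt r A.E t) : BunMod.jumpLocus (st k X) (BunMod.ussOK (st k X) r 0) φ N = ∅ := by
  rw [Set.eq_empty_iff_forall_notMem]
  rintro m ⟨Ω, _, _, t, -, F, hF, ⟨⟨n, hn, hst⟩, -⟩, -⟩
  obtain ⟨c, ⟨e⟩⟩ := K562.Jump.exists_point A t F hF.2
  have key : ∀ (t : Spec (CommRingCat.of Ω) ⟶ B0 k) (F : (PicF.XT (st k X) (Over.mk t)).Modules)
      (n : ℕ) (_ : FlatMod.IsFinLocFreeOfRank n F)
      (_ : letI : (PicF.XT (st k X) (Over.mk t)).Over (Spec (CommRingCat.of Ω)) := ⟨PicF.XTproj (st k X) (Over.mk t)⟩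
        ModFun.IsSlopeStable Ω (PicF.XT (st k X) (Over.mk t)) F n)
      (z : Spec (CommRingCat.of Ω) ⟶ A.Z.left) (hz : z ≫ A.Z.hom = t)
      (_ : pl k X (Over.homMk z hz : Over.mk t ⟶ A.Z) A.E ≅ F), False := by
    intro t F n hn hst z hz e
    subst hz
    apply h Ω z
    let _ : (PicF.XT (st k X) (Over.mk (z ≫ A.Z.hom))).Over (Spec (CommRingCat.of Ω)) :=
      ⟨PicF.XTproj (st k X) (Over.mk (z ≫ A.Z.hom))⟩
    obtain ⟨h1, h2, h3⟩ := nc (X := X) hdim A.Z z
    have : IsProper (PicF.XT (st k X) (Over.mk (z ≫ A.Z.hom)) ↘ Spec (CommRingCat.of Ω)) := h2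
    have h4 : FlatMod.IsFinLocFreeOfRank r (pl k X (Over.homMk z rfl : Over.mk (z ≫ A.Z.hom) ⟶ A.Z) A.E) :=
      Groth.Agent.PerfB.FibreConc.isFinLocFreeOfRank_pullback _ A.ok.1
    rw [StAt, ← st_iff h4]
    exact st_of_iso e.symm ((st_iff hn).2 hst)
  exact key t F n hn hst c.left (Over.w c) e

variable (hφ : ∀ (T : Over (B0 k)) (c : T ⟶ A.Z) (h : (BunMod.USS (st k X) r 0).ok T (pl k X c A.E)),
      φ.app T (pl k X c A.E) trivial h = c ≫ A.π)

include hφ in
/-- **The value of `R` at the image of a stable point.** -/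
theorem R_eq_rho [IsIntegral X] (hdim : topologicalKrullDim X = 1) {g : ℕ} (hg : Curv2.genus k X = g) {N L : X.Modules}
    (hN : PicF.IsInvertible N) (hNL : Nonempty (CohB1.tensorMod N L ≅ Coh.structureModule X))
    (hd : Curv2.deg k X N 1 = (g : ℤ) - 1) (s : ClSub.idealMod (vI φ N) ⟶ Coh.structureModule A.M.left)
    (z : Spec (CommRingCat.of k) ⟶ A.Z.left) (hz : z ≫ A.Z.hom = 𝟙 _) (hst : StAt r A.E z)
    (hV : ⊤ ≤ (z ≫ A.π.left) ⁻¹ᵁ (Vo (vI φ N))) :
    ∃ F : X.Modules, Good k r F ∧ R (vI φ N) s (z ≫ A.π.left) = rho φ (vI φ N) s L F := by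
  have hE : BunMod.ussOK (st k X) r 0 (T0 k) (pl k X (gp z hz) A.E) := K319.SumFam.ussOK_pull _ A.ok
  have happ : (φ.app (T0 k) (pl k X (gp z hz) A.E) trivial ⟨trivial, hE⟩).left = z ≫ A.π.left := by
    rw [hφ (T0 k) (gp z hz) ⟨trivial, hE⟩]
    rfl
  have h1 : St k ((Scheme.Modules.pullback (ip (X := X) A.Z z hz)).obj A.E) :=
    (K619.KPt.stAt_iff A.Z z hz A.ok.1 hdim).1 hst
  have hz' : ((𝟙 (Spec (CommRingCat.of k)) : _ ⟶ (T0 k).left) ≫ (gp z hz).left) ≫ A.Z.hom = 𝟙 _ := by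
    rw [Category.id_comp]
    exact hz
  obtain ⟨e⟩ := K619.KPt.nonempty_ip_pl (k := k) (X := X) (gp z hz) (𝟙 _) (Category.comp_id _) hz' A.E
  have h2 : St k ((Scheme.Modules.pullback (K619.Adm.ι0 k X)).obj (pl k X (gp z hz) A.E)) := by
    refine st_of_iso e.symm ?_
    have h3 : ip (X := X) A.Z ((𝟙 (Spec (CommRingCat.of k)) : _ ⟶ (T0 k).left) ≫ (gp z hz).left) hz' = ip A.Z z hz := by
      congr 1
    rw [h3]
    exact h1
  obtain ⟨h3, ⟨e'⟩⟩ := good_of_notMem hdim hg hN hNL hd φ hE h2 (by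
    rw [happ]
    intro hj
    have h4 := (mem_iff _ _).mp hV
    apply h4
    exact (mem_support_vI φ N _).mpr (subset_closure hj))
  have h5 := K319.SumFam.ussOK_of_iso e' hE
  exact ⟨_, h3, by rw [rho_eq φ (vI φ N) s L h5, ← app_congr φ e' hE h5, happ]⟩

include hφ in
/-- **Homomorphisms from the theta ideal to the structure sheaf are multiples of the inclusion.** -/
theorem exists_smul [IsIntegral A.Z.left] [IsIntegral A.M.left] (hdim : topologicalKrullDim X = 1) (hr : 2 ≤ r) {g : ℕ}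
    (hg : Curv2.genus k X = g) {N : X.Modules} (hN : PicF.IsInvertible N) (hd : Curv2.deg k X N 1 = (g : ℤ) - 1)
    (hI : (vI φ N).comap A.π.left = thetaIdeal k N A.Z A.E) (hC : BlowUp.IsEffCartierIdeal (vI φ N))
    (s : ClSub.idealMod (vI φ N) ⟶ Coh.structureModule A.M.left) :
    ∃ c : k, s = smulHom _ (A.M.hom.appTop (gm k c)) ≫ ClSub.idealModι (vI φ N) := by
  have hX : IsIntegral X := isIntegral_X k X hdim
  have C : Crv k X := Crv.of_smooth hdim
  obtain ⟨L, hL, hNL, ⟨ι⟩, hdL⟩ := K708.PtTwist.exists_inv C hN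
  have hdL' : Curv2.deg k X L 1 = 1 - (g : ℤ) := by
    rw [← K703.Stab.dg_of_inv hL, hdL, K703.Stab.dg_of_inv hN, hd]
    ring
  have hft := A.ft
  have hpr := A.prop
  have hρ : RhoP r (rho φ (vI φ N) s L) := rhoP φ (vI φ N) s L
    (fun e h => K319.SumFam.ussOK_of_iso e h) (fun g' _ h => K319.SumFam.ussOK_pull g' h) hdim.le ι
    (fun T _ _ _ F hF hp => K619.Adm.ussOK_tw hdim hg (by omega) hL hdL' T F hF hp)
    (fun T E hE => Groth.Agent.BunMod.K356.FamForm.fam_form A hdim.le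
      (K703.Basic.isFinLocFree_of_rank (K451.DetPic.rank_one_iff.2 hN))
      (fun T E h => K703.Basic.isFinLocFree_of_rank h.1) (fun g' _ h => K319.SumFam.ussOK_pull g' h) φ hφ
      (vI φ N) hI T E ⟨trivial, hE⟩)
  have hO : StOpen k X r := StO.stOpen X hdim (by omega)
  have hneV := nonempty_Vo hC
  have hdom : IsDominant A.π.left := ⟨A.surj.denseRange⟩
  have hn : IsLocallyNoetherian A.Z.left := LocallyOfFiniteType.isLocallyNoetherian A.Z.hom
  obtain ⟨U, hU⟩ := K325.StableOpen.exists_stableOpen hdim A.Z A.ok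
  by_cases hUe : (U : Set A.Z.left).Nonempty
  · -- there are stable bundles
    obtain ⟨m, hm⟩ := hneV
    obtain ⟨z₁, rfl⟩ := A.surj m
    have hne : ((A.π.left ⁻¹ᵁ (Vo (vI φ N)) ⊓ U : A.Z.left.Opens) : Set A.Z.left).Nonempty :=
      nonempty_preirreducible_inter (A.π.left ⁻¹ᵁ (Vo (vI φ N))).isOpen U.isOpen ⟨z₁, hm⟩ hUe
    have key : ∀ (z : Spec (CommRingCat.of k) ⟶ A.Z.left) (_ : z ≫ A.Z.hom = 𝟙 _),
        ⊤ ≤ z ⁻¹ᵁ (A.π.left ⁻¹ᵁ (Vo (vI φ N)) ⊓ U) →
        ∃ F : X.Modules, Good k r F ∧ R (vI φ N) s (z ≫ A.π.left) = rho φ (vI φ N) s L F := fun z hz hW =>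
      R_eq_rho A φ hφ hdim hg hN hNL hd s z hz ((hU k z).1 ((mem_iff z U).mp fun y hy => (hW hy).2))
        (fun y hy => (hW hy).1)
    obtain ⟨z₀, hz₀, hW₀⟩ := exists_kpt (k := k) hne
    obtain ⟨F₀, hF₀, h₀⟩ := key z₀ hz₀ hW₀
    refine ⟨R (vI φ N) s (z₀ ≫ A.π.left), eq_smul (vI φ N) s A.π hne ⟨_, hm⟩ _ fun z hz hzW _ => ?_⟩
    obtain ⟨F, hF, h1⟩ := key z hz hzW
    rw [h1, h₀]
    exact Conn.eq_of_good C hr hρ hO hF hF₀
  · have hno : ∀ (Ω : Type u) [Field Ω] [IsAlgClosed Ω] (t : Spec (CommRingCat.of Ω) ⟶ A.Z.left), ¬ StAt r A.E t := by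
      intro Ω _ _ t ht
      exact hUe ⟨_, (hU Ω t).2 ht⟩
    have hV := le_Vo_of_empty φ N (jump_empty hdim A φ N hno)
    obtain ⟨c, hc⟩ := exists_const k A.M.hom (Groth.Agent.CohqB.QC2.resR hV.ge (G0 (vI φ N) s))
    refine ⟨c, eq_smul_of_G0 _ s hneV _ ?_⟩
    rw [← hc, Groth.Agent.CohqB.QC2.resR_resR, Groth.Agent.CohqB.QC2.resR_rfl]

end main

end K670.One
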