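import Groth.Agent.BunMod.K670.Num
import Groth.Agent.BunMod.K670.Ev
import Groth.Agent.Krr.H463.SpecField
import Groth.Agent.Ega1.ClosedUnit
import Groth.Agent.VarietyB.HHPush
import Groth.Agent.CohqA.AffPush
import Groth.Agent.CurvesB.UnitCoh
import Groth.Agent.VarietyA.RegPoint

/-!
# Kernels of functionals `V ⟶ y_* k` at rational points of a curve
-/

set_option autoImplicit false
universe u

open CategoryTheory CategoryTheory.Limits AlgebraicGeometry TopologicalSpace

namespace K670.PtKer

open K707.Base K707.Slope K707.Deg K707.Semi Groth.Agent.VarietyA.DegRank Module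
  Groth.Agent.CycB.StalkExact

open Groth.Agent.Sga67.Sec Groth.Agent.Sga67.LocBasis MapTo Ev

variable {k : Type u} [Field k] {X : Scheme.{u}} [X.Over (Spec (CommRingCat.of k))]

/-- The skyscraper sheaf of a point. -/
noncomputable abbrev sky (y : Spec (CommRingCat.of k) ⟶ X) : X.Modules :=
  (Scheme.Modules.pushforward y).obj (Coh.structureModule (Spec (CommRingCat.of k)))

variable (y : Spec (CommRingCat.of k) ⟶ X) (hy : y ≫ (X ↘ Spec (CommRingCat.of k)) = 𝟙 _)

include hy in
theorem isClosedImmersion_pt [IsSeparated (X ↘ Spec (CommRingCat.of k))] : IsClosedImmersion y := by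
  have h : IsClosedImmersion (y ≫ (X ↘ Spec (CommRingCat.of k))) := by rw [hy]; infer_instance
  exact IsClosedImmersion.of_comp y (X ↘ Spec (CommRingCat.of k))

include hy in
theorem isCoh_sky [IsSeparated (X ↘ Spec (CommRingCat.of k))] : Coh.IsCoh (sky y) := by
  have := isClosedImmersion_pt y hy
  have h := Groth.Agent.CurvesB.UnitCoh.isCoh_structureModule (Spec (CommRingCat.of k))
  exact ⟨Groth.Agent.CohqA.AffPush.isQCoh_push y _ h.1, Groth.Agent.CohqA.AffPush.isFT_push y _ h.1 h.2⟩

include hy in
theorem euler_sky [IsSeparated (X ↘ Spec (CommRingCat.of k))] : Curv2.euler k X (sky y) = 1 := by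
  have := isClosedImmersion_pt y hy
  have h := Groth.Agent.CurvesB.UnitCoh.isCoh_structureModule (Spec (CommRingCat.of k))
  have h1 := Groth.Agent.VarietyB.HHPush.euler_push y k hy _ h.1
  rw [Groth.Agent.Krr.H463.SpecField.euler_eq, Groth.Agent.Krr.H463.SpecField.finrank_unit] at h1
  exact_mod_cast h1

variable [IsIntegral X] [IsProper (X ↘ (Spec (CommRingCat.of k)))]

include hy in
theorem subsingleton_sky (C : Crv k X) : Subsingleton ((sky y).presheaf.stalk (genericPoint X)) := by
  have := isClosedImmersion_pt y hy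
  refine Groth.Agent.Ega1.ClosedUnit.subsingleton_stalk_pushforward y y.isClosedEmbedding.isClosed_range _ _ ?_
  rintro ⟨z, hz⟩
  have h1 : IsClosed ({genericPoint X} : Set X) := by
    have h2 : Set.range y = {y z} := by
      ext w
      constructor
      · rintro ⟨z', rfl⟩
        rw [Subsingleton.elim z' z]
        rfl
      · rintro rfl
        exact ⟨z, rfl⟩
    rw [← hz, ← h2]
    exact y.isClosedEmbedding.isClosed_range
  exact Groth.Agent.VarietyA.RegPoint.ne_genericPoint_of_isClosed C.dim h1 rfl

include hy in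
theorem rk_sky (C : Crv k X) : rk (sky y) = 0 := rk_eq_zero_of_subsingleton (subsingleton_sky y hy C)

section ker

variable (C : Crv k X) {V : X.Modules} {r : ℕ} (hV : FlatMod.IsFinLocFreeOfRank r V) (l : V ⟶ sky y) [Epi l]

include hy C hV in
theorem kernel_facts : FlatMod.IsFinLocFreeOfRank r (kernel l) ∧
    Curv2.euler k X (kernel l) = Curv2.euler k X V - 1 := by
  have hVf := isFinLocFree_of_rank hV
  have hVc := coh_of_vb hVf
  have hc := isCoh_sky y hy
  have h1 : FlatMod.IsFinLocFree (kernel l) := vb_kernel C l hVf hc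
  have hS : (ShortComplex.mk (kernel.ι l) l (kernel.condition l)).ShortExact :=
    { exact := ShortComplex.exact_kernel _
      mono_f := inferInstanceAs (Mono (kernel.ι _))
      epi_g := inferInstance }
  have h2 := rk_add' k _ hS hVc
  have h3 := Groth.Agent.S1524.result k X _ hS (coh_of_vb h1) hVc hc
  simp only at h2 h3
  rw [rk_sky y hy C, add_zero, rk_of_rank hV] at h2
  rw [euler_sky y hy] at h3
  have h4 := isFinLocFreeOfRank_rk h1
  rw [← h2] at h4
  exact ⟨h4, by omega⟩

end ker

end K670.PtKer
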