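import Groth.Agent.BunMod.K54.Theta
import Groth.Agent.Fitt.K360.Basic

/-!
# The theta ideal of a family with cyclic `R¹p_*`
-/

set_option autoImplicit false
universe u

open CategoryTheory CategoryTheory.Limits AlgebraicGeometry TopologicalSpace

namespace K670.Th

open K140.BM

theorem fitt_cyclic {R : Type u} [CommRing R] {M : Type u} [AddCommGroup M] [Module R M] {h : R}
    (q : (R ⧸ Ideal.span {h}) ≃ₗ[R] M) : Fitt.ideal R M 0 = Ideal.span {h} := by
  let x : Fin 1 → M := fun _ => q (Ideal.Quotient.mk _ 1)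
  have hx : Submodule.span R (Set.range x) = ⊤ := by
    rw [eq_top_iff]
    rintro m -
    obtain ⟨t, rfl⟩ := q.surjective m
    obtain ⟨t, rfl⟩ := Ideal.Quotient.mk_surjective t
    have h1 : q (Ideal.Quotient.mk _ t) = t • x 0 := by
      change _ = t • q _
      rw [← map_smul]
      congr 1
      change _ = Ideal.Quotient.mk _ (t * 1)
      rw [mul_one]
    rw [h1]
    exact Submodule.smul_mem _ _ (Submodule.subset_span ⟨0, rfl⟩)
  have hr : ∀ c : R, c • x 0 = 0 ↔ c ∈ Ideal.span {h} := fun c => by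
    change c • q _ = 0 ↔ _
    rw [← map_smul, LinearEquiv.map_eq_zero_iff]
    change Ideal.Quotient.mk _ (c * 1) = 0 ↔ _
    rw [mul_one, Ideal.Quotient.eq_zero_iff_mem]
  rw [K360.FittBasic.ideal_eq_fit x hx 0]
  apply le_antisymm
  · rw [K360.FittBasic.fit, Ideal.span_le]
    rintro _ ⟨a, t, ht, ha, rfl⟩
    have h1 := ha 0 (by
      rw [Nat.le_zero, Finset.card_eq_zero] at ht
      rw [ht]
      exact Finset.notMem_empty _)
    rw [Fin.sum_univ_one, hr] at h1
    rw [Matrix.det_unique]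
    exact h1
  · rw [Ideal.span_le, Set.singleton_subset_iff]
    refine Ideal.subset_span ⟨fun _ _ => h, ∅, by simp, fun i _ => ?_, ?_⟩
    · rw [Fin.sum_univ_one]
      exact (hr h).mpr (Ideal.mem_span_singleton_self h)
    · rw [Matrix.det_unique]

variable {k : Type u} [Field k] {X : Scheme.{u}} [X.Over (Spec (CommRingCat.of k))]

open K54.Theta in
theorem thetaIdeal_ideal [IsProper (st k X)] (hdim : topologicalKrullDim X ≤ 1) {T : Over (B0 k)} [IsAffine T.left]
    {N : X.Modules} {E F : (PicF.XT (st k X) T).Modules} (hF : FlatMod.IsFinLocFree F)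
    (e : CohB1.tensorMod E (cst k T N) ≅ F) {h : Γ(T.left, ⊤)}
    (q : (Γ(T.left, ⊤) ⧸ Ideal.span {h}) ≃ₗ[Γ(T.left, ⊤)] Γ((Coh.Rpush (PicF.XTproj (st k X) T) 1).obj F, ⊤)) :
    (thetaIdeal k N T E).ideal ⟨⊤, isAffineOpen_top T.left⟩ = Ideal.span {h} := by
  have h1 := isFT_Rpush hdim hF
  have q1 : Coh.IsQCoh ((Coh.Rpush (PicF.XTproj (st k X) T) 1).obj F) :=
    Groth.Agent.CohqA.RelCoh.isQCoh_Rpush _ _ (Groth.Agent.PerfA.QCohEpi.isQCoh_of_isFinLocFree hF) 1
  let e' : (Coh.Rpush (PicF.XTproj (st k X) T) 1).obj (CohB1.tensorMod E (cst k T N)) ≅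
    (Coh.Rpush (PicF.XTproj (st k X) T) 1).obj F := (Coh.Rpush (PicF.XTproj (st k X) T) 1).mapIso e
  have q2 := Groth.Agent.PerfA.QCohSerre.isQCoh_of_iso e'.symm q1
  have h2 : CohB1.IsFT ((Coh.Rpush (PicF.XTproj (st k X) T) 1).obj (CohB1.tensorMod E (cst k T N))) :=
    Groth.Agent.SDiv.K474.FittBlow.isFT_iso e'.symm q1 q2 h1
  rw [thetaIdeal, Groth.Agent.SDiv.K474.FittBlow.sheafIdeal_iso e' q2 q1 h2 h1 0,
    Groth.Agent.SDiv.K474.FittSheaf.sheafIdeal_ideal _ q1 h1]
  exact fitt_cyclic q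

end K670.Th
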