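import Groth.Agent.BunMod.K670.Const
import Groth.Agent.BunMod.K670.Th
import Groth.Agent.BunMod.K670.FamAff
import Groth.Agent.BunMod.K140.Defs3

/-!
# The function on bundles defined by a homomorphism from the theta ideal

`M` with `φ` is a target of the problem cut out by `Q`; `I` an ideal of `M` with `I O_T = thetaIdeal k N T E` for all
admissible families; `s : idealMod I ⟶ O_M`; `N ⊗ N'' ≅ O`. `rho F` is the value of `s(1)` at the point of `M` defined
by `F ⊗ N''`; it satisfies `FamAff.RhoP`.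
-/

set_option autoImplicit false
universe u

open CategoryTheory CategoryTheory.Limits AlgebraicGeometry TopologicalSpace

namespace K670.Rho

open K140.BM Pts Fam Sca Const K54.Theta FamAff
open Groth.Agent.ASBun.K791.Tens
open K707.Semi

variable {k : Type u} [Field k] {X : Scheme.{u}} [X.Over (Spec (CommRingCat.of k))]

variable (k) in
/-- The point. -/
noncomputable abbrev T0 : Over (B0 k) := Over.mk (𝟙 (B0 k))

/-- A rational point as a morphism from the point. -/
noncomputable abbrev gp {T : Over (B0 k)} (p : Spec (CommRingCat.of k) ⟶ T.left) (hp : p ≫ T.hom = 𝟙 _) : T0 k ⟶ T :=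
  Over.homMk p hp

theorem fst_ip {T : Over (B0 k)} (p : Spec (CommRingCat.of k) ⟶ T.left) (hp : p ≫ T.hom = 𝟙 _) :
    pullback.fst (st k X) (T0 k).hom ≫ ip T p hp = PicF.XTmap (st k X) (gp p hp) := by
  apply pullback.hom_ext
  · have h1 : PicF.XTmap (st k X) (gp p hp) ≫ pullback.fst _ _ = pullback.fst _ _ := by
      refine (pullback.lift_fst _ _ _).trans ?_
      rw [Category.comp_id]
    rw [Category.assoc, h1, ip_fst, Category.comp_id]
  · have h2 : PicF.XTmap (st k X) (gp p hp) ≫ PicF.XTproj (st k X) T = PicF.XTproj (st k X) (T0 k) ≫ p :=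
      pullback.lift_snd _ _ _
    have h3 := ip_snd (X := X) T p hp
    change (pullback.fst (st k X) (T0 k).hom ≫ ip T p hp) ≫ PicF.XTproj (st k X) T =
      PicF.XTmap (st k X) (gp p hp) ≫ PicF.XTproj (st k X) T
    rw [h2]
    change (pullback.fst (st k X) (T0 k).hom ≫ ip T p hp) ≫ pullback.snd _ _ = _
    rw [Category.assoc, h3, ← Category.assoc]
    congr 1
    rw [pullback.condition]
    exact Category.comp_id _

/-- The fibre of a family as a constant family over the point. -/
noncomputable def cstIp {T : Over (B0 k)} (p : Spec (CommRingCat.of k) ⟶ T.left) (hp : p ≫ T.hom = 𝟙 _)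
    (F : (PicF.XT (st k X) T).Modules) :
    cst k (T0 k) ((Scheme.Modules.pullback (ip (X := X) T p hp)).obj F) ≅ pl k X (gp p hp) F :=
  (Scheme.Modules.pullbackComp (pullback.fst (st k X) (T0 k).hom) (ip T p hp)).app F ≪≫
    (Scheme.Modules.pullbackCongr (fst_ip p hp)).app F

/-- The same with a twist. -/
noncomputable def cstTw {T : Over (B0 k)} (p : Spec (CommRingCat.of k) ⟶ T.left) (hp : p ≫ T.hom = 𝟙 _)
    (F : (PicF.XT (st k X) T).Modules) (L : X.Modules) :
    cst k (T0 k) (CohB1.tensorMod ((Scheme.Modules.pullback (ip (X := X) T p hp)).obj F) L) ≅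
      pl k X (gp p hp) (tw F L) :=
  pullTens _ _ _ ≪≫ tensMap (cstIp p hp F) (Iso.refl _) ≪≫ (twPl (gp p hp) F L).symm

/-- Twisting back. -/
noncomputable def twTw {T : Over (B0 k)} (F : (PicF.XT (st k X) T).Modules) {L N : X.Modules}
    (e : CohB1.tensorMod L N ≅ Coh.structureModule X) : tw (tw F L) N ≅ F :=
  tensAssoc _ _ _ ≪≫ tensMap (Iso.refl F) ((pullTens _ _ _).symm ≪≫
    (Scheme.Modules.pullback (pullback.fst (st k X) T.hom)).mapIso e ≪≫ pullUnit _) ≪≫ tensRUnit F

/-- Isomorphic families are identified. -/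
theorem r_of_iso {T : Over (B0 k)} {E E' : (PicF.XT (st k X) T).Modules} (e : E ≅ E') :
    (ModFun.modProb (st k X)).r T E E' :=
  ⟨Coh.structureModule T.left, fun _ => ⟨⊤, trivial, ⟨(Scheme.Modules.restrictFunctorIsoPullback _).app _ ≪≫
    pullUnit _⟩⟩, ⟨e.symm ≪≫ (tensRUnit E).symm ≪≫ tensMap (Iso.refl E) (pullUnit _).symm⟩⟩

section main

variable {Q : ∀ T : Over (B0 k), (ModFun.modProb (st k X)).Fam T → Prop} {M : Over (B0 k)}
  (φ : ((ModFun.modProb (st k X)).restrict Q).Hom ⊤ M)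

theorem app_congr {T : Over (B0 k)} {E E' : (PicF.XT (st k X) T).Modules} (e : E ≅ E') (h : Q T E) (h' : Q T E') :
    φ.app T E trivial ⟨trivial, h⟩ = φ.app T E' trivial ⟨trivial, h'⟩ :=
  φ.resp E E' trivial ⟨trivial, h⟩ ⟨trivial, h'⟩ (r_of_iso e)

theorem app_pl {T T' : Over (B0 k)} (g : T' ⟶ T) {E : (PicF.XT (st k X) T).Modules}
    {E' : (PicF.XT (st k X) T').Modules} (e : E' ≅ pl k X g E) (h : Q T E) (h' : Q T' E')
    (h'' : Q T' (pl k X g E)) :
    φ.app T' E' trivial ⟨trivial, h'⟩ = g ≫ φ.app T E trivial ⟨trivial, h⟩ :=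
  (app_congr φ e h' h'').trans (φ.natural g E trivial trivial ⟨trivial, h⟩ ⟨trivial, h''⟩)

variable (I : M.left.IdealSheafData) (s : ClSub.idealMod I ⟶ Coh.structureModule M.left) (L : X.Modules)

open Classical in
/-- The function on bundles. -/
noncomputable def rho (F : X.Modules) : k :=
  if h : Q (T0 k) (cst k (T0 k) (CohB1.tensorMod F L)) then
    R I s (φ.app (T0 k) (cst k (T0 k) (CohB1.tensorMod F L)) trivial ⟨trivial, h⟩).left else 0

theorem rho_eq {F : X.Modules} (h : Q (T0 k) (cst k (T0 k) (CohB1.tensorMod F L))) :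
    rho φ I s L F = R I s (φ.app (T0 k) (cst k (T0 k) (CohB1.tensorMod F L)) trivial ⟨trivial, h⟩).left := dif_pos h

variable (hQi : ∀ {T : Over (B0 k)} {E E' : (PicF.XT (st k X) T).Modules}, (E ≅ E') → Q T E → Q T E')
  (hQp : ∀ {T T' : Over (B0 k)} (g : T' ⟶ T) {E : (PicF.XT (st k X) T).Modules}, Q T E → Q T' (pl k X g E))

include hQi in
theorem rho_iso {F F' : X.Modules} (e : F ≅ F') : rho φ I s L F = rho φ I s L F' := by
  have e' : cst k (T0 k) (CohB1.tensorMod F L) ≅ cst k (T0 k) (CohB1.tensorMod F' L) :=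
    (Scheme.Modules.pullback _).mapIso (tensMap e (Iso.refl _))
  by_cases h : Q (T0 k) (cst k (T0 k) (CohB1.tensorMod F L))
  · have h' := hQi e' h
    rw [rho_eq φ I s L h, rho_eq φ I s L h', app_congr φ e' h h']
  · have h' : ¬ Q (T0 k) (cst k (T0 k) (CohB1.tensorMod F' L)) := fun h' => h (hQi e'.symm h')
    rw [rho, dif_neg h, rho, dif_neg h']

include hQi hQp in
theorem rho_ip {T : Over (B0 k)} {F : (PicF.XT (st k X) T).Modules} (h : Q T (tw F L))
    (p : Spec (CommRingCat.of k) ⟶ T.left) (hp : p ≫ T.hom = 𝟙 _) :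
    rho φ I s L ((Scheme.Modules.pullback (ip (X := X) T p hp)).obj F) =
      R I s (p ≫ (φ.app T (tw F L) trivial ⟨trivial, h⟩).left) := by
  have h1 := hQp (gp p hp) h
  have h2 := hQi (cstTw p hp F L).symm h1
  rw [rho_eq φ I s L h2, app_pl φ (gp p hp) (cstTw p hp F L) h h2 h1]
  rfl

variable [IsIntegral X] [IsProper (st k X)] (hdim : topologicalKrullDim X ≤ 1) {N : X.Modules}
  (ι : CohB1.tensorMod L N ≅ Coh.structureModule X) {r : ℕ}
  (hadm : ∀ (T : Over (B0 k)) [IsAffine T.left] [IsIntegral T.left] [LocallyOfFiniteType T.hom]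
     (F : (PicF.XT (st k X) T).Modules), FlatMod.IsFinLocFreeOfRank r F →
     (∀ (p : Spec (CommRingCat.of k) ⟶ T.left) (hp : p ≫ T.hom = 𝟙 _),
       SS k ((Scheme.Modules.pullback (ip T p hp)).obj F) ∧
       Curv2.euler k X ((Scheme.Modules.pullback (ip T p hp)).obj F) = 0) → Q T (tw F L))
  (hfam : ∀ (T : Over (B0 k)) (E : (PicF.XT (st k X) T).Modules) (hE : Q T E),
    I.comap (φ.app T E trivial ⟨trivial, hE⟩).left = thetaIdeal k N T E)

include hQi hQp hdim ι hadm hfam in
theorem rhoP : RhoP r (rho φ I s L) where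
  iso := fun ⟨e⟩ => rho_iso φ I s L hQi e
  fam T _ _ _ F hF hp h _ := by
    rintro ⟨q⟩
    have hQ := hadm T F hF hp
    have h1 := Th.thetaIdeal_ideal hdim (N := N) (E := tw F L)
      (K703.Basic.isFinLocFree_of_rank hF) (twTw F ι) q
    rw [← hfam T _ hQ] at h1
    obtain ⟨G, hG⟩ := fam (k := k) I s (φ.app T (tw F L) trivial ⟨trivial, hQ⟩).left h1
    exact ⟨G, fun p hp hne => by rw [hG p hne, rho_ip φ I s L hQi hQp hQ p hp]⟩

end main

end K670.Rho
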