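import Groth.Agent.BunMod.K670.HOne
import Groth.Agent.BunMod.K757.OnM

/-!
# S16653 from the atlas and the theta ideal
-/

set_option autoImplicit false
universe u

open CategoryTheory CategoryTheory.Limits AlgebraicGeometry TopologicalSpace

namespace K670.Row

open K140.BM K670.One

variable {k : Type u} [Field k] [IsAlgClosed k] {X : Scheme.{u}} [X.Over (Spec (CommRingCat.of k))]
  [IsProper (X ↘ Spec (CommRingCat.of k))] [Smooth (X ↘ Spec (CommRingCat.of k))]
  [GeometricallyConnected (X ↘ Spec (CommRingCat.of k))]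

/-- `h⁰(M, Θ) = 1` for ANY best approximation, from one atlas; `htm` is `theta_main` for the atlases. -/
theorem main (hdim : topologicalKrullDim X = 1) {g : ℕ}
    (hg : Curv2.genus k X = g) {r : ℕ} (hr : 2 ≤ r) {N : X.Modules} (hN : PicF.IsInvertible N)
    (hd : Curv2.deg k X N 1 = (g : ℤ) - 1) (A : AtlasC k X (BunMod.ussOK (st k X) r 0))
    (hZ : IsIntegral A.Z.left) (hAM : IsIntegral A.M.left)
    (htm : ∀ (A : AtlasC k X (BunMod.ussOK (st k X) r 0)) (φ : (BunMod.USS (st k X) r 0).Hom ⊤ A.M)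
      (_ : ∀ (T : Over (B0 k)) (c : T ⟶ A.Z) (h : (BunMod.USS (st k X) r 0).ok T (pl k X c A.E)),
        φ.app T (pl k X c A.E) trivial h = c ≫ A.π),
      (vI φ N).comap A.π.left = thetaIdeal k N A.Z A.E ∧ BlowUp.IsEffCartierIdeal (vI φ N))
    {M : Over (B0 k)} (φ : (BunMod.USS (st k X) r 0).Hom ⊤ M)
    (hM : ModFun.IsBestApprox ⊤ (BunMod.USS (st k X) r 0) M φ) (Θ : M.left.Modules)
    (hΘ : BunMod.IsThetaLB (st k X) (BunMod.ussOK (st k X) r 0) φ N Θ) :
    @Module.finrank k (Coh.HH M.left Θ 0) _ _ (@Coh.moduleOver k _ M.left ⟨M.hom⟩ Θ 0) = 1 := by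
  obtain ⟨-, e, he⟩ := K757.OnM.exists_uss A hM
  have h1 := K757.OnM.isIso_left e
  have h2 : IsIntegral M.left := by
    have h3 : IsIso e.hom.left := h1
    have h4 : Nonempty M.left := ⟨e.hom.left (Classical.arbitrary A.M.left)⟩
    exact isIntegral_of_isOpenImmersion (inv e.hom.left)
  have hZ' : IsIntegral (K757.OnM.ofIso A e).Z.left := hZ
  have hM' : IsIntegral (K757.OnM.ofIso A e).M.left := h2
  obtain ⟨h5, h6⟩ := htm (K757.OnM.ofIso A e) φ he
  exact HOne.main hdim hg hr hN hd (K757.OnM.ofIso A e) φ he h5 h6 Θ hΘ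

end K670.Row
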